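import Groth.Agent.Lib.Helper2.InjHull
import Mathlib.RingTheory.Ideal.AssociatedPrime.Basic
import Mathlib.RingTheory.LocalRing.ResidueField.Ideal
import Mathlib.RingTheory.Localization.FractionRing

/-!
# Indecomposable injective modules (helper2)
-/

set_option autoImplicit false

namespace Groth.Agent.Lib.Helper2

open Function

universe u v

section Indecomposable

variable {R : Type u} [CommRing R] {E : Type v} [AddCommGroup E] [Module R E]

/-- In an indecomposable injective module every nonzero submodule is essential. -/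
theorem essIn_top_of_indecomposable (hE : InjHull.IsIndecomposable R E)
    (hinj : Module.Injective R E) (N : Submodule R E) (hN : N ≠ ⊥) : EssIn N ⊤ := by
  obtain ⟨E₁, hNE, hEss, -, C, hC⟩ := exists_injective_essential_submodule hinj N
  rcases hE.2 E₁ C hC with h | h
  · exact absurd (le_bot_iff.mp (h ▸ hNE)) hN
  · have h1 : E₁ = ⊤ := by
      have := hC.sup_eq_top
      rwa [h, sup_bot_eq] at this
    intro x _ hx
    exact hEss x (h1 ▸ Submodule.mem_top) hx

theorem inf_ne_bot_of_indecomposable (hE : InjHull.IsIndecomposable R E)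
    (hinj : Module.Injective R E) (N N' : Submodule R E) (hN : N ≠ ⊥) (hN' : N' ≠ ⊥) :
    N ⊓ N' ≠ ⊥ := by
  obtain ⟨x, hxN', hx0⟩ := (Submodule.ne_bot_iff _).mp hN'
  obtain ⟨r, hr0, hr⟩ := essIn_top_of_indecomposable hE hinj N hN x Submodule.mem_top hx0
  exact (Submodule.ne_bot_iff _).mpr ⟨r • x, ⟨hr, N'.smul_mem r hxN'⟩, hr0⟩

/-- The zero divisors on an indecomposable injective module form a prime ideal. -/
theorem exists_prime_zeroDivisors_of_indecomposable (hE : InjHull.IsIndecomposable R E)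
    (hinj : Module.Injective R E) :
    ∃ p : Ideal R, p.IsPrime ∧ (p : Set R) = {r : R | ∃ x : E, x ≠ 0 ∧ r • x = 0} := by
  haveI := hE.1
  obtain ⟨x₀, hx₀⟩ := exists_ne (0 : E)
  let p : Ideal R :=
    { carrier := {r : R | ∃ x : E, x ≠ 0 ∧ r • x = 0}
      zero_mem' := ⟨x₀, hx₀, zero_smul R x₀⟩
      add_mem' := by
        rintro r s ⟨x, hx, hrx⟩ ⟨y, hy, hsy⟩
        have h1 : Submodule.span R {x} ≠ ⊥ := by
          rw [Ne, Submodule.span_singleton_eq_bot]; exact hx
        have h2 : Submodule.span R {y} ≠ ⊥ := by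
          rw [Ne, Submodule.span_singleton_eq_bot]; exact hy
        obtain ⟨z, hz, hz0⟩ := (Submodule.ne_bot_iff _).mp
          (inf_ne_bot_of_indecomposable hE hinj _ _ h1 h2)
        obtain ⟨a, ha⟩ := Submodule.mem_span_singleton.mp hz.1
        obtain ⟨b, hb⟩ := Submodule.mem_span_singleton.mp hz.2
        refine ⟨z, hz0, ?_⟩
        rw [add_smul]
        nth_rw 1 [← ha]
        rw [← hb, smul_comm r a x, smul_comm s b y, hrx, hsy, smul_zero, smul_zero, add_zero]
      smul_mem' := by
        rintro c r ⟨x, hx, hrx⟩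
        exact ⟨x, hx, by rw [smul_eq_mul, mul_smul, hrx, smul_zero]⟩ }
  refine ⟨p, ⟨?_, ?_⟩, rfl⟩
  · rw [Ne, Ideal.eq_top_iff_one]
    rintro ⟨x, hx, h1x⟩
    rw [one_smul] at h1x
    exact hx h1x
  · rintro r s ⟨x, hx, hrsx⟩
    by_cases hsx : s • x = 0
    · exact Or.inr ⟨x, hx, hsx⟩
    · exact Or.inl ⟨s • x, hsx, by rw [← mul_smul]; exact hrsx⟩

end Indecomposable

section Prime

variable {R : Type u} [CommRing R] (p : Ideal R) [p.IsPrime]
variable {E : Type u} [AddCommGroup E] [Module R E]

/-- An essential extension of `R/p` is indecomposable. -/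
theorem isIndecomposable_of_essential_quotient_prime (f : (R ⧸ p) →ₗ[R] E) (hf : Injective f)
    (hess : EssElt f) : InjHull.IsIndecomposable R E := by
  refine ⟨?_, ?_⟩
  · exact ⟨⟨f 1, 0, fun h => one_ne_zero (hf (by rw [h, map_zero]))⟩⟩
  · intro N N' hNN'
    by_contra hcon
    push Not at hcon
    obtain ⟨hN, hN'⟩ := hcon
    obtain ⟨x, hxN, hx0⟩ := (Submodule.ne_bot_iff _).mp hN
    obtain ⟨y, hyN', hy0⟩ := (Submodule.ne_bot_iff _).mp hN'
    obtain ⟨r, hr0, ⟨a, ha⟩⟩ := hess x hx0
    obtain ⟨s, hs0, ⟨b, hb⟩⟩ := hess y hy0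
    have ha0 : a ≠ 0 := by rintro rfl; exact hr0 (by rw [← ha, map_zero])
    have hb0 : b ≠ 0 := by rintro rfl; exact hs0 (by rw [← hb, map_zero])
    obtain ⟨a', rfl⟩ := Ideal.Quotient.mk_surjective a
    obtain ⟨b', rfl⟩ := Ideal.Quotient.mk_surjective b
    have h1 : f (Ideal.Quotient.mk p (b' * a')) ∈ N := by
      have : Ideal.Quotient.mk p (b' * a') = b' • Ideal.Quotient.mk p a' := by
        rw [map_mul]; rfl
      rw [this, map_smul, ha]
      exact N.smul_mem _ (N.smul_mem _ hxN)
    have h2 : f (Ideal.Quotient.mk p (b' * a')) ∈ N' := by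
      have : Ideal.Quotient.mk p (b' * a') = a' • Ideal.Quotient.mk p b' := by
        rw [mul_comm, map_mul]; rfl
      rw [this, map_smul, hb]
      exact N'.smul_mem _ (N'.smul_mem _ hyN')
    have h3 : f (Ideal.Quotient.mk p (b' * a')) = 0 :=
      Submodule.disjoint_def.mp hNN'.disjoint _ h1 h2
    have h4 : Ideal.Quotient.mk p (b' * a') = 0 := hf (by rw [h3, map_zero])
    rw [map_mul] at h4
    rcases mul_eq_zero.mp h4 with h | h
    · exact hb0 h
    · exact ha0 h

/-- The residue field `κ(p)` is an essential extension of `R/p`. -/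
theorem essElt_quotient_residueField :
    EssElt ((Algebra.linearMap (R ⧸ p) p.ResidueField).restrictScalars R) := by
  intro x hx
  obtain ⟨a, s, hs, rfl⟩ := IsFractionRing.div_surjective (A := R ⧸ p) x
  obtain ⟨s', rfl⟩ := Ideal.Quotient.mk_surjective s
  have hs0 : algebraMap (R ⧸ p) p.ResidueField (Ideal.Quotient.mk p s') ≠ 0 := by
    intro h
    apply hx
    rw [h, div_zero]
  have key : s' • (algebraMap (R ⧸ p) p.ResidueField a /
      algebraMap (R ⧸ p) p.ResidueField (Ideal.Quotient.mk p s')) =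
      algebraMap (R ⧸ p) p.ResidueField a := by
    rw [Algebra.smul_def, IsScalarTower.algebraMap_apply R (R ⧸ p) p.ResidueField,
      Ideal.Quotient.algebraMap_eq, mul_div_cancel₀ _ hs0]
  refine ⟨s', ?_, ⟨a, ?_⟩⟩
  · rw [key]
    intro h
    apply hx
    rw [h, zero_div]
  · rw [key]
    rfl

/-- An injective hull of `R/p` is also an injective hull of `κ(p)`. -/
theorem exists_isInjectiveHull_residueField (f : (R ⧸ p) →ₗ[R] E) (hf : InjHull.IsInjectiveHull f) :
    ∃ g : p.ResidueField →ₗ[R] E, InjHull.IsInjectiveHull g ∧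
      ∀ a, g (algebraMap (R ⧸ p) p.ResidueField a) = f a := by
  set ι : (R ⧸ p) →ₗ[R] p.ResidueField :=
    (Algebra.linearMap (R ⧸ p) p.ResidueField).restrictScalars R with hι
  have hιinj : Injective ι := IsFractionRing.injective (R ⧸ p) p.ResidueField
  obtain ⟨g, hg⟩ := hf.isInjective.out ι hιinj f
  have hgι : g ∘ₗ ι = f := LinearMap.ext hg
  refine ⟨g, isInjectiveHull_mk ?_ ?_ hf.isInjective, hg⟩
  · exact injective_of_essElt_comp (essElt_quotient_residueField p) g
      (by rw [hgι]; exact hf.injective)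
  · apply EssElt.of_comp (f := ι)
    rw [hgι]
    exact hf.toIsEssentialInj.essElt

end Prime

section Noetherian

variable {R : Type u} [CommRing R] [IsNoetherianRing R] {E : Type u} [AddCommGroup E] [Module R E]

/-- Over a Noetherian ring, an indecomposable injective is the hull of some `R/p`. -/
theorem exists_isInjectiveHull_quotient_prime_of_indecomposable
    (hE : InjHull.IsIndecomposable R E) (hinj : Module.Injective R E) :
    ∃ (p : Ideal R) (_ : p.IsPrime) (f : (R ⧸ p) →ₗ[R] E), InjHull.IsInjectiveHull f := by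
  haveI := hE.1
  obtain ⟨p, hp⟩ := associatedPrimes.nonempty R E
  obtain ⟨hpp, f, hf⟩ := (isAssociatedPrime_iff_exists_injective_linearMap p E).mp hp
  refine ⟨p, hpp, f, isInjectiveHull_mk hf ?_ hinj⟩
  have hne : LinearMap.range f ≠ ⊥ := by
    intro h
    have h1 : f 1 ∈ LinearMap.range f := ⟨1, rfl⟩
    rw [h, Submodule.mem_bot] at h1
    haveI : Nontrivial (R ⧸ p) := Ideal.Quotient.nontrivial_iff.mpr hpp.ne_top
    exact one_ne_zero (hf (by rw [h1, map_zero]))
  intro x hx
  exact essIn_top_of_indecomposable hE hinj _ hne x Submodule.mem_top hx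

end Noetherian

end Groth.Agent.Lib.Helper2
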