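import Groth.Agent.Lib.Helper2.InjHull5
import Mathlib.RingTheory.LocalRing.ResidueField.Basic
import Mathlib.RingTheory.LocalRing.RingHom.Basic

/-!
# Transport of hulls; residue field of a quotient of a local ring (helper2)
-/

set_option autoImplicit false

namespace Groth.Agent.Lib.Helper2

open Function IsLocalRing

universe u v

section Transport

variable {R : Type u} [CommRing R] {M M' E E' : Type v} [AddCommGroup M] [Module R M]
  [AddCommGroup M'] [Module R M'] [AddCommGroup E] [Module R E] [AddCommGroup E'] [Module R E']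

theorem isInjectiveHull_comp_equiv (e : M' ≃ₗ[R] M) (f : M →ₗ[R] E)
    (hf : InjHull.IsInjectiveHull f) : InjHull.IsInjectiveHull (f ∘ₗ e.toLinearMap) := by
  refine isInjectiveHull_mk (hf.injective.comp e.injective) ?_ hf.isInjective
  apply EssElt.of_range_le hf.toIsEssentialInj.essElt
  rintro _ ⟨x, rfl⟩
  exact ⟨e.symm x, by simp⟩

theorem injective_of_linearEquiv (e : E ≃ₗ[R] E') (hE : Module.Injective R E) :
    Module.Injective R E' := by
  refine ⟨fun X Y _ _ _ _ a ha g => ?_⟩
  obtain ⟨k, hk⟩ := hE.out a ha (e.symm.toLinearMap ∘ₗ g)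
  exact ⟨e.toLinearMap ∘ₗ k, fun x => by simp [hk]⟩

theorem isInjectiveHull_equiv_comp (e : E ≃ₗ[R] E') (f : M →ₗ[R] E)
    (hf : InjHull.IsInjectiveHull f) : InjHull.IsInjectiveHull (e.toLinearMap ∘ₗ f) := by
  refine isInjectiveHull_mk (e.injective.comp hf.injective) ?_
    (injective_of_linearEquiv e hf.isInjective)
  exact EssElt.comp hf.toIsEssentialInj.essElt (essElt_of_surjective e.surjective) e.injective

end Transport

section QuotLocal

variable {A : Type u} [CommRing A] [IsLocalRing A] (a : Ideal A) [IsLocalRing (A ⧸ a)]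

theorem ker_linearMap_residueField_quotient :
    LinearMap.ker (Algebra.linearMap A (ResidueField (A ⧸ a))) = maximalIdeal A := by
  haveI : IsLocalHom (Ideal.Quotient.mk a) :=
    IsLocalHom.of_surjective _ Ideal.Quotient.mk_surjective
  ext x
  rw [LinearMap.mem_ker, Algebra.linearMap_apply,
    IsScalarTower.algebraMap_apply A (A ⧸ a) (ResidueField (A ⧸ a)),
    ResidueField.algebraMap_eq, residue_eq_zero_iff, Ideal.Quotient.algebraMap_eq,
    mem_maximalIdeal, mem_maximalIdeal, mem_nonunits_iff, mem_nonunits_iff, not_iff_not]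
  exact isUnit_map_iff (Ideal.Quotient.mk a) x

theorem surjective_linearMap_residueField_quotient :
    Surjective (Algebra.linearMap A (ResidueField (A ⧸ a))) := by
  intro y
  obtain ⟨y, rfl⟩ := residue_surjective y
  obtain ⟨y, rfl⟩ := Ideal.Quotient.mk_surjective y
  exact ⟨y, rfl⟩

/-- The residue field of `A/a` is `A/m` as an `A`-module. -/
noncomputable def residueFieldQuotientEquiv :
    (A ⧸ maximalIdeal A) ≃ₗ[A] ResidueField (A ⧸ a) :=
  (Submodule.quotEquivOfEq _ _ (ker_linearMap_residueField_quotient a).symm).trans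
    ((Algebra.linearMap A (ResidueField (A ⧸ a))).quotKerEquivOfSurjective
      (surjective_linearMap_residueField_quotient a))

/-- `E[a]` is an injective hull of the residue field of `A/a` over `A/a`. -/
theorem exists_isInjectiveHull_torsionBy_quotient_local {E : Type u} [AddCommGroup E] [Module A E]
    (f : ResidueField A →ₗ[A] E) (hf : InjHull.IsInjectiveHull f) :
    ∃ g : ResidueField (A ⧸ a) →ₗ[A ⧸ a] ↥(LocCoh.torsionBy a E), InjHull.IsInjectiveHull g := by
  let f0 : (A ⧸ maximalIdeal A) →ₗ[A] E := f
  have hf0 : InjHull.IsInjectiveHull f0 := hf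
  have hf' := isInjectiveHull_comp_equiv (residueFieldQuotientEquiv a).symm f0 hf0
  obtain ⟨g, hg, -⟩ := exists_isInjectiveHull_torsionBySet a _ hf'
  exact ⟨g, hg⟩

end QuotLocal

end Groth.Agent.Lib.Helper2
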