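import Groth.Agent.Lib.Helper2.LocalFlat
import Mathlib.RingTheory.LocalRing.ResidueField.Basic

/-!
# Injectivity modulo the maximal ideal implies universal injectivity (Stacks 00ME) (helper2)

`R → S` a ring map with `R` local, `S` Noetherian, `𝔪_R S ⊆ rad S`; `u : N → M` an `R`-linear map
from a finite `S`-module `N` to a flat `R`-module `M` such that `k ⊗ u` is injective.  Then
`u ⊗ T` is injective for every finite `R`-module `T`; in particular `u` is injective and
`M / u(N)` is `R`-flat.
-/

set_option autoImplicit false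

namespace Groth.Agent.Lib.Helper2

open TensorProduct Function

section Residue

universe u

variable {R M N : Type u} [CommRing R] [IsLocalRing R] [AddCommGroup M] [Module R M]
  [AddCommGroup N] [Module R N]

/-- `u ⊗ T` is injective for `T` killed by the maximal ideal. -/
theorem rTensor_injective_of_residue (u : N →ₗ[R] M)
    (h : Injective (LinearMap.lTensor (IsLocalRing.ResidueField R) u))
    (T : Type u) [AddCommGroup T] [Module R T]
    (hT : ∀ a ∈ IsLocalRing.maximalIdeal R, ∀ t : T, a • t = 0) : Injective (u.rTensor T) := by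
  have hT' : Module.IsTorsionBySet R T (IsLocalRing.maximalIdeal R) := fun t a => hT a.1 a.2 t
  letI : Module (IsLocalRing.ResidueField R) T := hT'.module
  haveI : IsScalarTower R (IsLocalRing.ResidueField R) T :=
    Module.IsTorsionBySet.isScalarTower hT'
  rw [← LinearMap.lTensor_inj_iff_rTensor_inj]
  apply lTensor_injective_of_baseChange (A := IsLocalRing.ResidueField R) u
  exact Module.Flat.lTensor_preserves_injective_linearMap
    (u.baseChange (IsLocalRing.ResidueField R)) h

end Residue

section

universe u

variable {R S M N : Type u} [CommRing R] [CommRing S] [IsLocalRing R] [IsNoetherianRing S]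
  [Algebra R S] [AddCommGroup M] [Module R M] [Module.Flat R M]
  [AddCommGroup N] [Module R N] [Module S N] [IsScalarTower R S N] [Module.Finite S N]

omit [Module.Flat R M] [Module.Finite S N] [IsNoetherianRing S] [IsLocalRing R] in
/-- step: if `u ⊗ (T/𝔞ⁿT)` is injective then the kernel of `u ⊗ T` lies in the image of
`N ⊗ 𝔞ⁿT`. -/
theorem mem_range_of_rTensor_eq_zero (u : N →ₗ[R] M) {T : Type u} [AddCommGroup T] [Module R T]
    (T₀ : Submodule R T) (hinj : Injective (u.rTensor (T ⧸ T₀))) (x : N ⊗[R] T)
    (hx : u.rTensor T x = 0) : x ∈ LinearMap.range (LinearMap.lTensor N T₀.subtype) := by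
  have h1 : u.rTensor (T ⧸ T₀) (T₀.mkQ.lTensor N x) = 0 := by
    rw [← LinearMap.comp_apply, LinearMap.rTensor_comp_lTensor, ← LinearMap.lTensor_comp_rTensor,
      LinearMap.comp_apply, hx, map_zero]
  have h2 : T₀.mkQ.lTensor N x = 0 := hinj (by rw [h1, map_zero])
  exact (lTensor_exact N (LinearMap.exact_subtype_mkQ T₀) (Submodule.mkQ_surjective T₀) x).mp h2

/-- `u ⊗ T` is injective for every finite `R`-module `T`. -/
theorem rTensor_injective_of_finite (u : N →ₗ[R] M)
    (hm : (IsLocalRing.maximalIdeal R).map (algebraMap R S) ≤ Ideal.jacobson ⊥)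
    (h : Injective (LinearMap.lTensor (IsLocalRing.ResidueField R) u))
    (T : Type u) [AddCommGroup T] [Module R T] [Module.Finite R T] : Injective (u.rTensor T) := by
  have hpow := rTensor_injective_of_pow_torsion.{u} u (IsLocalRing.maximalIdeal R)
    (fun T _ _ hT => rTensor_injective_of_residue u h T hT)
  rw [injective_iff_map_eq_zero]
  intro x hx
  apply eq_zero_of_forall_mem_range (S := S) (IsLocalRing.maximalIdeal R) hm x
  intro n
  set T₀ : Submodule R T := (IsLocalRing.maximalIdeal R) ^ n • (⊤ : Submodule R T) with hT₀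
  have hkill : ∀ a ∈ (IsLocalRing.maximalIdeal R) ^ n, ∀ t : T ⧸ T₀, a • t = 0 := by
    intro a ha t
    obtain ⟨t, rfl⟩ := Submodule.mkQ_surjective T₀ t
    rw [← map_smul]
    exact (Submodule.Quotient.mk_eq_zero T₀).mpr (Submodule.smul_mem_smul ha Submodule.mem_top)
  exact mem_range_of_rTensor_eq_zero u T₀ (hpow n _ hkill) x hx

/-- Stacks 00ME. -/
theorem injective_and_flat_quotient (u : N →ₗ[R] M)
    (hm : (IsLocalRing.maximalIdeal R).map (algebraMap R S) ≤ Ideal.jacobson ⊥)
    (h : Injective (LinearMap.lTensor (IsLocalRing.ResidueField R) u)) :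
    Injective u ∧ Module.Flat R (M ⧸ LinearMap.range u) := by
  have key := fun (T : Type u) [AddCommGroup T] [Module R T] [Module.Finite R T] =>
    rTensor_injective_of_finite (S := S) u hm h T
  constructor
  · intro x y hxy
    have h1 : u.rTensor R (x ⊗ₜ[R] (1 : R)) = u.rTensor R (y ⊗ₜ[R] (1 : R)) := by
      rw [LinearMap.rTensor_tmul, LinearMap.rTensor_tmul, hxy]
    have h2 := key R h1
    have h3 := congrArg (TensorProduct.rid R N) h2
    simpa using h3
  · rw [Module.Flat.iff_lTensor_injective']
    intro J
    exact lTensor_injective_of_exact_of_exact_of_rTensor_injective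
      (LinearMap.exact_map_mkQ_range u) (Submodule.mkQ_surjective _)
      (LinearMap.exact_subtype_mkQ J) (Submodule.mkQ_surjective J) (key (R ⧸ J))
      (Module.Flat.lTensor_preserves_injective_linearMap J.subtype J.subtype_injective)

end

section Elementwise

variable {R : Type*} [CommRing R] {N M : Type*} [AddCommGroup N] [Module R N]
  [AddCommGroup M] [Module R M]

/-- Elementwise criterion for injectivity of `(R/I) ⊗ u`. -/
theorem lTensor_quotient_injective_of_forall (I : Ideal R) (u : N →ₗ[R] M)
    (h : ∀ n : N, u n ∈ (I • ⊤ : Submodule R M) → n ∈ (I • ⊤ : Submodule R N)) :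
    Injective (LinearMap.lTensor (R ⧸ I) u) := by
  rw [injective_iff_map_eq_zero]
  intro z hz
  let eN := TensorProduct.quotTensorEquivQuotSMul N I
  let eM := TensorProduct.quotTensorEquivQuotSMul M I
  obtain ⟨n, hn⟩ := Submodule.mkQ_surjective _ (eN z)
  have hz' : z = (1 : R ⧸ I) ⊗ₜ[R] n := by
    apply eN.injective
    rw [TensorProduct.quotTensorEquivQuotSMul_mk_one_tmul]
    exact hn.symm
  rw [hz', LinearMap.lTensor_tmul] at hz
  have h1 : eM ((1 : R ⧸ I) ⊗ₜ[R] u n) = 0 := by rw [hz, map_zero]
  rw [TensorProduct.quotTensorEquivQuotSMul_mk_one_tmul] at h1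
  have h2 := h n ((Submodule.Quotient.mk_eq_zero _).mp h1)
  rw [hz']
  apply eN.injective
  rw [TensorProduct.quotTensorEquivQuotSMul_mk_one_tmul, map_zero]
  exact (Submodule.Quotient.mk_eq_zero _).mpr h2

/-- the version for the residue field of a local ring -/
theorem lTensor_residueField_injective_of_forall [IsLocalRing R] (u : N →ₗ[R] M)
    (h : ∀ n : N, u n ∈ (IsLocalRing.maximalIdeal R • ⊤ : Submodule R M) →
      n ∈ (IsLocalRing.maximalIdeal R • ⊤ : Submodule R N)) :
    Injective (LinearMap.lTensor (IsLocalRing.ResidueField R) u) :=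
  lTensor_quotient_injective_of_forall (IsLocalRing.maximalIdeal R) u h

end Elementwise

end Groth.Agent.Lib.Helper2
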