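import Groth.Prelude.Def_Wider
import Mathlib.RingTheory.AdicCompletion.Algebra

/-!
# The action of the `I`-adic completion on an `I`-power torsion module (helper2)

For an `I`-power torsion `R`-module `T` we construct the `R`-algebra map
`adicEnd : AdicCompletion I R →ₐ[R] Module.End R T`, characterised by
`adicEnd a x = r • x` whenever `I ^ N` kills `x` and `a ≡ r` modulo `I ^ N`.
-/

set_option autoImplicit false

namespace Groth.Agent.Lib.Helper2

open Function

universe u v

section AdicAction

variable {R : Type u} [CommRing R] (I : Ideal R) {T : Type v} [AddCommGroup T] [Module R T]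

theorem smul_eq_smul_of_sub_mem {x : T} {N : ℕ} (hN : ∀ b ∈ I ^ N, b • x = 0) {r s : R}
    (h : r - s ∈ I ^ N) : r • x = s • x := by
  have := hN _ h
  rwa [sub_smul, sub_eq_zero] at this

theorem cauchy_sub_mem (c : AdicCompletion.AdicCauchySequence I R) {m n : ℕ} (hmn : m ≤ n) :
    c m - c n ∈ I ^ m := by
  have h := c.2 hmn
  rw [SModEq.sub_mem] at h
  simpa using h

variable (hT : LocCoh.IsPowerTorsion I T)

/-- An exponent `n` such that `I ^ n` kills `x`. -/
noncomputable def killExp (x : T) : ℕ := Classical.choose (hT x)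

theorem killExp_spec (x : T) : ∀ a ∈ I ^ killExp I hT x, a • x = 0 :=
  Classical.choose_spec (hT x)

/-- The action of the completion on a power torsion module. -/
noncomputable def adicSMul (a : AdicCompletion I R) (x : T) : T :=
  (Classical.choose (Ideal.Quotient.mk_surjective (AdicCompletion.evalₐ I (killExp I hT x) a))) • x

theorem adicSMul_eq (a : AdicCompletion I R) (x : T) (N : ℕ) (hN : ∀ b ∈ I ^ N, b • x = 0) (r : R)
    (hr : AdicCompletion.evalₐ I N a = Ideal.Quotient.mk (I ^ N) r) :
    adicSMul I hT a x = r • x := by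
  unfold adicSMul
  set n := killExp I hT x with hn
  have hkill := killExp_spec I hT x
  rw [← hn] at hkill
  set r₀ := Classical.choose (Ideal.Quotient.mk_surjective (AdicCompletion.evalₐ I n a)) with hr₀
  have hr₀s : Ideal.Quotient.mk (I ^ n) r₀ = AdicCompletion.evalₐ I n a :=
    Classical.choose_spec (Ideal.Quotient.mk_surjective (AdicCompletion.evalₐ I n a))
  obtain ⟨c, rfl⟩ := AdicCompletion.mk_surjective I R a
  rw [AdicCompletion.evalₐ_mk] at hr₀s hr
  have h1 : r₀ - c.val n ∈ I ^ n := by
    rw [← Ideal.Quotient.eq]; exact hr₀s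
  have h2 : c.val N - r ∈ I ^ N := by
    rw [← Ideal.Quotient.eq]; exact hr
  rw [smul_eq_smul_of_sub_mem I hkill h1, ← smul_eq_smul_of_sub_mem I hN h2]
  rcases le_total n N with h | h
  · exact smul_eq_smul_of_sub_mem I hkill (cauchy_sub_mem I c h)
  · refine (smul_eq_smul_of_sub_mem I hN (cauchy_sub_mem I c h)).symm

theorem exists_rep (a : AdicCompletion I R) (N : ℕ) :
    ∃ r : R, AdicCompletion.evalₐ I N a = Ideal.Quotient.mk (I ^ N) r := by
  obtain ⟨r, hr⟩ := Ideal.Quotient.mk_surjective (AdicCompletion.evalₐ I N a)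
  exact ⟨r, hr.symm⟩

theorem kill_of_le {x : T} {n N : ℕ} (h : n ≤ N) (hn : ∀ b ∈ I ^ n, b • x = 0) :
    ∀ b ∈ I ^ N, b • x = 0 := fun b hb => hn b (Ideal.pow_le_pow_right h hb)

/-- The `R`-algebra map from the completion to the endomorphisms of a power torsion module. -/
noncomputable def adicEnd : AdicCompletion I R →ₐ[R] Module.End R T where
  toFun a :=
    { toFun := adicSMul I hT a
      map_add' := by
        intro x y
        set N := killExp I hT x + killExp I hT y
        have hx := kill_of_le I (Nat.le_add_right _ _ : _ ≤ N) (killExp_spec I hT x)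
        have hy := kill_of_le I (Nat.le_add_left _ _ : _ ≤ N) (killExp_spec I hT y)
        have hxy : ∀ b ∈ I ^ N, b • (x + y) = 0 := fun b hb => by
          rw [smul_add, hx b hb, hy b hb, add_zero]
        obtain ⟨r, hr⟩ := exists_rep I a N
        rw [adicSMul_eq I hT a x N hx r hr, adicSMul_eq I hT a y N hy r hr,
          adicSMul_eq I hT a (x + y) N hxy r hr, smul_add]
      map_smul' := by
        intro s x
        set N := killExp I hT x
        have hx := killExp_spec I hT x
        have hsx : ∀ b ∈ I ^ N, b • (s • x) = 0 := fun b hb => by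
          rw [smul_comm, hx b hb, smul_zero]
        obtain ⟨r, hr⟩ := exists_rep I a N
        rw [adicSMul_eq I hT a x N hx r hr, adicSMul_eq I hT a (s • x) N hsx r hr,
          RingHom.id_apply, smul_comm] }
  map_one' := by
    ext x
    change adicSMul I hT 1 x = x
    rw [adicSMul_eq I hT 1 x _ (killExp_spec I hT x) 1 (by rw [map_one, map_one]), one_smul]
  map_mul' := by
    intro a b
    ext x
    change adicSMul I hT (a * b) x = adicSMul I hT a (adicSMul I hT b x)
    set N := killExp I hT x
    have hx := killExp_spec I hT x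
    obtain ⟨r, hr⟩ := exists_rep I a N
    obtain ⟨s, hs⟩ := exists_rep I b N
    have hsx : ∀ c ∈ I ^ N, c • (s • x) = 0 := fun c hc => by
      rw [smul_comm, hx c hc, smul_zero]
    rw [adicSMul_eq I hT b x N hx s hs, adicSMul_eq I hT a (s • x) N hsx r hr,
      adicSMul_eq I hT (a * b) x N hx (r * s) (by rw [map_mul, map_mul, hr, hs]), mul_smul]
  map_zero' := by
    ext x
    change adicSMul I hT 0 x = 0
    rw [adicSMul_eq I hT 0 x _ (killExp_spec I hT x) 0 (by rw [map_zero, map_zero]), zero_smul]
  map_add' := by
    intro a b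
    ext x
    change adicSMul I hT (a + b) x = adicSMul I hT a x + adicSMul I hT b x
    set N := killExp I hT x
    have hx := killExp_spec I hT x
    obtain ⟨r, hr⟩ := exists_rep I a N
    obtain ⟨s, hs⟩ := exists_rep I b N
    rw [adicSMul_eq I hT a x N hx r hr, adicSMul_eq I hT b x N hx s hs,
      adicSMul_eq I hT (a + b) x N hx (r + s) (by rw [map_add, map_add, hr, hs]), add_smul]
  commutes' := by
    intro r
    ext x
    change adicSMul I hT (algebraMap R _ r) x = r • x
    exact adicSMul_eq I hT _ x _ (killExp_spec I hT x) r (by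
      rw [AlgHom.commutes]; rfl)

theorem adicEnd_apply_eq (a : AdicCompletion I R) (x : T) (N : ℕ) (hN : ∀ b ∈ I ^ N, b • x = 0)
    (r : R) (hr : AdicCompletion.evalₐ I N a = Ideal.Quotient.mk (I ^ N) r) :
    adicEnd I hT a x = r • x :=
  adicSMul_eq I hT a x N hN r hr

end AdicAction

end Groth.Agent.Lib.Helper2
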