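import Groth.Agent.Lib.Helper2.Matlis1
import Groth.Agent.Lib.Helper2.AdicAction
import Mathlib.RingTheory.Ideal.KrullsHeightTheorem
import Mathlib.RingTheory.HopkinsLevitzki

/-!
# Matlis duality, part 2: `End(E(k)) ≅ R^` (helper2)
-/

set_option autoImplicit false

namespace Groth.Agent.Lib.Helper2

open Function IsLocalRing

universe u

section

variable {R : Type u} [CommRing R] [IsLocalRing R] [IsNoetherianRing R]

/-- `R/m^n` has finite length over a Noetherian local ring. -/
theorem isFiniteLength_quotient_pow (n : ℕ) : IsFiniteLength R (R ⧸ maximalIdeal R ^ n) := by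
  rw [isFiniteLength_iff_isNoetherian_isArtinian]
  refine ⟨inferInstance, ?_⟩
  rcases Nat.eq_zero_or_pos n with rfl | hn
  · haveI : Subsingleton (R ⧸ maximalIdeal R ^ 0) := by
      rw [pow_zero, Ideal.one_eq_top]
      exact Submodule.Quotient.subsingleton_iff.mpr rfl
    haveI : Finite (R ⧸ maximalIdeal R ^ 0) := Finite.of_subsingleton
    exact isArtinian_of_finite
  · have hmin : maximalIdeal R ∈ (maximalIdeal R ^ n).minimalPrimes := by
      refine ⟨⟨inferInstance, Ideal.pow_le_self hn.ne'⟩, ?_⟩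
      rintro q ⟨hq, hle⟩ _
      exact hq.le_of_pow_le hle
    haveI : IsArtinianRing (R ⧸ maximalIdeal R ^ n) :=
      IsLocalRing.quotient_artinian_of_mem_minimalPrimes_of_isLocalRing _ hmin
    exact isArtinian_of_surjective_algebraMap (R := R ⧸ maximalIdeal R ^ n)
      (M := R ⧸ maximalIdeal R ^ n) (S := R) Ideal.Quotient.mk_surjective

variable {E : Type u} [AddCommGroup E] [Module R E]

/-- Faithfulness: an element outside `m^n` does not kill `E[m^n]`. -/
theorem exists_not_kill (f : ResidueField R →ₗ[R] E) (hf : InjHull.IsInjectiveHull f) (n : ℕ)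
    (r : R) (hr : r ∉ maximalIdeal R ^ n) :
    ∃ x : E, (∀ b ∈ maximalIdeal R ^ n, b • x = 0) ∧ r • x ≠ 0 := by
  have hr0 : (Ideal.Quotient.mk (maximalIdeal R ^ n) r) ≠ 0 := by
    rwa [Ne, Ideal.Quotient.eq_zero_iff_mem]
  obtain ⟨g, hg⟩ := exists_linearMap_apply_ne_zero f hf _ hr0
  refine ⟨g (Ideal.Quotient.mk _ 1), ?_, ?_⟩
  · intro b hb
    rw [← map_smul]
    have : b • (Ideal.Quotient.mk (maximalIdeal R ^ n) 1) = 0 := by
      rw [← Ideal.Quotient.mk_eq_mk, ← Submodule.Quotient.mk_smul, Ideal.Quotient.mk_eq_mk,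
        Ideal.Quotient.eq_zero_iff_mem, smul_eq_mul, mul_one]
      exact hb
    rw [this, map_zero]
  · rw [← map_smul]
    have : r • (Ideal.Quotient.mk (maximalIdeal R ^ n) 1) = Ideal.Quotient.mk _ r := by
      rw [← Ideal.Quotient.mk_eq_mk, ← Submodule.Quotient.mk_smul, smul_eq_mul, mul_one]
      rfl
    rw [this]
    exact hg

/-- Every endomorphism of `E(k)` is multiplication by a scalar on `E[m^n]`. -/
theorem exists_scalar_on_torsion (f : ResidueField R →ₗ[R] E) (hf : InjHull.IsInjectiveHull f)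
    (φ : Module.End R E) (n : ℕ) :
    ∃ r : R, ∀ x : E, (∀ b ∈ maximalIdeal R ^ n, b • x = 0) → φ x = r • x := by
  have hbij := applyₗ_bijective_of_isFiniteLength f hf (R ⧸ maximalIdeal R ^ n)
    (isFiniteLength_quotient_pow n)
  -- the functional `g ↦ φ (g 1)`
  let θ : ((R ⧸ maximalIdeal R ^ n) →ₗ[R] E) →ₗ[R] E :=
    φ ∘ₗ (LinearMap.applyₗ (Ideal.Quotient.mk (maximalIdeal R ^ n) 1))
  obtain ⟨rbar, hrbar⟩ := hbij.2 θ
  obtain ⟨r, rfl⟩ := Ideal.Quotient.mk_surjective rbar
  refine ⟨r, fun x hx => ?_⟩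
  have hle : (maximalIdeal R ^ n : Submodule R R) ≤
      LinearMap.ker (LinearMap.toSpanSingleton R E x) := by
    intro a ha
    rw [LinearMap.mem_ker, LinearMap.toSpanSingleton_apply]
    exact hx a ha
  let gx : (R ⧸ maximalIdeal R ^ n) →ₗ[R] E :=
    Submodule.liftQ (maximalIdeal R ^ n) (LinearMap.toSpanSingleton R E x) hle
  have hgx : ∀ a : R, gx (Ideal.Quotient.mk _ a) = a • x := by
    intro a
    change gx (Submodule.Quotient.mk a) = a • x
    rw [Submodule.liftQ_apply, LinearMap.toSpanSingleton_apply]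
  have h1 := LinearMap.congr_fun hrbar gx
  simp only [LinearMap.applyₗ_apply_apply, θ, LinearMap.comp_apply] at h1
  rw [hgx, hgx, one_smul] at h1
  exact h1.symm

variable (f : ResidueField R →ₗ[R] E) (hf : InjHull.IsInjectiveHull f)

/-- The action of the completion on `E(k)`. -/
noncomputable def matlisEnd : AdicCompletion (maximalIdeal R) R →ₐ[R] Module.End R E :=
  adicEnd (maximalIdeal R) (isPowerTorsion_of_isInjectiveHull f hf)

theorem matlisEnd_apply_eq (a : AdicCompletion (maximalIdeal R) R) (x : E) (N : ℕ)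
    (hN : ∀ b ∈ maximalIdeal R ^ N, b • x = 0) (r : R)
    (hr : AdicCompletion.evalₐ (maximalIdeal R) N a = Ideal.Quotient.mk (maximalIdeal R ^ N) r) :
    matlisEnd f hf a x = r • x :=
  adicEnd_apply_eq _ _ a x N hN r hr

theorem matlisEnd_injective : Injective (matlisEnd f hf) := by
  rw [injective_iff_map_eq_zero]
  intro a ha
  apply AdicCompletion.ext_evalₐ
  intro n
  obtain ⟨r, hr⟩ := exists_rep (maximalIdeal R) a n
  rw [hr, map_zero, Ideal.Quotient.eq_zero_iff_mem]
  by_contra hrn
  obtain ⟨x, hx, hrx⟩ := exists_not_kill f hf n r hrn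
  apply hrx
  rw [← matlisEnd_apply_eq f hf a x n hx r hr, ha]
  rfl

theorem matlisEnd_surjective : Surjective (matlisEnd f hf) := by
  intro φ
  choose r hr using exists_scalar_on_torsion f hf φ
  -- the sequence `r n` is Cauchy
  have hcauchy : ∀ n, r n ≡ r (n + 1) [SMOD (maximalIdeal R ^ n • ⊤ : Submodule R R)] := by
    intro n
    rw [SModEq.sub_mem]
    have : r n - r (n + 1) ∈ maximalIdeal R ^ n := by
      by_contra hne
      obtain ⟨x, hx, hrx⟩ := exists_not_kill f hf n _ hne
      apply hrx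
      have h1 := hr n x hx
      have h2 := hr (n + 1) x (kill_of_le (maximalIdeal R) (Nat.le_succ n) hx)
      rw [sub_smul, ← h1, ← h2, sub_self]
    simpa using this
  let c : AdicCompletion.AdicCauchySequence (maximalIdeal R) R :=
    AdicCompletion.AdicCauchySequence.mk (maximalIdeal R) R r hcauchy
  refine ⟨AdicCompletion.mk (maximalIdeal R) R c, ?_⟩
  ext x
  obtain ⟨N, hN⟩ := isPowerTorsion_of_isInjectiveHull f hf x
  rw [matlisEnd_apply_eq f hf _ x N hN (r N) (by rw [AdicCompletion.evalₐ_mk]; rfl), hr N x hN]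

/-- **Matlis**: `End(E(k)) ≅ R^` as `R`-algebras. -/
noncomputable def matlisEndEquiv : Module.End R E ≃ₐ[R] AdicCompletion (maximalIdeal R) R :=
  (AlgEquiv.ofBijective (matlisEnd f hf) ⟨matlisEnd_injective f hf, matlisEnd_surjective f hf⟩).symm

end

end Groth.Agent.Lib.Helper2
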