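import Groth.Agent.Lib.Helper2.InjHull6
import Groth.Agent.Lib.Helper2.Matlis2
import Groth.Agent.S5170

/-!
# A length criterion for being an injective hull of the residue field

Over a Noetherian local ring `(A, m, k)`: if `I` is `m`-power torsion, `g : k → I` is injective with
image the whole socle of `I`, and for a sequence of ideals `a n` cofinal with the powers of `m` one has
`length (A ⧸ a n) = length Hom(A ⧸ a n, I)`, then `g` is an injective hull.
-/

set_option autoImplicit false
universe u

open Function IsLocalRing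

namespace Groth.Agent.Lib.Helper2

variable {A : Type u} [CommRing A] [IsLocalRing A]

/-- The map `A ⧸ a → E`, `1 ↦ e`, for `e` killed by `a`. -/
noncomputable def quotToOfKill {E : Type u} [AddCommGroup E] [Module A E] (a : Ideal A) (e : E)
    (he : ∀ r ∈ a, r • e = 0) : (A ⧸ a) →ₗ[A] E :=
  Submodule.liftQ a (LinearMap.toSpanSingleton A E e) (fun r hr => by
    rw [LinearMap.mem_ker, LinearMap.toSpanSingleton_apply]; exact he r hr)

theorem quotToOfKill_one {E : Type u} [AddCommGroup E] [Module A E] (a : Ideal A) (e : E)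
    (he : ∀ r ∈ a, r • e = 0) : quotToOfKill a e he (Ideal.Quotient.mk a 1) = e := by
  show Submodule.liftQ a (LinearMap.toSpanSingleton A E e) _ (Submodule.Quotient.mk 1) = e
  rw [Submodule.liftQ_apply, LinearMap.toSpanSingleton_apply, one_smul]

/-- An `A`-linear map out of the residue field is injective as soon as it is nonzero at `1`. -/
theorem injective_of_residueField_of_ne_zero {I : Type u} [AddCommGroup I] [Module A I]
    (g : ResidueField A →ₗ[A] I) (hg : g 1 ≠ 0) : Injective g := by
  rw [injective_iff_map_eq_zero]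
  intro x hx
  obtain ⟨r, rfl⟩ := IsLocalRing.residue_surjective x
  have h1 : IsLocalRing.residue A r = r • (1 : ResidueField A) := by
    rw [Algebra.smul_def, mul_one]; rfl
  by_contra hne
  have hr : IsUnit r := by
    by_contra hnu
    exact hne ((IsLocalRing.residue_eq_zero_iff r).mpr ((IsLocalRing.mem_maximalIdeal r).mpr hnu))
  obtain ⟨u, rfl⟩ := hr
  apply hg
  rw [h1, map_smul] at hx
  have := congrArg (fun y => (↑u⁻¹ : A) • y) hx
  simpa [smul_smul] using this

variable [IsNoetherianRing A]

/-- **Length criterion** for an injective hull of the residue field. -/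
theorem isInjectiveHull_of_length {I : Type u} [AddCommGroup I] [Module A I]
    (ha : LocCoh.IsPowerTorsion (maximalIdeal A) I)
    (g : ResidueField A →ₗ[A] I) (hg : Injective g)
    (hsoc : ∀ x : I, (∀ r ∈ maximalIdeal A, r • x = 0) → x ∈ LinearMap.range g)
    (a : ℕ → Ideal A) (hcof : ∀ n : ℕ, ∃ N : ℕ, maximalIdeal A ^ N ≤ a n)
    (hcof' : ∀ N : ℕ, ∃ n : ℕ, a n ≤ maximalIdeal A ^ N)
    (hlen : ∀ n : ℕ, Module.length A (A ⧸ a n) = Module.length A ((A ⧸ a n) →ₗ[A] I)) :
    InjHull.IsInjectiveHull g := by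
  obtain ⟨E, _, _, f0, hf0⟩ := exists_injectiveHull A (ResidueField A)
  -- `g` is essential
  have hess : EssElt g := by
    intro x hx
    obtain ⟨r, hr0, hr⟩ := essIn_socle_of_isPowerTorsion (maximalIdeal A) ha x Submodule.mem_top hx
    refine ⟨r, hr0, hsoc _ ?_⟩
    intro s hs
    exact (Submodule.mem_torsionBySet_iff _ _).mp hr ⟨s, hs⟩
  -- extend `f0` along `g`
  haveI := hf0.isInjective
  obtain ⟨φ, hφ⟩ := Module.Injective.out (R := A) g hg f0
  have hφg : φ ∘ₗ g = f0 := LinearMap.ext hφ
  have hφinj : Injective φ := injective_of_essElt_comp hess φ (by rw [hφg]; exact hf0.injective)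
  have hEtors := isPowerTorsion_of_isInjectiveHull f0 hf0
  have hφsurj : Surjective φ := by
    intro e
    obtain ⟨N, hN⟩ := hEtors e
    obtain ⟨n, hn⟩ := hcof' N
    have hkill : ∀ r ∈ a n, r • e = 0 := fun r hr => hN r (hn hr)
    obtain ⟨N', hN'⟩ := hcof n
    -- `A ⧸ a n` has finite length
    have hfl : IsFiniteLength A (A ⧸ a n) := by
      have h1 : IsFiniteLength A (A ⧸ maximalIdeal A ^ N') := isFiniteLength_quotient_pow N'
      exact h1.of_surjective (f := Submodule.mapQ (maximalIdeal A ^ N') (a n) LinearMap.id hN')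
        (by
          intro y
          obtain ⟨z, rfl⟩ := Submodule.Quotient.mk_surjective _ y
          exact ⟨Submodule.Quotient.mk z, rfl⟩)
    have hlenE : Module.length A ((A ⧸ a n) →ₗ[A] E) = Module.length A (A ⧸ a n) :=
      Groth.Agent.S5170.result A E f0 hf0 _ hfl
    let Φ : ((A ⧸ a n) →ₗ[A] I) →ₗ[A] ((A ⧸ a n) →ₗ[A] E) := LinearMap.compRight A φ
    have hΦinj : Injective Φ := by
      intro ψ₁ ψ₂ h
      refine LinearMap.ext fun y => ?_
      apply hφinj
      exact LinearMap.congr_fun h y
    have hfin : Module.length A ((A ⧸ a n) →ₗ[A] I) ≠ ⊤ := by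
      rw [← hlen n]
      exact (Module.length_ne_top_iff.mpr hfl)
    have hΦsurj : Surjective Φ :=
      surjective_of_injective_of_length_eq Φ hΦinj (by rw [hlenE, hlen n]) hfin
    obtain ⟨ψ, hψ⟩ := hΦsurj (quotToOfKill (a n) e hkill)
    refine ⟨ψ (Ideal.Quotient.mk (a n) 1), ?_⟩
    have := LinearMap.congr_fun hψ (Ideal.Quotient.mk (a n) 1)
    rw [quotToOfKill_one] at this
    exact this
  let e : I ≃ₗ[A] E := LinearEquiv.ofBijective φ ⟨hφinj, hφsurj⟩
  have h1 := isInjectiveHull_equiv_comp e.symm f0 hf0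
  have h2 : e.symm.toLinearMap ∘ₗ f0 = g := by
    ext x
    simp only [LinearMap.comp_apply, LinearEquiv.coe_coe]
    rw [LinearEquiv.symm_apply_eq]
    exact (hφ x).symm
  rwa [h2] at h1

end Groth.Agent.Lib.Helper2
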