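import Groth.Agent.Lib.Helper2.LocalCriterion
import Mathlib.RingTheory.Flat.FaithfullyFlat.Basic
import Mathlib.RingTheory.Nakayama
import Mathlib.RingTheory.Localization.BaseChange
import Mathlib.RingTheory.Flat.Localization

/-!
# Fibrewise flatness helpers (helper2)

* `rTensor_injective_map_of_flat` : if `M` is an `S`-module flat over `R` then
  `Tor₁^S(S/𝔞S, M) = 0`, i.e. `𝔞S ⊗_S M → M` is injective.
* `flat_of_flat_of_faithfullyFlat` : `M` flat over `R` and faithfully flat over `S` ⇒ `S` flat
  over `R`.
-/

set_option autoImplicit false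

namespace Groth.Agent.Lib.Helper2

open TensorProduct Function

section

variable {R S M : Type*} [CommRing R] [CommRing S] [Algebra R S] [AddCommGroup M] [Module R M]
  [Module S M] [IsScalarTower R S M]

/-- If `M` is an `S`-module which is flat over `R`, then for every ideal `𝔞` of `R` the map
`𝔞S ⊗_S M → M` is injective. -/
theorem rTensor_injective_map_of_flat [Module.Flat R M] (𝔞 : Ideal R) :
    Injective (LinearMap.rTensor M (𝔞.map (algebraMap R S)).subtype) := by
  set I : Ideal S := 𝔞.map (algebraMap R S) with hIdef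
  let α : I ⊗[S] M →ₗ[S] M :=
    (TensorProduct.lid S M).toLinearMap ∘ₗ LinearMap.rTensor M I.subtype
  suffices hα : Injective α from Injective.of_comp (f := (TensorProduct.lid S M)) hα
  let β : 𝔞 ⊗[R] M →ₗ[R] M :=
    (TensorProduct.lid R M).toLinearMap ∘ₗ LinearMap.rTensor M 𝔞.subtype
  have hβ : Injective β := (TensorProduct.lid R M).injective.comp
    (Module.Flat.rTensor_preserves_injective_linearMap _ (Submodule.subtype_injective _))
  let g : 𝔞 →+ I :=
    { toFun := fun a => ⟨algebraMap R S a, Ideal.mem_map_of_mem _ a.2⟩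
      map_zero' := by ext; simp
      map_add' := by intros; ext; simp }
  let f : 𝔞 →+ M →+ (I ⊗[S] M) :=
    { toFun := fun a => ((TensorProduct.mk S I M) (g a)).toAddMonoidHom
      map_zero' := by ext y; simp
      map_add' := by intro a b; ext y; simp [TensorProduct.add_tmul] }
  let ψ : 𝔞 ⊗[R] M →+ I ⊗[S] M := TensorProduct.liftAddHom f (by
    intro r a y
    change (g (r • a)) ⊗ₜ[S] y = (g a) ⊗ₜ[S] (r • y)
    have h1 : g (r • a) = (algebraMap R S r) • g a := by
      ext
      simp [g, Algebra.smul_def]
    rw [h1, TensorProduct.smul_tmul, algebraMap_smul])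
  have hψ : ∀ a y, ψ (a ⊗ₜ y) = g a ⊗ₜ y := fun a y => rfl
  have hαψ : ∀ z, α (ψ z) = β z := by
    intro z
    induction z with
    | zero => simp
    | add a b ha hb => rw [map_add, map_add, map_add, ha, hb]
    | tmul a y =>
      rw [hψ]
      simp [α, β, g]
  have hψsurj : ∀ x : I ⊗[S] M, ∃ z, ψ z = x := by
    intro x
    induction x with
    | zero => exact ⟨0, map_zero _⟩
    | add a b ha hb =>
      obtain ⟨za, rfl⟩ := ha
      obtain ⟨zb, rfl⟩ := hb
      exact ⟨za + zb, map_add _ _ _⟩
    | tmul i y =>
      obtain ⟨i, hi⟩ := i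
      have hi' : i ∈ Submodule.span S (algebraMap R S '' (𝔞 : Set R)) := hi
      revert hi y
      refine Submodule.span_induction
        (p := fun i _ => ∀ (y : M) (hi : i ∈ I), ∃ z, ψ z = (⟨i, hi⟩ : I) ⊗ₜ[S] y)
        ?_ ?_ ?_ ?_ hi'
      · rintro _ ⟨a, ha, rfl⟩ y hi
        exact ⟨(⟨a, ha⟩ : 𝔞) ⊗ₜ y, rfl⟩
      · intro y hi
        refine ⟨0, ?_⟩
        rw [map_zero]
        exact (TensorProduct.zero_tmul _ _).symm
      · intro i j hi hj ihi ihj y hij
        obtain ⟨zi, hzi⟩ := ihi y hi
        obtain ⟨zj, hzj⟩ := ihj y hj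
        refine ⟨zi + zj, ?_⟩
        rw [map_add, hzi, hzj, ← TensorProduct.add_tmul]
        rfl
      · intro s i hi ih y hsi
        obtain ⟨z, hz⟩ := ih (s • y) hi
        refine ⟨z, ?_⟩
        rw [hz, ← TensorProduct.smul_tmul]
        rfl
  rw [injective_iff_map_eq_zero]
  intro x hx
  obtain ⟨z, rfl⟩ := hψsurj x
  rw [hαψ] at hx
  rw [hβ (hx.trans (map_zero β).symm), map_zero]

/-- If `M` is flat over `R` and faithfully flat over the `R`-algebra `S`, then `S` is flat
over `R`. -/
theorem flat_of_flat_of_faithfullyFlat [Module.Flat R M] [Module.FaithfullyFlat S M] :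
    Module.Flat R S := by
  rw [Module.Flat.iff_lTensor_injective']
  intro J
  have hM : Injective (LinearMap.lTensor M J.subtype) :=
    Module.Flat.lTensor_preserves_injective_linearMap _ J.subtype_injective
  have key := TensorProduct.AlgebraTensorModule.lTensor_comp_cancelBaseChange
    (R := R) (A := S) (B := S) (M := M) (N := J) (Q := R) J.subtype
  have h4 : Injective (LinearMap.lTensor M (J.subtype.baseChange S)) := by
    intro a b hab
    apply (AlgebraTensorModule.cancelBaseChange R S S M J).injective
    apply hM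
    have ha := LinearMap.congr_fun key a
    have hb := LinearMap.congr_fun key b
    simp only [LinearMap.comp_apply, LinearEquiv.coe_coe] at ha hb
    refine Eq.trans ha (Eq.trans ?_ hb.symm)
    exact congrArg (AlgebraTensorModule.cancelBaseChange R S S M R) hab
  exact (Module.FaithfullyFlat.lTensor_injective_iff_injective S M (J.subtype.baseChange S)).mp h4

end

section BaseChangeLeft

variable {R A : Type*} [CommRing R] [CommRing A] [Algebra R A]
variable {V' V M : Type*} [AddCommGroup V'] [Module R V'] [Module A V'] [IsScalarTower R A V']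
  [AddCommGroup V] [Module R V] [Module A V] [IsScalarTower R A V]
  [AddCommGroup M] [Module R M]

/-- If `R → A` is surjective and `A ⊗_R M` is `A`-flat, then `- ⊗_R M` preserves injections
between `A`-modules. -/
theorem rTensor_injective_of_flat_baseChange (hA : Surjective (algebraMap R A))
    [Module.Flat A (A ⊗[R] M)] (j : V' →ₗ[R] V) (hj : Injective j) :
    Injective (LinearMap.rTensor M j) := by
  let jA : V' →ₗ[A] V := j.extendScalarsOfSurjective hA
  have h1 : Injective (LinearMap.rTensor (A ⊗[R] M) jA) :=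
    Module.Flat.rTensor_preserves_injective_linearMap jA hj
  have nat : ∀ x : V' ⊗[A] (A ⊗[R] M),
      AlgebraTensorModule.cancelBaseChange R A A V M (LinearMap.rTensor (A ⊗[R] M) jA x) =
      LinearMap.rTensor M j (AlgebraTensorModule.cancelBaseChange R A A V' M x) := by
    intro x
    induction x with
    | zero => simp
    | add a b ha hb => simp only [map_add, ha, hb]
    | tmul v y =>
      induction y with
      | zero => simp
      | add a b ha hb => simp only [TensorProduct.tmul_add, map_add, ha, hb]
      | tmul a m =>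
        simp only [LinearMap.rTensor_tmul, AlgebraTensorModule.cancelBaseChange_tmul]
        change (a • jA v) ⊗ₜ[R] m = jA (a • v) ⊗ₜ[R] m
        rw [map_smul]
  intro x y hxy
  obtain ⟨x', rfl⟩ := (AlgebraTensorModule.cancelBaseChange R A A V' M).surjective x
  obtain ⟨y', rfl⟩ := (AlgebraTensorModule.cancelBaseChange R A A V' M).surjective y
  rw [← nat, ← nat] at hxy
  rw [h1 ((AlgebraTensorModule.cancelBaseChange R A A V M).injective hxy)]

end BaseChangeLeft

section Localized

variable {R A : Type*} [CommRing R] [CommRing A] [Algebra R A] (S : Submonoid A)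
variable {M M' N P : Type*} [AddCommGroup M] [Module R M] [Module A M] [IsScalarTower R A M]
  [AddCommGroup M'] [Module R M'] [Module A M'] [IsScalarTower R A M']
  [AddCommGroup N] [Module R N] [AddCommGroup P] [Module R P]

/-- Injectivity of `M ⊗ f` passes to a localization `M'` of `M` (w.r.t. a second ring acting on
`M`). -/
theorem lTensor_injective_of_isLocalizedModule (g : M →ₗ[A] M') [IsLocalizedModule S g]
    (f : N →ₗ[R] P) (hf : Injective (LinearMap.lTensor M f)) :
    Injective (LinearMap.lTensor M' f) := by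
  have h := IsLocalizedModule.map_lTensor (R := R) A S f g
  have hinj : Injective (AlgebraTensorModule.lTensor A M f) := hf
  have h2 := IsLocalizedModule.map_injective S (AlgebraTensorModule.rTensor R N g)
    (AlgebraTensorModule.rTensor R P g) (AlgebraTensorModule.lTensor A M f) hinj
  rw [h] at h2
  exact h2

end Localized

section Nilpotent

universe u

variable {S M : Type u} [CommRing S] [AddCommGroup M] [Module S M]

/-- local criterion for a nilpotent ideal, relative to a presentation -/
theorem flat_of_nilpotent_presentation {K F : Type u} [AddCommGroup K] [Module S K]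
    [AddCommGroup F] [Module S F] [Module.Flat S F] (ι : K →ₗ[S] F) (π : F →ₗ[S] M)
    (hι : Injective ι) (hex : Exact ι π) (hπ : Surjective π) (𝔟 : Ideal S) (h𝔟 : IsNilpotent 𝔟)
    (h1 : Injective (LinearMap.rTensor M 𝔟.subtype))
    (h2 : Module.Flat (S ⧸ 𝔟) ((S ⧸ 𝔟) ⊗[S] M)) : Module.Flat S M := by
  have hexI : Exact 𝔟.subtype (Ideal.Quotient.mkₐ S 𝔟).toLinearMap := by
    intro x
    constructor
    · intro hx
      exact ⟨⟨x, Ideal.Quotient.eq_zero_iff_mem.mp hx⟩, rfl⟩
    · rintro ⟨y, rfl⟩
      exact Ideal.Quotient.eq_zero_iff_mem.mpr y.2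
  have hR : Injective (ι.rTensor S) := Module.Flat.rTensor_preserves_injective_linearMap ι hι
  have hτ : Injective (ι.rTensor (S ⧸ 𝔟)) :=
    tau_of_injective hex hπ hexI (Ideal.Quotient.mkₐ_surjective S 𝔟) h1 hR
  have hpow := rTensor_injective_of_pow_torsion.{u} ι 𝔟
    (fun T _ _ hT => tau_of_torsion hex hπ 𝔟 hτ h2 T hT)
  obtain ⟨n, hn⟩ := h𝔟
  rw [Module.Flat.iff_lTensor_injective']
  intro J
  have hkill : ∀ a ∈ 𝔟 ^ n, ∀ t : S ⧸ J, a • t = 0 := by
    intro a ha t
    rw [hn] at ha
    rw [(Submodule.mem_bot S).mp ha, zero_smul]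
  exact injective_of_tau hex hπ J.subtype_injective (LinearMap.exact_subtype_mkQ J)
    (Submodule.mkQ_surjective J) (hpow n _ hkill)

/-- **Local criterion of flatness for a nilpotent ideal** -/
theorem flat_of_nilpotent (𝔟 : Ideal S) (h𝔟 : IsNilpotent 𝔟)
    (h1 : Injective (LinearMap.rTensor M 𝔟.subtype))
    (h2 : Module.Flat (S ⧸ 𝔟) ((S ⧸ 𝔟) ⊗[S] M)) : Module.Flat S M := by
  let π : (M →₀ S) →ₗ[S] M := Finsupp.linearCombination S (id : M → M)
  exact flat_of_nilpotent_presentation (K := LinearMap.ker π) (F := M →₀ S)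
    (LinearMap.ker π).subtype π (Submodule.subtype_injective _)
    (LinearMap.exact_subtype_ker_map π) (Finsupp.linearCombination_id_surjective S M) 𝔟 h𝔟 h1 h2

end Nilpotent

end Groth.Agent.Lib.Helper2
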