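import Groth.Agent.Lib.Helper41.GorAnn2
import Groth.Agent.Lib.Helper41.ArtinianFL
import Groth.Agent.Lib.Helper41.DepthVanish
import Groth.Agent.Lib.Helper41.LCVanish
import Groth.Agent.Lib.Helper29.SuppLoc
import Groth.Agent.Lib.Helper29.Depth
import Groth.Agent.Lib.Helper29.DimTheory
import Groth.Agent.Lib.Helper33.Unmixed
import Groth.Agent.S0318
import Groth.Agent.S18865

/-!
# Generalized Cohen–Macaulay modules over quotients of Gorenstein local rings
-/

set_option autoImplicit false
universe u

open Function IsLocalRing

namespace Groth.Agent.Lib.Helper2.GCM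

open Groth.Agent.Lib.Helper29 Groth.Agent.Lib.Helper41 Groth.Agent.Lib.Helper33

section Dim

variable {R : Type u} [CommRing R] [IsNoetherianRing R] (M : Type u) [AddCommGroup M] [Module R M]
  [Module.Finite R M]

/-- `dim M_p ≤` height of `p` in `Supp M`. -/
theorem supportDim_atPrime_le_height (p : Ideal R) [hpp : p.IsPrime]
    (hp : (⟨p, hpp⟩ : PrimeSpectrum R) ∈ Module.support R M) :
    Module.supportDim (Localization.AtPrime p) (LocalizedModule p.primeCompl M) ≤
      ((Order.height (⟨⟨p, hpp⟩, hp⟩ : Module.support R M) : ℕ∞) : WithBot ℕ∞) := by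
  rw [Order.height_eq_krullDim_Iic]
  unfold Module.supportDim
  let f : Module.support (Localization.AtPrime p) (LocalizedModule p.primeCompl M) →
      Set.Iic (⟨⟨p, hpp⟩, hp⟩ : Module.support R M) := fun Q =>
    ⟨⟨PrimeSpectrum.comap (algebraMap R (Localization.AtPrime p)) Q.1,
      (SuppLoc.mem_support_iff_comap_mem_support p.primeCompl
        (LocalizedModule.mkLinearMap p.primeCompl M) Q.1).1 Q.2⟩,
      SuppLoc.comap_le_atPrime R p Q.1⟩
  apply Order.krullDim_le_of_strictMono f
  intro Q Q' hQQ'
  refine lt_of_le_of_ne ?_ ?_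
  · exact Ideal.comap_mono (show Q.1.asIdeal ≤ Q'.1.asIdeal from hQQ'.le)
  · intro heq
    have h1 : PrimeSpectrum.comap (algebraMap R (Localization.AtPrime p)) Q.1 =
        PrimeSpectrum.comap (algebraMap R (Localization.AtPrime p)) Q'.1 :=
      congrArg (fun z : Set.Iic (⟨⟨p, hpp⟩, hp⟩ : Module.support R M) => z.1.1) heq
    exact hQQ'.ne (Subtype.ext (SuppLoc.comap_injective_atPrime R p h1))

theorem mem_support_of_annihilator_le (p : Ideal R) [hpp : p.IsPrime]
    (hp : Module.annihilator R M ≤ p) : (⟨p, hpp⟩ : PrimeSpectrum R) ∈ Module.support R M := by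
  rw [Module.mem_support_iff_of_finite]
  exact hp

/-- At a minimal prime of the support, the localized module has dimension zero. -/
theorem supportDim_atPrime_eq_zero (q : Ideal R) (hq : q ∈ (Module.annihilator R M).minimalPrimes) :
    haveI : q.IsPrime := hq.1.1
    Module.supportDim (Localization.AtPrime q) (LocalizedModule q.primeCompl M) = 0 := by
  haveI hqp : q.IsPrime := hq.1.1
  have hsupp := mem_support_of_annihilator_le M q hq.1.2
  apply le_antisymm
  · refine (supportDim_atPrime_le_height M q hsupp).trans ?_
    have h0 : Order.height (⟨⟨q, hqp⟩, hsupp⟩ : Module.support R M) = 0 := by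
      rw [Order.height_eq_zero]
      intro b hb
      have hb1 : Module.annihilator R M ≤ b.1.asIdeal :=
        (Module.mem_support_iff_of_finite.mp b.2)
      exact hq.2 ⟨b.1.isPrime, hb1⟩ hb
    rw [h0]
    rfl
  · haveI : Nontrivial (LocalizedModule q.primeCompl M) := Module.mem_support_iff.mp hsupp
    have hne : Module.supportDim (Localization.AtPrime q) (LocalizedModule q.primeCompl M) ≠ ⊥ :=
      Module.supportDim_ne_bot_of_nontrivial _ _
    cases h : Module.supportDim (Localization.AtPrime q) (LocalizedModule q.primeCompl M) with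
    | bot => exact absurd h hne
    | coe a => exact WithBot.coe_le_coe.mpr zero_le'

/-- `dim M/pM = dim R/p` for `p` in the support. -/
theorem supportDim_quotient_smul_top (p : Ideal R) [hpp : p.IsPrime]
    (hp : (⟨p, hpp⟩ : PrimeSpectrum R) ∈ Module.support R M) :
    Module.supportDim R (M ⧸ (p • (⊤ : Submodule R M))) = ringKrullDim (R ⧸ p) := by
  rw [ringKrullDim_quotient]
  unfold Module.supportDim
  have hsub : PrimeSpectrum.zeroLocus (p : Set R) ⊆ Module.support R M := by
    intro x hx
    have hle : (⟨p, hpp⟩ : PrimeSpectrum R) ≤ x := by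
      rw [PrimeSpectrum.mem_zeroLocus] at hx
      exact hx
    exact Module.mem_support_mono hle hp
  rw [Module.support_quotient, Set.inter_eq_right.mpr hsub]

/-- `dim M_p + dim R/p ≤ dim M` for `p` in the support. -/
theorem supportDim_atPrime_add_le (p : Ideal R) [hpp : p.IsPrime]
    (hp : (⟨p, hpp⟩ : PrimeSpectrum R) ∈ Module.support R M) :
    Module.supportDim (Localization.AtPrime p) (LocalizedModule p.primeCompl M) +
      ringKrullDim (R ⧸ p) ≤ Module.supportDim R M := by
  rw [← supportDim_quotient_smul_top M p hp]
  exact SuppLoc.supportDim_localizedModule_add_supportDim_quotient_le R M p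

end Dim

section Depth

/-- Vanishing of local cohomology below `k` forces `depth ≥ k`. -/
theorem le_depth_of_vanishing (B : Type u) [CommRing B] [IsLocalRing B] [IsNoetherianRing B]
    (N : Type u) [AddCommGroup N] [Module B N] [Module.Finite B N] (k : ℕ)
    (h : ∀ j < k, Subsingleton (LocCoh.H (maximalIdeal B) j N)) :
    (k : ℕ∞) ≤ LocCoh.depth B N := by
  by_cases hIM : maximalIdeal B • (⊤ : Submodule B N) = ⊤
  · have htop : LocCoh.depth B N = ⊤ := by
      unfold LocCoh.depth LocCoh.idealDepth
      rw [if_pos hIM]
    rw [htop]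
    exact le_top
  · by_contra hlt
    rw [not_le] at hlt
    have hne : LocCoh.depth B N ≠ ⊤ := ne_top_of_lt hlt
    obtain ⟨t, ht⟩ := ENat.ne_top_iff_exists.mp hne
    have htk : t < k := by
      rw [← ht] at hlt
      exact_mod_cast hlt
    have h1 := (Groth.Agent.S0318.result B (maximalIdeal B) N hIM t).mp ht.symm
    haveI := h1.2
    exact not_subsingleton _ (h t htk)
end Depth

section Gor

theorem exists_nat_dim (C : Type u) [CommRing C] [IsNoetherianRing C] [IsLocalRing C] :
    ∃ k : ℕ, ringKrullDim C = k := by
  have hne : ringKrullDim C ≠ ⊤ := DimTheory.ringKrullDim_ne_top C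
  have hnb : ringKrullDim C ≠ ⊥ := ringKrullDim_ne_bot
  cases h : ringKrullDim C with
  | bot => exact absurd h hnb
  | coe a =>
    cases a with
    | top => exact absurd h hne
    | coe k => exact ⟨k, rfl⟩

theorem exists_nat_supportDim (B : Type u) [CommRing B] [IsLocalRing B] [IsNoetherianRing B]
    (N : Type u) [AddCommGroup N] [Module B N] [Nontrivial N] :
    ∃ t : ℕ, Module.supportDim B N = t := by
  have hnb : Module.supportDim B N ≠ ⊥ := Module.supportDim_ne_bot_of_nontrivial B N
  have hle : Module.supportDim B N ≤ ringKrullDim B := Module.supportDim_le_ringKrullDim B N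
  obtain ⟨k, hk⟩ := exists_nat_dim B
  rw [hk] at hle
  cases h : Module.supportDim B N with
  | bot => exact absurd h hnb
  | coe a =>
    cases a with
    | top =>
      rw [h] at hle
      exact absurd hle (by
        rw [not_le]
        exact WithBot.coe_lt_coe.mpr (ENat.coe_lt_top k))
    | coe t => exact ⟨t, rfl⟩

variable (G : Type u) [CommRing G] [LocCoh.IsGorensteinLocalRing G] {R : Type u} [CommRing R]
  [IsNoetherianRing R] [IsLocalRing R] [Algebra G R] (hs : Surjective (algebraMap G R))

include hs in
/-- Catenary formula in a quotient of a Gorenstein local ring. -/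
theorem dim_quotient_eq_add_height (q p : Ideal R) [q.IsPrime] [p.IsPrime] (hqp : q ≤ p)
    (eq ep k : ℕ) (heq : ringKrullDim (R ⧸ q) = eq) (hep : ringKrullDim (R ⧸ p) = ep)
    (hk : (p.map (Ideal.Quotient.mk q)).height = k) : eq = ep + k := by
  obtain ⟨d, hd⟩ := exists_nat_dim G
  obtain ⟨e₁, h₁, he₁, hh₁, hd₁⟩ := GorAnn.dim_data G d hd R hs q
  obtain ⟨e₂, h₂, he₂, hh₂, hd₂⟩ := GorAnn.dim_data G d hd R hs p
  have hee₁ : e₁ = eq := by
    have := he₁.symm.trans heq
    exact_mod_cast this
  have hee₂ : e₂ = ep := by
    have := he₂.symm.trans hep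
    exact_mod_cast this
  haveI : LocCoh.IsGorensteinRing G := GorAnn.isGorensteinRing_of_local G R hs
  haveI hCM : LocCoh.IsCohenMacaulayRing G :=
    Groth.Agent.S18865.isCohenMacaulayRing_of_isGorensteinRing G
  have hPP' : q.comap (algebraMap G R) ≤ p.comap (algebraMap G R) := Ideal.comap_mono hqp
  haveI hq' : ((p.comap (algebraMap G R)).map
      (Ideal.Quotient.mk (q.comap (algebraMap G R)))).IsPrime :=
    Ideal.map_isPrime_of_surjective Ideal.Quotient.mk_surjective (by rw [Ideal.mk_ker]; exact hPP')
  have h1 := Unmixed.height_comap_eq_add G (q.comap (algebraMap G R))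
    ((p.comap (algebraMap G R)).map (Ideal.Quotient.mk (q.comap (algebraMap G R))))
  have h2 : ((p.comap (algebraMap G R)).map
      (Ideal.Quotient.mk (q.comap (algebraMap G R)))).comap
        (Ideal.Quotient.mk (q.comap (algebraMap G R))) = p.comap (algebraMap G R) := by
    rw [Ideal.comap_map_of_surjective _ Ideal.Quotient.mk_surjective, ← RingHom.ker_eq_comap_bot,
      Ideal.mk_ker, sup_eq_left.mpr hPP']
  have h3 := GorTransfer.height_map_mk_comap (algebraMap G R) hs q p
  rw [h2, h3, hk, hh₁, hh₂] at h1
  have h4 : h₂ = h₁ + k := by exact_mod_cast h1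
  omega

variable (M : Type u) [AddCommGroup M] [Module R M] [Module G M] [IsScalarTower G R M]
  [Module.Finite R M]

include hs in
/-- `ht(p/q) ≤ dim M_p` for a minimal prime `q ≤ p` of the support. -/
theorem height_le_supportDim_atPrime (q p : Ideal R) [p.IsPrime]
    (hq : q ∈ (Module.annihilator R M).minimalPrimes) (hqp : q ≤ p) (k : ℕ)
    (hk : (p.map (Ideal.Quotient.mk q)).height = k) :
    (k : WithBot ℕ∞) ≤
      Module.supportDim (Localization.AtPrime p) (LocalizedModule p.primeCompl M) := by
  haveI hqprime : q.IsPrime := hq.1.1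
  by_contra hlt
  rw [not_le] at hlt
  haveI : LocCoh.IsGorensteinRing G := GorAnn.isGorensteinRing_of_local G R hs
  have hsub : Subsingleton (LocCoh.H (maximalIdeal (Localization.AtPrime p)) (0 + k)
      (LocalizedModule p.primeCompl M)) := by
    rw [zero_add]
    exact LC.subsingleton_of_supportDim_lt (maximalIdeal (Localization.AtPrime p))
      (LocalizedModule p.primeCompl M) k hlt
  have h0 := GorTransfer.subsingleton_H_of_le G R hs M q p hqp k hk 0 hsub
  have hsupp := mem_support_of_annihilator_le M q hq.1.2
  haveI : Nontrivial (LocalizedModule q.primeCompl M) := Module.mem_support_iff.mp hsupp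
  have hdim0 := supportDim_atPrime_eq_zero M q hq
  have hdle := DepthLib.depth_le_supportDim (Localization.AtPrime q)
    (LocalizedModule q.primeCompl M)
  rw [hdim0] at hdle
  have hd0 : LocCoh.depth (Localization.AtPrime q) (LocalizedModule q.primeCompl M) = 0 := by
    have h5 : ((LocCoh.depth (Localization.AtPrime q) (LocalizedModule q.primeCompl M) : ℕ∞) :
        WithBot ℕ∞) ≤ ((0 : ℕ∞) : WithBot ℕ∞) := hdle
    exact le_antisymm (WithBot.coe_le_coe.mp h5) zero_le'
  have hIM := maximalIdeal_smul_top_ne_top (Localization.AtPrime q)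
    (LocalizedModule q.primeCompl M)
  have h1 := (Groth.Agent.S0318.result (Localization.AtPrime q) (maximalIdeal _)
    (LocalizedModule q.primeCompl M) hIM 0).mp (by exact_mod_cast hd0)
  haveI := h1.2
  exact not_subsingleton _ h0

include hs in
/-- **Generalized Cohen–Macaulay criterion** over a quotient of a Gorenstein local ring. -/
theorem gcm_iff (n : ℕ) (hn : Module.supportDim R M = n) :
    (∀ i : ℕ, i < n → IsFiniteLength R (LocCoh.H (maximalIdeal R) i M)) ↔
    ((∀ p ∈ (Module.annihilator R M).minimalPrimes, ringKrullDim (R ⧸ p) = n) ∧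
      ∀ (p : Ideal R) [p.IsPrime], p ≠ maximalIdeal R → Module.annihilator R M ≤ p →
        LocCoh.IsCohenMacaulayModule (Localization.AtPrime p)
          (LocalizedModule p.primeCompl M)) := by
  obtain ⟨d, hd⟩ := exists_nat_dim G
  have hFL : ∀ i : ℕ, IsFiniteLength R (LocCoh.H (maximalIdeal R) i M) ↔
      ∀ (p : Ideal R) [p.IsPrime], ¬ maximalIdeal R ≤ p → ∀ j : ℕ,
        (j : WithBot ℕ∞) + ringKrullDim (R ⧸ p) = i →
        Subsingleton (LocCoh.H (maximalIdeal (Localization.AtPrime p)) j
          (LocalizedModule p.primeCompl M)) := by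
    intro i
    rw [ArtinianFL.isFiniteLength_H_iff,
      GorAnn.le_radical_annihilator_H_iff G d hd R hs M (maximalIdeal R) i]
  have hA : (∀ i : ℕ, i < n → IsFiniteLength R (LocCoh.H (maximalIdeal R) i M)) ↔
      ∀ (p : Ideal R) [p.IsPrime], p ≠ maximalIdeal R → ∀ e j : ℕ,
        ringKrullDim (R ⧸ p) = e → j + e < n →
        Subsingleton (LocCoh.H (maximalIdeal (Localization.AtPrime p)) j
          (LocalizedModule p.primeCompl M)) := by
    constructor
    · intro h p hp hpm e j he hje
      have hnm : ¬ maximalIdeal R ≤ p := by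
        intro hle
        exact hpm (le_antisymm (IsLocalRing.le_maximalIdeal hp.ne_top) hle)
      refine (hFL (j + e)).mp (h (j + e) hje) p hnm j ?_
      rw [he]
      push_cast
      rfl
    · intro h i hi
      rw [hFL i]
      intro p hp hnm j hj
      obtain ⟨e, h', he, -, -⟩ := GorAnn.dim_data G d hd R hs p
      rw [he] at hj
      have hj' : j + e = i := by exact_mod_cast hj
      have hpm : p ≠ maximalIdeal R := by
        intro heq
        exact hnm heq.ge
      exact h p hpm e j he (by omega)
  rw [hA]
  constructor
  · intro hvan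
    -- key computation at a non-maximal prime of the support
    have key : ∀ (p : Ideal R) [p.IsPrime], p ≠ maximalIdeal R → Module.annihilator R M ≤ p →
        ∀ t e : ℕ, Module.supportDim (Localization.AtPrime p)
          (LocalizedModule p.primeCompl M) = t → ringKrullDim (R ⧸ p) = e →
        LocCoh.depth (Localization.AtPrime p) (LocalizedModule p.primeCompl M) = t ∧
          t + e = n := by
      intro p hp hpm hann t e ht he
      have hsupp := mem_support_of_annihilator_le M p hann
      haveI : Nontrivial (LocalizedModule p.primeCompl M) := Module.mem_support_iff.mp hsupp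
      have h1 := supportDim_atPrime_add_le M p hsupp
      rw [ht, he, hn] at h1
      have h1' : t + e ≤ n := by exact_mod_cast h1
      have h2 : ((n - e : ℕ) : ℕ∞) ≤
          LocCoh.depth (Localization.AtPrime p) (LocalizedModule p.primeCompl M) :=
        le_depth_of_vanishing (Localization.AtPrime p) (LocalizedModule p.primeCompl M) (n - e)
          (fun j hj => hvan p hpm e j he (by omega))
      have h3 := DepthLib.depth_le_supportDim (Localization.AtPrime p)
        (LocalizedModule p.primeCompl M)
      rw [ht] at h3
      have h3' : LocCoh.depth (Localization.AtPrime p) (LocalizedModule p.primeCompl M) ≤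
          ((t : ℕ) : ℕ∞) := by
        have h5 : ((LocCoh.depth (Localization.AtPrime p) (LocalizedModule p.primeCompl M) : ℕ∞) :
            WithBot ℕ∞) ≤ (((t : ℕ) : ℕ∞) : WithBot ℕ∞) := h3
        exact WithBot.coe_le_coe.mp h5
      obtain ⟨c, hc⟩ := ENat.ne_top_iff_exists.mp
        (ne_top_of_le_ne_top (ENat.coe_ne_top t) h3')
      rw [← hc] at h2 h3' ⊢
      have h2' : n - e ≤ c := by exact_mod_cast h2
      have h3'' : c ≤ t := by exact_mod_cast h3'
      have hct : c = t := by omega
      refine ⟨by rw [hct], by omega⟩
    refine ⟨?_, ?_⟩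
    · intro q hq
      haveI hqp : q.IsPrime := hq.1.1
      by_cases hqm : q = maximalIdeal R
      · subst hqm
        -- the support is `{m}`
        have hsub : Subsingleton (Module.support R M) := by
          refine ⟨fun x y => ?_⟩
          have hx : ∀ z : Module.support R M, z.1.asIdeal = maximalIdeal R := by
            intro z
            have hz1 : Module.annihilator R M ≤ z.1.asIdeal :=
              Module.mem_support_iff_of_finite.mp z.2
            have hz2 : z.1.asIdeal ≤ maximalIdeal R :=
              IsLocalRing.le_maximalIdeal z.1.isPrime.ne_top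
            exact le_antisymm hz2 (hq.2 ⟨z.1.isPrime, hz1⟩ hz2)
          exact Subtype.ext (PrimeSpectrum.ext ((hx x).trans (hx y).symm))
        have hle : Module.supportDim R M ≤ 0 := by
          unfold Module.supportDim
          exact Order.krullDim_nonpos_of_subsingleton
        rw [hn] at hle
        have hn0 : n = 0 := by
          have : n ≤ 0 := by exact_mod_cast hle
          omega
        have h0 : ringKrullDim (R ⧸ maximalIdeal R) = 0 :=
          ringKrullDim_eq_zero_of_isField
            ((Ideal.Quotient.maximal_ideal_iff_isField_quotient _).mp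
              (IsLocalRing.maximalIdeal.isMaximal R))
        rw [h0, hn0]
        rfl
      · obtain ⟨e, h', he, -, -⟩ := GorAnn.dim_data G d hd R hs q
        have h0 : Module.supportDim (Localization.AtPrime q)
            (LocalizedModule q.primeCompl M) = ((0 : ℕ) : WithBot ℕ∞) := by
          rw [supportDim_atPrime_eq_zero M q hq]
          rfl
        have := (key q hqm hq.1.2 0 e h0 he).2
        rw [he]
        congr 1
        omega
    · intro p hp hpm hann
      have hsupp := mem_support_of_annihilator_le M p hann
      haveI : Nontrivial (LocalizedModule p.primeCompl M) := Module.mem_support_iff.mp hsupp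
      obtain ⟨t, ht⟩ := exists_nat_supportDim (Localization.AtPrime p)
        (LocalizedModule p.primeCompl M)
      obtain ⟨e, h', he, -, -⟩ := GorAnn.dim_data G d hd R hs p
      have hdep := (key p hpm hann t e ht he).1
      unfold LocCoh.IsCohenMacaulayModule
      rw [ht, hdep]
      rfl
  · rintro ⟨hB1, hB2⟩ p hp hpm e j he hje
    by_cases hann : Module.annihilator R M ≤ p
    · obtain ⟨q, hq, hqp⟩ := Ideal.exists_minimalPrimes_le hann
      haveI hqprime : q.IsPrime := hq.1.1
      haveI hprime : (p.map (Ideal.Quotient.mk q)).IsPrime :=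
        Ideal.map_isPrime_of_surjective Ideal.Quotient.mk_surjective
          (by rw [Ideal.mk_ker]; exact hqp)
      obtain ⟨k, hk⟩ := ENat.ne_top_iff_exists.mp
        (Ideal.height_ne_top_of_isPrime (I := p.map (Ideal.Quotient.mk q)))
      have h1 := dim_quotient_eq_add_height G hs q p hqp n e k (hB1 q hq) he hk.symm
      have h2 := height_le_supportDim_atPrime G hs M q p hq hqp k hk.symm
      have hCM := hB2 p hpm hann
      unfold LocCoh.IsCohenMacaulayModule at hCM
      rw [hCM] at h2
      have h2' : ((k : ℕ) : ℕ∞) ≤
          LocCoh.depth (Localization.AtPrime p) (LocalizedModule p.primeCompl M) := by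
        have h5 : ((((k : ℕ) : ℕ∞)) : WithBot ℕ∞) ≤
          ((LocCoh.depth (Localization.AtPrime p) (LocalizedModule p.primeCompl M) : ℕ∞) :
            WithBot ℕ∞) := h2
        exact WithBot.coe_le_coe.mp h5
      have hjk : j < k := by omega
      exact DepthVanish.subsingleton_H_of_lt_depth (Localization.AtPrime p)
        (LocalizedModule p.primeCompl M) j
        (lt_of_lt_of_le (by exact_mod_cast hjk) h2')
    · have hns : (⟨p, hp⟩ : PrimeSpectrum R) ∉ Module.support R M := by
        rw [Module.mem_support_iff_of_finite]
        exact hann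
      haveI : Subsingleton (LocalizedModule p.primeCompl M) := Module.notMem_support_iff.mp hns
      have hbot : Module.supportDim (Localization.AtPrime p)
          (LocalizedModule p.primeCompl M) = ⊥ := Module.supportDim_eq_bot_of_subsingleton _ _
      exact LC.subsingleton_of_supportDim_lt (maximalIdeal (Localization.AtPrime p))
        (LocalizedModule p.primeCompl M) j (by rw [hbot]; exact WithBot.bot_lt_coe _)

end Gor

end Groth.Agent.Lib.Helper2.GCM
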