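import Groth.Agent.Lib.Helper2.LocalFlat

/-!
# The local criterion of flatness (helper2), assembled from `LocalFlat.lean`.
-/

set_option autoImplicit false

namespace Groth.Agent.Lib.Helper2

open TensorProduct Function

section Criterion

universe u

/-- With a presentation `K → F → M → 0` (`F` flat): if `Tor₁(M, R/I) = 0` and `M/IM` is flat over
`R/I`, then `Tor₁(M, T) = 0` for every `T` killed by `I`. -/
theorem tau_of_torsion {R : Type*} [CommRing R] {K F M : Type*} [AddCommGroup K] [Module R K]
    [AddCommGroup F] [Module R F] [AddCommGroup M] [Module R M] {ι : K →ₗ[R] F} {π : F →ₗ[R] M}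
    (hex : Exact ι π) (hπ : Surjective π) (I : Ideal R)
    (hτ : Injective (ι.rTensor (R ⧸ I))) (h2 : Module.Flat (R ⧸ I) ((R ⧸ I) ⊗[R] M))
    (T : Type*) [AddCommGroup T] [Module R T] (hT : ∀ a ∈ I, ∀ t : T, a • t = 0) :
    Injective (ι.rTensor T) := by
  have hT' : Module.IsTorsionBySet R T I := fun t a => hT a.1 a.2 t
  letI : Module (R ⧸ I) T := hT'.module
  haveI : IsScalarTower R (R ⧸ I) T := Module.IsTorsionBySet.isScalarTower hT'
  rw [← LinearMap.lTensor_inj_iff_rTensor_inj]
  apply lTensor_injective_of_baseChange (A := R ⧸ I) ι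
  have hg : Injective (ι.baseChange (R ⧸ I)) := by
    rw [← LinearMap.lTensor_inj_iff_rTensor_inj] at hτ
    exact hτ
  have hf : Surjective (π.baseChange (R ⧸ I)) := LinearMap.lTensor_surjective _ hπ
  have hH : Exact (ι.baseChange (R ⧸ I)) (π.baseChange (R ⧸ I)) := lTensor_exact (R ⧸ I) hex hπ
  exact LinearMap.lTensor_injective_of_exact_of_flat (π.baseChange (R ⧸ I)) hf
    (ι.baseChange (R ⧸ I)) hg hH T

variable {R S M : Type u} [CommRing R] [CommRing S] [IsNoetherianRing R] [IsNoetherianRing S]
  [Algebra R S] [AddCommGroup M] [Module R M] [Module S M] [IsScalarTower R S M]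
  [Module.Finite S M]

/-- The local criterion of flatness, relative to an abstract presentation `K → F → M → 0`. -/
theorem flat_of_presentation {K F : Type u} [AddCommGroup K] [Module R K] [AddCommGroup F]
    [Module R F] [Module.Flat R F] (ι : K →ₗ[R] F) (π : F →ₗ[R] M) (hι : Injective ι)
    (hex : Exact ι π) (hπ : Surjective π) (I : Ideal R)
    (hI : I.map (algebraMap R S) ≤ Ideal.jacobson ⊥)
    (h1 : Injective (LinearMap.rTensor M I.subtype))
    (h2 : Module.Flat (R ⧸ I) ((R ⧸ I) ⊗[R] M)) : Module.Flat R M := by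
  have hexI : Exact I.subtype (Ideal.Quotient.mkₐ R I).toLinearMap := by
    intro x
    constructor
    · intro hx
      exact ⟨⟨x, Ideal.Quotient.eq_zero_iff_mem.mp hx⟩, rfl⟩
    · rintro ⟨y, rfl⟩
      exact Ideal.Quotient.eq_zero_iff_mem.mpr y.2
  have hR : Injective (ι.rTensor R) := Module.Flat.rTensor_preserves_injective_linearMap ι hι
  -- Tor₁(M, R/I) = 0
  have hτ : Injective (ι.rTensor (R ⧸ I)) :=
    tau_of_injective hex hπ hexI (Ideal.Quotient.mkₐ_surjective R I) h1 hR
  -- Tor₁(M, T) = 0 for `T` killed by a power of `I`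
  have hpow := rTensor_injective_of_pow_torsion.{u} ι I
    (fun T _ _ hT => tau_of_torsion hex hπ I hτ h2 T hT)
  apply flat_of_forall_lTensor_quotient_injective (S := S) I hI
  intro n J
  set Jbar : Submodule R (R ⧸ I ^ n) := Submodule.map (Submodule.mkQ (I ^ n)) J with hJbar
  have hkill : ∀ a ∈ I ^ n, ∀ t : (R ⧸ I ^ n) ⧸ Jbar, a • t = 0 := by
    intro a ha t
    obtain ⟨t, rfl⟩ := Submodule.mkQ_surjective Jbar t
    obtain ⟨r, rfl⟩ := Submodule.mkQ_surjective (I ^ n) t
    rw [← map_smul, ← map_smul]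
    have h3 : Submodule.mkQ (I ^ n) (a • r) = 0 :=
      (Submodule.Quotient.mk_eq_zero _).mpr (by
        rw [smul_eq_mul]; exact Ideal.mul_mem_right _ _ ha)
    rw [h3, map_zero]
  exact injective_of_tau hex hπ Jbar.subtype_injective (LinearMap.exact_subtype_mkQ Jbar)
    (Submodule.mkQ_surjective Jbar) (hpow n _ hkill)

/-- **Local criterion of flatness**: `R → S` Noetherian rings, `I` an ideal of `R` with
`I S ⊆ rad S`, `M` a finite `S`-module.  If `I ⊗ M → M` is injective and `M/IM` is flat over
`R/I`, then `M` is flat over `R`. -/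
theorem flat_of_rTensor_injective_of_flat_quotient (I : Ideal R)
    (hI : I.map (algebraMap R S) ≤ Ideal.jacobson ⊥)
    (h1 : Injective (LinearMap.rTensor M I.subtype))
    (h2 : Module.Flat (R ⧸ I) ((R ⧸ I) ⊗[R] M)) : Module.Flat R M := by
  let π : (M →₀ R) →ₗ[R] M := Finsupp.linearCombination R (id : M → M)
  exact flat_of_presentation (S := S) (K := LinearMap.ker π) (F := M →₀ R)
    (LinearMap.ker π).subtype π (Submodule.subtype_injective _)
    (LinearMap.exact_subtype_ker_map π) (Finsupp.linearCombination_id_surjective R M) I hI h1 h2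

end Criterion

end Groth.Agent.Lib.Helper2
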