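import Groth.Agent.Lib.Helper2.LCHull
import Groth.Agent.Lib.Helper2.HullCrit
import Groth.Agent.Lib.Helper41.LC0
import Groth.Agent.Lib.Helper29.GorCM2
import Groth.Agent.Lib.Helper93.ReflexiveDepth
import Groth.Agent.S0341
import Groth.Agent.S0343
import Groth.Agent.S0318
import Mathlib.RingTheory.HopkinsLevitzki

/-!
# `H^n_m(A)` is an injective hull of `k` for a Gorenstein local ring `A` of dimension `n`
-/

set_option autoImplicit false
universe u

open Function CategoryTheory IsLocalRing

namespace Groth.Agent.Lib.Helper2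

theorem withBot_enat_succ_inj (a : WithBot ℕ∞) (n : ℕ)
    (h : a + 1 = ((n + 1 : ℕ) : WithBot ℕ∞)) : a = (n : WithBot ℕ∞) := by
  induction a using WithBot.recBotCoe with
  | bot =>
    exfalso
    rw [WithBot.bot_add] at h
    exact WithBot.bot_ne_coe (a := ((n + 1 : ℕ) : ℕ∞)) h
  | coe a =>
    have h' : (a + 1 : ℕ∞) = ((n + 1 : ℕ) : ℕ∞) := by exact_mod_cast h
    induction a using ENat.recTopCoe with
    | top =>
      exfalso
      rw [top_add] at h'
      exact ENat.top_ne_natCast _ h'
    | coe a =>
      have h2 : a + 1 = n + 1 := by exact_mod_cast h'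
      have h3 : a = n := by omega
      subst h3
      rfl

open Groth.Agent.Lib.Helper41.LC in
/-- `H^0_I(M) ≃ M` when `M` is `I`-power torsion. -/
theorem toMod_bijective_of_isPowerTorsion {R : Type u} [CommRing R] (I : Ideal R)
    (M : Type u) [AddCommGroup M] [Module R M] (hM : LocCoh.IsPowerTorsion I M) :
    Bijective (toMod I (ModuleCat.of R M)) :=
  ⟨toMod_injective _ _, fun a => (mem_range_toMod_iff I (ModuleCat.of R M) a).mpr (hM a)⟩

/-- A local ring which is injective over itself and has a nonzero socle element is an injective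
hull of its residue field. -/
theorem isInjectiveHull_self_of_injective {A : Type u} [CommRing A] [IsLocalRing A]
    (hinj : Module.Injective A A) (s : A) (hs : s ≠ 0)
    (hkill : ∀ r ∈ maximalIdeal A, r • s = 0) :
    InjHull.IsInjectiveHull
      (quotToOfKill (maximalIdeal A) s hkill : ResidueField A →ₗ[A] A) := by
  set g : ResidueField A →ₗ[A] A := quotToOfKill (maximalIdeal A) s hkill with hg
  have hg1 : g 1 = s := quotToOfKill_one (maximalIdeal A) s hkill
  have hginj : Injective g := injective_of_residueField_of_ne_zero g (by rw [hg1]; exact hs)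
  obtain ⟨E', hle, hess, hE'inj, C, hC⟩ :=
    exists_injective_essential_submodule hinj (LinearMap.range g)
  have hE'ne : E' ≠ ⊥ := by
    intro h
    have : s ∈ E' := hle ⟨1, hg1⟩
    rw [h, Submodule.mem_bot] at this
    exact hs this
  have hE'top : E' = ⊤ := by
    by_contra hne
    have h1 : E' ≤ maximalIdeal A := IsLocalRing.le_maximalIdeal hne
    have hCne : C ≠ ⊤ := by
      intro h
      apply hE'ne
      have := hC.inf_eq_bot
      rwa [h, inf_top_eq] at this
    have h2 : C ≤ maximalIdeal A := IsLocalRing.le_maximalIdeal hCne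
    have h3 : (⊤ : Ideal A) ≤ maximalIdeal A := by
      rw [← hC.sup_eq_top]; exact sup_le h1 h2
    exact (maximalIdeal.isMaximal A).ne_top (top_le_iff.mp h3)
  rw [hE'top] at hess
  refine isInjectiveHull_mk hginj ?_ hinj
  intro x hx
  obtain ⟨r, hr0, hr⟩ := hess x Submodule.mem_top hx
  exact ⟨r, hr0, hr⟩

open Groth.Agent.Lib.Helper41.LC in
/-- Base case: Gorenstein local of dimension `0`. -/
theorem exists_isInjectiveHull_of_gorenstein_zero (A : Type u) [CommRing A]
    [LocCoh.IsGorensteinLocalRing A] (hn : ringKrullDim A = 0) :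
    ∃ g : ResidueField A →ₗ[A] LocCoh.H (maximalIdeal A) 0 A, InjHull.IsInjectiveHull g := by
  obtain ⟨n₀, h⟩ := LocCoh.IsGorensteinLocalRing.exists_hasInjectiveDimensionLT (A := A)
  obtain ⟨r, hr, -, hdim, -⟩ := Groth.Agent.Lib.Helper29.GorCM.exists_top_ext n₀ h
  have hr0 : r = 0 := by
    rw [hn] at hdim
    exact_mod_cast hdim.symm
  subst hr0
  -- `A` is injective over itself
  have hid : HasInjectiveDimensionLT (ModuleCat.of A A) (0 + 1) :=
    Groth.Agent.Lib.Helper29.Bass.hasInjectiveDimensionLT_of_residueField A 0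
      (fun i hi => hr i (by omega))
  haveI : Injective (ModuleCat.of A A) := injective_iff_hasInjectiveDimensionLT_one.mpr hid
  have hinj : Module.Injective A A := Module.injective_module_of_injective_object A A
  -- `m` is nilpotent
  haveI : Ring.KrullDimLE 0 A := Ring.krullDimLE_iff.mpr (by rw [hn]; rfl)
  haveI : IsArtinianRing A := IsNoetherianRing.isArtinianRing_of_krullDimLE_zero
  obtain ⟨N, hN⟩ := (isArtinianRing_iff_isNilpotent_maximalIdeal A).mp inferInstance
  have htors : LocCoh.IsPowerTorsion (maximalIdeal A) A := by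
    intro a
    refine ⟨N, fun r hr => ?_⟩
    rw [hN] at hr
    rw [(Submodule.mem_bot A).mp hr, zero_smul]
  let e : LocCoh.H (maximalIdeal A) 0 A ≃ₗ[A] A :=
    LinearEquiv.ofBijective _ (toMod_bijective_of_isPowerTorsion (maximalIdeal A) A htors)
  -- a socle element
  obtain ⟨s, hs0, hs⟩ := essIn_socle_of_isPowerTorsion (maximalIdeal A) htors (1 : A)
    Submodule.mem_top one_ne_zero
  have hkill : ∀ r ∈ maximalIdeal A, r • (s • (1 : A)) = 0 := fun r hr =>
    (Submodule.mem_torsionBySet_iff _ _).mp hs ⟨r, hr⟩
  have hh := isInjectiveHull_self_of_injective hinj (s • (1 : A)) hs0 hkill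
  exact ⟨e.symm.toLinearMap ∘ₗ _, isInjectiveHull_equiv_comp e.symm _ hh⟩

/-- **Main theorem**: over a Gorenstein local ring of dimension `n`, `H^n_m(A)` is an injective hull
of the residue field. -/
theorem exists_isInjectiveHull_of_gorenstein : ∀ (n : ℕ) (A : Type u) [CommRing A]
    [LocCoh.IsGorensteinLocalRing A], ringKrullDim A = n →
    ∃ g : ResidueField A →ₗ[A] LocCoh.H (maximalIdeal A) n A, InjHull.IsInjectiveHull g := by
  intro n
  induction n with
  | zero =>
    intro A _ _ hn
    exact exists_isInjectiveHull_of_gorenstein_zero A (by exact_mod_cast hn)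
  | succ n ih =>
    intro A _ _ hn
    -- depth = n + 1
    have hCM := (Groth.Agent.S0341.result A).supportDim_eq_depth
    rw [Module.supportDim_self_eq_ringKrullDim, hn] at hCM
    have hdepth : LocCoh.idealDepth (maximalIdeal A) A = ((n + 1 : ℕ) : ℕ∞) := by
      unfold LocCoh.depth at hCM
      exact_mod_cast hCM.symm
    have hIM : maximalIdeal A • (⊤ : Submodule A A) ≠ ⊤ := by
      rw [smul_eq_mul, Ideal.mul_top]
      exact (maximalIdeal.isMaximal A).ne_top
    -- a regular element
    obtain ⟨rs, hreg, hmem, hlen⟩ :=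
      Groth.Agent.Lib.Helper93.ReflexiveDepth.exists_regular_of_le_idealDepth (maximalIdeal A) A 1
        (by rw [hdepth]; exact_mod_cast Nat.succ_le_succ (Nat.zero_le n)) hIM
    obtain ⟨x, rs', rfl⟩ : ∃ x rs', rs = x :: rs' := by
      cases rs with
      | nil => simp at hlen
      | cons x rs' => exact ⟨x, rs', rfl⟩
    have hx : x ∈ maximalIdeal A := hmem x (List.mem_cons_self ..)
    have hxreg : IsSMulRegular A x :=
      ((RingTheory.Sequence.isWeaklyRegular_cons_iff A x rs').mp hreg).1
    -- the quotient
    have hne : Ideal.span {x} ≠ (⊤ : Ideal A) := by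
      intro h
      exact (maximalIdeal.isMaximal A).ne_top
        (top_le_iff.mp (h ▸ (Ideal.span_singleton_le_iff_mem _).mpr hx))
    haveI : Nontrivial (A ⧸ Ideal.span {x}) := Ideal.Quotient.nontrivial_iff.2 hne
    haveI : IsLocalRing (A ⧸ Ideal.span {x}) :=
      IsLocalRing.of_surjective' (Ideal.Quotient.mk _) Ideal.Quotient.mk_surjective
    haveI hG : LocCoh.IsGorensteinLocalRing (A ⧸ Ideal.span {x}) :=
      (Groth.Agent.S0343.result A x hx hxreg).mp inferInstance
    have hdimB : ringKrullDim (A ⧸ Ideal.span {x}) = n := by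
      have h1 := ringKrullDim_quotient_span_singleton_succ_eq_ringKrullDim hxreg hx
      rw [hn] at h1
      exact withBot_enat_succ_inj _ n h1
    have hvan1 : Subsingleton (LocCoh.H (maximalIdeal A) n A) :=
      ((Groth.Agent.S0318.result A (maximalIdeal A) A hIM (n + 1)).mp hdepth).1 n
        (Nat.lt_succ_self n)
    have hvan2 : Subsingleton (LocCoh.H (maximalIdeal A) (n + 1) (A ⧸ Ideal.span {x})) := by
      apply Groth.Agent.Lib.Helper41.LC.subsingleton_of_supportDim_lt
      rw [Module.supportDim_quotient_eq_ringKrullDim, hdimB]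
      exact_mod_cast Nat.lt_succ_self n
    exact exists_isInjectiveHull_localCohomology_succ A x hx hxreg n hvan1 hvan2
      (ih (A ⧸ Ideal.span {x}) hdimB)

end Groth.Agent.Lib.Helper2
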