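import Groth.Prelude.Def_Wider
import Mathlib.Algebra.Category.ModuleCat.EnoughInjectives
import Mathlib.Algebra.Category.ModuleCat.Injective
import Mathlib.LinearAlgebra.Projection
import Mathlib.Order.Zorn

/-!
# Essential extensions and injective hulls (helper2)

* `EssElt f` : elementwise form of essentiality of a linear map `f : M → E`
  (`∀ x ≠ 0, ∃ r, r • x ≠ 0 ∧ r • x ∈ range f`); `essential_iff_essElt`.
* `injective_of_essElt_comp` : if `f` is essential and `h ∘ f` is injective then `h` is injective.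
* `exists_injective_essential_submodule` : inside an injective module `I`, every submodule `M'`
  has a maximal essential extension `E`, which is an injective direct summand of `I`.
* `exists_injectiveHull` : existence of injective hulls.
* `injectiveHull_unique` : uniqueness of injective hulls.
-/

set_option autoImplicit false

namespace Groth.Agent.Lib.Helper2

open Function

universe u v w

section Essential

variable {R : Type u} [CommRing R]
variable {M : Type v} {E : Type w} [AddCommGroup M] [Module R M] [AddCommGroup E] [Module R E]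

/-- Elementwise form of essentiality of `f : M → E`. -/
def EssElt (f : M →ₗ[R] E) : Prop :=
  ∀ x : E, x ≠ 0 → ∃ r : R, r • x ≠ 0 ∧ r • x ∈ LinearMap.range f

theorem essential_iff_essElt (f : M →ₗ[R] E) :
    (∀ N : Submodule R E, N ≠ ⊥ → N ⊓ LinearMap.range f ≠ ⊥) ↔ EssElt f := by
  constructor
  · intro h x hx
    have h1 : Submodule.span R {x} ≠ ⊥ := by
      rw [Ne, Submodule.span_singleton_eq_bot]; exact hx
    obtain ⟨y, hy, hy0⟩ := (Submodule.ne_bot_iff _).mp (h _ h1)
    obtain ⟨r, rfl⟩ := Submodule.mem_span_singleton.mp hy.1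
    exact ⟨r, hy0, hy.2⟩
  · intro h N hN
    obtain ⟨x, hxN, hx0⟩ := (Submodule.ne_bot_iff _).mp hN
    obtain ⟨r, hr0, hr⟩ := h x hx0
    exact (Submodule.ne_bot_iff _).mpr ⟨r • x, ⟨N.smul_mem r hxN, hr⟩, hr0⟩

/-- If `f` is essential and `h ∘ f` is injective then `h` is injective. -/
theorem injective_of_essElt_comp {Q : Type*} [AddCommGroup Q] [Module R Q] {f : M →ₗ[R] E}
    (hf : EssElt f) (h : E →ₗ[R] Q) (hinj : Injective (h ∘ₗ f)) : Injective h := by
  rw [injective_iff_map_eq_zero]
  intro x hx
  by_contra hx0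
  obtain ⟨r, hr0, ⟨m, hm⟩⟩ := hf x hx0
  have h1 : (h ∘ₗ f) m = 0 := by rw [LinearMap.comp_apply, hm, map_smul, hx, smul_zero]
  have h2 : m = 0 := hinj (by rw [h1, map_zero])
  apply hr0
  rw [← hm, h2, map_zero]

/-- Composition of essential maps (the second injective) is essential. -/
theorem EssElt.comp {E' : Type*} [AddCommGroup E'] [Module R E'] {f : M →ₗ[R] E}
    {g : E →ₗ[R] E'} (hf : EssElt f) (hg : EssElt g) (hginj : Injective g) :
    EssElt (g ∘ₗ f) := by
  intro x hx
  obtain ⟨r, hr0, ⟨e, he⟩⟩ := hg x hx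
  have he0 : e ≠ 0 := by
    rintro rfl
    rw [map_zero] at he
    exact hr0 he.symm
  obtain ⟨s, hs0, ⟨m, hm⟩⟩ := hf e he0
  refine ⟨s * r, ?_, ⟨m, ?_⟩⟩
  · rw [mul_smul, ← he, ← map_smul]
    intro h0
    exact hs0 (hginj (by rw [h0, map_zero]))
  · rw [LinearMap.comp_apply, hm, map_smul, he, mul_smul]

/-- If `g ∘ f` is essential then so is `g`. -/
theorem EssElt.of_comp {E' : Type*} [AddCommGroup E'] [Module R E'] {f : M →ₗ[R] E}
    {g : E →ₗ[R] E'} (h : EssElt (g ∘ₗ f)) : EssElt g := by
  intro x hx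
  obtain ⟨r, hr0, ⟨m, hm⟩⟩ := h x hx
  exact ⟨r, hr0, ⟨f m, hm⟩⟩

theorem EssElt.of_range_le {M' : Type*} [AddCommGroup M'] [Module R M'] {f : M →ₗ[R] E}
    {g : M' →ₗ[R] E} (hf : EssElt f) (h : LinearMap.range f ≤ LinearMap.range g) : EssElt g := by
  intro x hx
  obtain ⟨r, hr0, hr⟩ := hf x hx
  exact ⟨r, hr0, h hr⟩

/-- A linear equivalence is essential. -/
theorem essElt_of_surjective {f : M →ₗ[R] E} (hf : Surjective f) : EssElt f := by
  intro x hx
  exact ⟨1, by rwa [one_smul], by rw [one_smul]; exact hf x⟩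

end Essential

section Zorn

variable {R : Type u} [CommRing R] {I : Type v} [AddCommGroup I] [Module R I]

/-- `E` is an essential extension of `M'` inside `I` (elementwise form; `M' ≤ E` not required). -/
def EssIn (M' E : Submodule R I) : Prop :=
  ∀ x ∈ E, x ≠ 0 → ∃ r : R, r • x ≠ 0 ∧ r • x ∈ M'

theorem exists_maximal_essIn (M' : Submodule R I) :
    ∃ E : Submodule R I, M' ≤ E ∧ EssIn M' E ∧
      ∀ E' : Submodule R I, E ≤ E' → EssIn M' E' → E' = E := by
  have ih : ∀ c ⊆ {N : Submodule R I | EssIn M' N}, IsChain (· ≤ ·) c → ∀ y ∈ c,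
      ∃ ub ∈ {N : Submodule R I | EssIn M' N}, ∀ z ∈ c, z ≤ ub := by
    intro c hc hchain y hy
    refine ⟨sSup c, ?_, fun z hz => le_sSup hz⟩
    intro x hx hx0
    obtain ⟨N, hN, hxN⟩ := (Submodule.mem_sSup_of_directed ⟨y, hy⟩ hchain.directedOn).mp hx
    exact hc hN x hxN hx0
  have h0 : M' ∈ {N : Submodule R I | EssIn M' N} := by
    intro x hx hx0
    exact ⟨1, by rwa [one_smul], by rwa [one_smul]⟩
  obtain ⟨E, hME, hE⟩ := zorn_le_nonempty₀ _ ih M' h0
  exact ⟨E, hME, hE.1, fun E' hEE' hE' => le_antisymm (hE.2 hE' hEE') hEE'⟩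

theorem exists_maximal_disjoint (E : Submodule R I) :
    ∃ C : Submodule R I, Disjoint C E ∧ ∀ C' : Submodule R I, C ≤ C' → Disjoint C' E → C' = C := by
  have ih : ∀ c ⊆ {N : Submodule R I | Disjoint N E}, IsChain (· ≤ ·) c →
      ∃ ub ∈ {N : Submodule R I | Disjoint N E}, ∀ z ∈ c, z ≤ ub := by
    intro c hc hchain
    rcases c.eq_empty_or_nonempty with rfl | ⟨y, hy⟩
    · exact ⟨⊥, disjoint_bot_left, fun z hz => (Set.notMem_empty z hz).elim⟩
    · refine ⟨sSup c, ?_, fun z hz => le_sSup hz⟩
      rw [Set.mem_setOf_eq, Submodule.disjoint_def]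
      intro x hx hxE
      obtain ⟨N, hN, hxN⟩ := (Submodule.mem_sSup_of_directed ⟨y, hy⟩ hchain.directedOn).mp hx
      exact Submodule.disjoint_def.mp (hc hN) x hxN hxE
  obtain ⟨C, hC⟩ := zorn_le₀ _ ih
  exact ⟨C, hC.1, fun C' hCC' hC' => le_antisymm (hC.2 hC' hCC') hCC'⟩

/-- A direct summand of an injective module is injective. -/
theorem injective_of_isCompl (hI : Module.Injective R I) {E C : Submodule R I}
    (h : IsCompl E C) : Module.Injective R E := by
  refine ⟨fun X Y _ _ _ _ a ha g => ?_⟩
  obtain ⟨k, hk⟩ := hI.out a ha (E.subtype ∘ₗ g)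
  refine ⟨Submodule.projectionOnto E C h ∘ₗ k, fun x => ?_⟩
  rw [LinearMap.comp_apply, hk, LinearMap.comp_apply, Submodule.subtype_apply,
    Submodule.projectionOnto_apply_left]

/-- Inside an injective module, a maximal essential extension of a submodule is an injective direct
summand. -/
theorem exists_injective_essential_submodule (hI : Module.Injective R I) (M' : Submodule R I) :
    ∃ E : Submodule R I, M' ≤ E ∧ EssIn M' E ∧ Module.Injective R E ∧
      ∃ C : Submodule R I, IsCompl E C := by
  obtain ⟨E, hME, hEss, hmax⟩ := exists_maximal_essIn M'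
  obtain ⟨C, hCE, hCmax⟩ := exists_maximal_disjoint E
  set j : E →ₗ[R] I ⧸ C := C.mkQ ∘ₗ E.subtype with hjdef
  have hj : Injective j := by
    rw [injective_iff_map_eq_zero]
    intro e he
    have h1 : (e : I) ∈ C := (Submodule.Quotient.mk_eq_zero C).mp he
    exact Subtype.ext (Submodule.disjoint_def.mp hCE (e : I) h1 e.2)
  have hjess : EssElt j := by
    intro y hy
    obtain ⟨x, rfl⟩ := C.mkQ_surjective y
    have hxC : x ∉ C := fun h => hy ((Submodule.Quotient.mk_eq_zero C).mpr h)
    have hnd : ¬ Disjoint (C ⊔ Submodule.span R {x}) E := by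
      intro hd
      have := hCmax _ le_sup_left hd
      apply hxC
      rw [← this]
      exact Submodule.mem_sup_right (Submodule.mem_span_singleton_self x)
    rw [Submodule.disjoint_def] at hnd
    push Not at hnd
    obtain ⟨e, he1, heE, he0⟩ := hnd
    obtain ⟨c, hc, z, hz, rfl⟩ := Submodule.mem_sup.mp he1
    obtain ⟨r, rfl⟩ := Submodule.mem_span_singleton.mp hz
    have hq : C.mkQ (c + r • x) = r • C.mkQ x := by
      have hc0 : C.mkQ c = 0 := (Submodule.Quotient.mk_eq_zero C).mpr hc
      rw [map_add, map_smul, hc0, zero_add]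
    refine ⟨r, ?_, ⟨⟨c + r • x, heE⟩, hq⟩⟩
    intro h0
    rw [← hq] at h0
    have h1 : c + r • x ∈ C := (Submodule.Quotient.mk_eq_zero C).mp h0
    exact he0 (Submodule.disjoint_def.mp hCE _ h1 heE)
  obtain ⟨ψ, hψ⟩ := hI.out j hj E.subtype
  have hψinj : Injective ψ := by
    apply injective_of_essElt_comp hjess ψ
    intro a b hab
    apply Subtype.ext
    simpa [hψ] using hab
  have hEE' : E ≤ LinearMap.range ψ := by
    intro e he
    exact ⟨j ⟨e, he⟩, hψ ⟨e, he⟩⟩
  have hE'ess : EssIn M' (LinearMap.range ψ) := by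
    rintro _ ⟨y, rfl⟩ hy0
    have hy : y ≠ 0 := by rintro rfl; exact hy0 (map_zero ψ)
    obtain ⟨r, hr0, ⟨e, he⟩⟩ := hjess y hy
    have he0 : (e : I) ≠ 0 := by
      intro h0
      have : e = 0 := Subtype.ext h0
      rw [this, map_zero] at he
      exact hr0 he.symm
    obtain ⟨s, hs0, hs⟩ := hEss e e.2 he0
    have key : (s * r) • ψ y = s • (e : I) := by
      rw [mul_smul, ← map_smul ψ r y, ← he, hψ]
      rfl
    exact ⟨s * r, by rw [key]; exact hs0, by rw [key]; exact hs⟩
  have hE'E : LinearMap.range ψ = E := hmax _ hEE' hE'ess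
  have hjsurj : Surjective j := by
    intro y
    have hy : ψ y ∈ E := by rw [← hE'E]; exact ⟨y, rfl⟩
    refine ⟨⟨ψ y, hy⟩, hψinj ?_⟩
    rw [hψ]
    rfl
  have hcompl : IsCompl E C := by
    refine ⟨hCE.symm, ?_⟩
    rw [codisjoint_iff, eq_top_iff]
    intro x _
    obtain ⟨e, he⟩ := hjsurj (C.mkQ x)
    have h1 : x - (e : I) ∈ C := by
      rw [← Submodule.Quotient.mk_eq_zero C, Submodule.Quotient.mk_sub]
      have : C.mkQ (e : I) = C.mkQ x := he
      rw [Submodule.mkQ_apply, Submodule.mkQ_apply] at this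
      rw [this, sub_self]
    have : x = (e : I) + (x - (e : I)) := by abel
    rw [this]
    exact Submodule.add_mem_sup e.2 h1
  exact ⟨E, hME, hEss, injective_of_isCompl hI hcompl, C, hcompl⟩

end Zorn

section Hull

open CategoryTheory

variable {R : Type u} [CommRing R]

theorem isEssentialInj_iff {M E : Type v} [AddCommGroup M] [Module R M] [AddCommGroup E]
    [Module R E] (f : M →ₗ[R] E) : InjHull.IsEssentialInj f ↔ Injective f ∧ EssElt f :=
  ⟨fun h => ⟨h.injective, (essential_iff_essElt f).mp h.essential⟩,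
    fun h => ⟨h.1, (essential_iff_essElt f).mpr h.2⟩⟩

theorem _root_.InjHull.IsEssentialInj.essElt {M E : Type v} [AddCommGroup M] [Module R M]
    [AddCommGroup E] [Module R E] {f : M →ₗ[R] E} (h : InjHull.IsEssentialInj f) : EssElt f :=
  (essential_iff_essElt f).mp h.essential

theorem isInjectiveHull_mk {M E : Type v} [AddCommGroup M] [Module R M] [AddCommGroup E]
    [Module R E] {f : M →ₗ[R] E} (h1 : Injective f) (h2 : EssElt f) (h3 : Module.Injective R E) :
    InjHull.IsInjectiveHull f :=
  { injective := h1, essential := (essential_iff_essElt f).mpr h2, isInjective := h3 }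

/-- Every module embeds into an injective module (in the same universe). -/
theorem exists_injective_embedding (R : Type u) [CommRing R] (M : Type u) [AddCommGroup M]
    [Module R M] :
    ∃ (I : Type u) (_ : AddCommGroup I) (_ : Module R I) (i : M →ₗ[R] I),
      Injective i ∧ Module.Injective R I := by
  haveI : EnoughInjectives (ModuleCat.{u} R) := ModuleCat.enoughInjectives.{u} R
  let X : ModuleCat.{u} R := ModuleCat.of R M
  refine ⟨(CategoryTheory.Injective.under X : ModuleCat.{u} R), inferInstance, inferInstance,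
    (CategoryTheory.Injective.ι X).hom, ?_, ?_⟩
  · exact (ModuleCat.mono_iff_injective _).mp inferInstance
  · haveI h : CategoryTheory.Injective
        (ModuleCat.of R (CategoryTheory.Injective.under X : ModuleCat.{u} R)) :=
      (inferInstance : CategoryTheory.Injective (CategoryTheory.Injective.under X))
    exact Module.injective_module_of_injective_object R _

/-- The hull of a submodule inside an injective module, as a map. -/
theorem exists_injectiveHull_of_embedding {M I : Type v} [AddCommGroup M] [Module R M]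
    [AddCommGroup I] [Module R I] (hI : Module.Injective R I) (i : M →ₗ[R] I) (hi : Injective i) :
    ∃ (E : Submodule R I) (f : M →ₗ[R] E), InjHull.IsInjectiveHull f ∧
      (∀ m, (f m : I) = i m) ∧ ∃ C : Submodule R I, IsCompl E C := by
  obtain ⟨E, hME, hEss, hEinj, C, hC⟩ := exists_injective_essential_submodule hI (LinearMap.range i)
  refine ⟨E, LinearMap.codRestrict E i (fun m => hME ⟨m, rfl⟩), ?_, fun m => rfl, C, hC⟩
  refine isInjectiveHull_mk ?_ ?_ hEinj
  · intro a b hab
    apply hi
    have := congrArg Subtype.val hab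
    simpa using this
  · intro x hx
    have hx0 : (x : I) ≠ 0 := fun h => hx (Subtype.ext h)
    obtain ⟨r, hr0, ⟨m, hm⟩⟩ := hEss x x.2 hx0
    refine ⟨r, fun h => hr0 (by simpa using congrArg Subtype.val h), ⟨m, Subtype.ext ?_⟩⟩
    simpa using hm

/-- **Existence of injective hulls.** -/
theorem exists_injectiveHull (R : Type u) [CommRing R] (M : Type u) [AddCommGroup M] [Module R M] :
    ∃ (E : Type u) (_ : AddCommGroup E) (_ : Module R E) (f : M →ₗ[R] E),
      InjHull.IsInjectiveHull f := by
  obtain ⟨I, _, _, i, hi, hI⟩ := exists_injective_embedding R M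
  obtain ⟨E, f, hf, -, -⟩ := exists_injectiveHull_of_embedding hI i hi
  exact ⟨E, inferInstance, inferInstance, f, hf⟩

/-- **Uniqueness of injective hulls.** -/
theorem injectiveHull_unique {M E E' : Type v} [AddCommGroup M] [Module R M] [AddCommGroup E]
    [Module R E] [AddCommGroup E'] [Module R E'] (f : M →ₗ[R] E) (hf : InjHull.IsInjectiveHull f)
    (g : M →ₗ[R] E') (hg : InjHull.IsInjectiveHull g) :
    ∃ e : E ≃ₗ[R] E', e.toLinearMap ∘ₗ f = g := by
  obtain ⟨α, hα⟩ := hg.isInjective.out f hf.injective g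
  have hαf : α ∘ₗ f = g := LinearMap.ext hα
  have hαinj : Injective α :=
    injective_of_essElt_comp hf.toIsEssentialInj.essElt α (by rw [hαf]; exact hg.injective)
  obtain ⟨β, hβ⟩ := hf.isInjective.out α hαinj LinearMap.id
  have hβg : β ∘ₗ g = f := by
    ext m
    rw [← hαf, LinearMap.comp_apply, LinearMap.comp_apply, hβ, LinearMap.id_apply]
  have hβinj : Injective β :=
    injective_of_essElt_comp hg.toIsEssentialInj.essElt β (by rw [hβg]; exact hf.injective)
  have hαβ : ∀ y, α (β y) = y := by
    intro y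
    apply hβinj
    rw [hβ, LinearMap.id_apply]
  refine ⟨LinearEquiv.ofLinear α β (LinearMap.ext hαβ) (LinearMap.ext hβ), ?_⟩
  ext m
  exact hα m

end Hull

end Groth.Agent.Lib.Helper2
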