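import Groth.Agent.Lib.Helper2.InjHull2
import Groth.Agent.Lib.Helper32.Matlis

/-!
# Injective hull of the residue field of a local ring (helper2)
-/

set_option autoImplicit false

namespace Groth.Agent.Lib.Helper2

open Function IsLocalRing

universe u v

section General

variable {R : Type u} [CommRing R] {M E : Type v} [AddCommGroup M] [Module R M]
  [AddCommGroup E] [Module R E]

theorem essElt_subtype_iff (N : Submodule R E) : EssElt N.subtype ↔ EssIn N ⊤ := by
  constructor
  · intro h x _ hx
    obtain ⟨r, hr0, ⟨n, hn⟩⟩ := h x hx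
    exact ⟨r, hr0, by rw [← hn]; exact n.2⟩
  · intro h x hx
    obtain ⟨r, hr0, hr⟩ := h x Submodule.mem_top hx
    exact ⟨r, hr0, ⟨⟨r • x, hr⟩, rfl⟩⟩

/-- An injective submodule is a direct summand. -/
theorem exists_isCompl_of_injective (N : Submodule R E) (hN : Module.Injective R N) :
    ∃ C : Submodule R E, IsCompl N C := by
  obtain ⟨ρ, hρ⟩ := hN.out N.subtype N.subtype_injective LinearMap.id
  exact ⟨LinearMap.ker ρ, LinearMap.isCompl_of_proj hρ⟩

/-- An injective submodule containing an essential submodule is everything. -/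
theorem eq_top_of_injective_of_range_le {f : M →ₗ[R] E} (hf : EssElt f) (N : Submodule R E)
    (hN : Module.Injective R N) (h : LinearMap.range f ≤ N) : N = ⊤ := by
  obtain ⟨C, hC⟩ := exists_isCompl_of_injective N hN
  have hCbot : C = ⊥ := by
    by_contra hne
    obtain ⟨x, hxC, hx0⟩ := (Submodule.ne_bot_iff _).mp hne
    obtain ⟨r, hr0, hr⟩ := hf x hx0
    exact hr0 (Submodule.disjoint_def.mp hC.disjoint _ (h hr) (C.smul_mem r hxC))
  have := hC.sup_eq_top
  rwa [hCbot, sup_bot_eq] at this

end General

section Local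

variable {R : Type u} [CommRing R] [IsLocalRing R]

/-- The socle of a power-torsion module is essential. -/
theorem essIn_socle_of_isPowerTorsion (I : Ideal R) {M : Type v} [AddCommGroup M] [Module R M]
    (hM : LocCoh.IsPowerTorsion I M) : EssIn (LocCoh.torsionBy I M) ⊤ := by
  intro t _ ht0
  classical
  have hex : ∃ n : ℕ, ∀ a ∈ I ^ n, a • t = 0 := hM t
  have hmin : ∀ {m : ℕ}, m < Nat.find hex → ¬ (∀ a ∈ I ^ m, a • t = 0) :=
    fun {m} hm => Nat.find_min hex hm
  have hspec := Nat.find_spec hex
  set n := Nat.find hex with hn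
  have hn0 : n ≠ 0 := by
    intro h0
    rw [h0, pow_zero, Ideal.one_eq_top] at hspec
    apply ht0
    simpa using hspec 1 Submodule.mem_top
  obtain ⟨n', hn'⟩ := Nat.exists_eq_succ_of_ne_zero hn0
  have hlt : n' < n := by omega
  have := hmin hlt
  push Not at this
  obtain ⟨b, hb, hbt⟩ := this
  refine ⟨b, hbt, ?_⟩
  rw [Submodule.mem_torsionBySet_iff]
  rintro ⟨a, ha⟩
  change a • b • t = 0
  rw [← mul_smul]
  apply hspec
  rw [hn', pow_succ']
  exact Ideal.mul_mem_mul ha hb

end Local

section NoethLocal

variable {R : Type u} [CommRing R] [IsLocalRing R]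

theorem range_le_powTors {E : Type u} [AddCommGroup E] [Module R E]
    (f : ResidueField R →ₗ[R] E) :
    LinearMap.range f ≤ Groth.Agent.Lib.Helper32.powTors (maximalIdeal R) E := by
  rintro _ ⟨c, rfl⟩
  rw [Groth.Agent.Lib.Helper32.mem_powTors_iff]
  refine ⟨1, fun a ha => ?_⟩
  rw [pow_one] at ha
  rw [← map_smul]
  have : a • c = 0 := by
    rw [Algebra.smul_def]
    have : algebraMap R (ResidueField R) a = 0 := (IsLocalRing.residue_eq_zero_iff a).mpr ha
    rw [this, zero_mul]
  rw [this, map_zero]

/-- Over a Noetherian local ring, `E(k)` is `m`-power torsion. -/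
theorem isPowerTorsion_of_isInjectiveHull [IsNoetherianRing R] {E : Type u} [AddCommGroup E]
    [Module R E] (f : ResidueField R →ₗ[R] E) (hf : InjHull.IsInjectiveHull f) :
    LocCoh.IsPowerTorsion (maximalIdeal R) E := by
  have htop := eq_top_of_injective_of_range_le hf.toIsEssentialInj.essElt
    (Groth.Agent.Lib.Helper32.powTors (maximalIdeal R) E)
    (Groth.Agent.Lib.Helper32.injective_powTors _ E hf.isInjective) (range_le_powTors f)
  intro x
  have hx : x ∈ Groth.Agent.Lib.Helper32.powTors (maximalIdeal R) E := by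
    rw [htop]; exact Submodule.mem_top
  exact (Groth.Agent.Lib.Helper32.mem_powTors_iff _ x).mp hx

end NoethLocal

end Groth.Agent.Lib.Helper2
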