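import Groth.Agent.Lib.Helper2.InjHull3
import Mathlib.LinearAlgebra.Dimension.Free
import Mathlib.LinearAlgebra.FreeModule.Finite.Basic

/-!
# Embedding power-torsion modules with finite socle into `E(k)^n` (helper2)
-/

set_option autoImplicit false

namespace Groth.Agent.Lib.Helper2

open Function IsLocalRing

universe u v

section Embed

variable {R : Type u} [CommRing R] [IsLocalRing R]

/-- A finite-dimensional socle embeds `R`-linearly in `(R/m)^n`. -/
theorem exists_injective_socle_to_pi {M : Type u} [AddCommGroup M] [Module R M] (n : ℕ)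
    [Module.Finite (R ⧸ maximalIdeal R) ↥(LocCoh.torsionBy (maximalIdeal R) M)]
    (hn : Module.finrank (R ⧸ maximalIdeal R) ↥(LocCoh.torsionBy (maximalIdeal R) M) = n) :
    ∃ e : ↥(LocCoh.torsionBy (maximalIdeal R) M) →ₗ[R] (Fin n → R ⧸ maximalIdeal R),
      Injective e := by
  letI : Field (R ⧸ maximalIdeal R) := Ideal.Quotient.field _
  let b := Module.finBasisOfFinrankEq (R ⧸ maximalIdeal R)
    ↥(LocCoh.torsionBy (maximalIdeal R) M) hn
  exact ⟨b.equivFun.toLinearMap.restrictScalars R, b.equivFun.injective⟩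

/-- Over a local ring, a power-torsion module whose socle has dimension `n` embeds into `E(k)^n`. -/
theorem exists_injective_to_pi_of_socle_finrank {E : Type u} [AddCommGroup E] [Module R E]
    (f : ResidueField R →ₗ[R] E) (hf : InjHull.IsInjectiveHull f)
    (M : Type u) [AddCommGroup M] [Module R M]
    (hM : LocCoh.IsPowerTorsion (maximalIdeal R) M) (n : ℕ)
    [Module.Finite (R ⧸ maximalIdeal R) ↥(LocCoh.torsionBy (maximalIdeal R) M)]
    (hn : Module.finrank (R ⧸ maximalIdeal R) ↥(LocCoh.torsionBy (maximalIdeal R) M) = n) :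
    ∃ g : M →ₗ[R] (Fin n → E), Injective g := by
  obtain ⟨e, he⟩ := exists_injective_socle_to_pi (M := M) n hn
  let f' : (R ⧸ maximalIdeal R) →ₗ[R] E := f
  have hf' : Injective f' := hf.injective
  let h₀ : ↥(LocCoh.torsionBy (maximalIdeal R) M) →ₗ[R] (Fin n → E) := (f'.compLeft (Fin n)) ∘ₗ e
  have h₀inj : Injective h₀ := by
    intro a b hab
    apply he
    funext i
    apply hf'
    exact congrFun hab i
  haveI := hf.isInjective
  obtain ⟨g, hg⟩ := (inferInstance : Module.Injective R (Fin n → E)).out
    (LocCoh.torsionBy (maximalIdeal R) M).subtype (Submodule.subtype_injective _) h₀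
  refine ⟨g, injective_of_essElt_comp
    ((essElt_subtype_iff _).mpr (essIn_socle_of_isPowerTorsion (maximalIdeal R) hM)) g ?_⟩
  have : g ∘ₗ (LocCoh.torsionBy (maximalIdeal R) M).subtype = h₀ := LinearMap.ext hg
  rw [this]
  exact h₀inj

end Embed

end Groth.Agent.Lib.Helper2
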