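import Groth.Agent.Lib.Helper2.Matlis2
import Groth.Agent.Lib.Helper2.InjHull4
import Groth.Agent.S0543

/-!
# Matlis duality, part 3: `E(k)` is Artinian; Artinian modules over a Noetherian local ring (helper2)
-/

set_option autoImplicit false

namespace Groth.Agent.Lib.Helper2

open Function IsLocalRing

universe u

section

variable {R : Type u} [CommRing R] [IsLocalRing R] [IsNoetherianRing R]
variable {E : Type u} [AddCommGroup E] [Module R E]
variable (f : ResidueField R →ₗ[R] E) (hf : InjHull.IsInjectiveHull f)

/-- The ideal of the completion killing a submodule of `E(k)`. -/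
noncomputable def annIdeal (S : Submodule R E) : Ideal (AdicCompletion (maximalIdeal R) R) where
  carrier := {a | ∀ x ∈ S, matlisEnd f hf a x = 0}
  zero_mem' := fun x _ => by rw [map_zero]; rfl
  add_mem' := fun {a b} ha hb x hx => by
    rw [map_add, LinearMap.add_apply, ha x hx, hb x hx, add_zero]
  smul_mem' := fun c a ha x hx => by
    rw [smul_eq_mul, map_mul, Module.End.mul_apply, ha x hx, map_zero]

theorem annIdeal_anti {S S' : Submodule R E} (h : S ≤ S') : annIdeal f hf S' ≤ annIdeal f hf S :=
  fun _ ha x hx => ha x (h hx)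

include f hf in
/-- **`E(k)` is Artinian** over a Noetherian local ring. -/
theorem isArtinian_of_isInjectiveHull : IsArtinian R E := by
  haveI : IsNoetherianRing (AdicCompletion (maximalIdeal R) R) := Groth.Agent.S0543.result R _
  rw [← monotone_stabilizes_iff_artinian]
  intro N
  let J : ℕ →o Ideal (AdicCompletion (maximalIdeal R) R) :=
    ⟨fun i => annIdeal f hf (OrderDual.ofDual (N i)), fun i j hij =>
      annIdeal_anti f hf (N.monotone hij)⟩
  obtain ⟨n, hn⟩ := monotone_stabilizes_iff_noetherian.mpr
    (inferInstance : IsNoetherian (AdicCompletion (maximalIdeal R) R)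
      (AdicCompletion (maximalIdeal R) R)) J
  refine ⟨n, fun m hnm => ?_⟩
  have hle : OrderDual.ofDual (N m) ≤ OrderDual.ofDual (N n) := N.monotone hnm
  apply OrderDual.ofDual.injective
  refine le_antisymm ?_ hle
  intro x hx
  by_contra hxm
  set S : Submodule R E := OrderDual.ofDual (N m) with hS
  have hx0 : S.mkQ x ≠ 0 := by
    rwa [Ne, Submodule.mkQ_apply, Submodule.Quotient.mk_eq_zero]
  obtain ⟨g, hg⟩ := exists_linearMap_apply_ne_zero f hf (S.mkQ x) hx0
  obtain ⟨a, ha⟩ := matlisEnd_surjective f hf (g ∘ₗ S.mkQ)
  have ham : a ∈ J m := by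
    intro y hy
    rw [ha, LinearMap.comp_apply]
    have : S.mkQ y = 0 := by rw [Submodule.mkQ_apply, Submodule.Quotient.mk_eq_zero]; exact hy
    rw [this, map_zero]
  have han : a ∈ J n := by rw [hn m hnm]; exact ham
  apply hg
  have := han x hx
  rw [ha] at this
  exact this

end

end Groth.Agent.Lib.Helper2
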