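import Mathlib
import Groth.Agent.S0307
import Groth.Agent.S0314
import Groth.Agent.Lib.Helper2.InjHullLoc2
import Groth.Agent.Lib.Helper2.InjHull2
import Groth.Agent.Lib.Helper31.SmallExt
import Groth.Agent.Lib.Helper46.TorFiltered

/-!
# Injective modules over Noetherian rings as filtered colimits of modules finite over Artinian
algebras (helper2)
-/

set_option autoImplicit false

namespace Groth.Agent.Lib.Helper2.ArtColim

universe u

open IsLocalRing CategoryTheory Limits

/-- Transfer a `B`-module structure along an `A`-linear equivalence. -/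
theorem exists_module_of_linearEquiv {A : Type u} [CommRing A] {D P : Type u} [AddCommGroup D]
    [Module A D] [AddCommGroup P] [Module A P] (B : Type u) [CommRing B] [Algebra A B] [Module B P]
    [IsScalarTower A B P] [Module.Finite B P] (e : D ≃ₗ[A] P) :
    ∃ (_ : Module B D) (_ : IsScalarTower A B D), Module.Finite B D := by
  letI : Module B D := e.toAddEquiv.module B
  haveI : IsScalarTower A B D := LinearEquiv.isScalarTower B e
  refine ⟨inferInstance, inferInstance, ?_⟩
  exact Module.Finite.equiv (e.toAddEquiv.linearEquiv B).symm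

section Single

variable {A : Type u} [CommRing A] [IsNoetherianRing A]
variable {E : Type u} [AddCommGroup E] [Module A E]
variable (p : Ideal A) [p.IsPrime] (f : (A ⧸ p) →ₗ[A] E) (hf : InjHull.IsInjectiveHull f)

include hf in
/-- `E(A/p)[p^n]` is a finite module over the Artinian ring `A_p / (pA_p)^n`. -/
theorem exists_artinian_structure_tors (n : ℕ) :
    ∃ (B : Type u) (_ : CommRing B) (_ : Algebra A B) (_ : IsArtinianRing B)
      (_ : Module B ↥(Submodule.torsionBySet A E ((p ^ n : Ideal A) : Set A)))
      (_ : IsScalarTower A B ↥(Submodule.torsionBySet A E ((p ^ n : Ideal A) : Set A))),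
      Module.Finite B ↥(Submodule.torsionBySet A E ((p ^ n : Ideal A) : Set A)) := by
  classical
  have hdisj : Disjoint (p : Set A) (p.primeCompl : Set A) := by
    rw [Set.disjoint_left]; intro a ha hS; exact hS ha
  have hbij := bijective_mkLinearMap_of_disjoint p.primeCompl p f hf hdisj
  obtain ⟨g, hg⟩ := exists_isInjectiveHull_localization_quotient p.primeCompl p f hf
  have hmap : p.map (algebraMap A (Localization.AtPrime p)) =
      maximalIdeal (Localization.AtPrime p) := Localization.AtPrime.map_eq_maximalIdeal
  let eq : (Localization.AtPrime p ⧸ maximalIdeal (Localization.AtPrime p))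
      ≃ₗ[Localization.AtPrime p]
      (Localization.AtPrime p ⧸ p.map (algebraMap A (Localization.AtPrime p))) :=
    Submodule.quotEquivOfEq _ _ hmap.symm
  have hg' := isInjectiveHull_comp_equiv eq g hg
  let g0 : ResidueField (Localization.AtPrime p) →ₗ[Localization.AtPrime p]
      LocalizedModule p.primeCompl E := g ∘ₗ eq.toLinearMap
  have hg0 : InjHull.IsInjectiveHull g0 := hg'
  haveI : IsArtinian (Localization.AtPrime p) (LocalizedModule p.primeCompl E) :=
    Groth.Agent.S0314.result _ _ g0 hg0
  have htors : Module.IsTorsionBySet (Localization.AtPrime p)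
      ↥(Submodule.torsionBySet (Localization.AtPrime p) (LocalizedModule p.primeCompl E)
        ((maximalIdeal (Localization.AtPrime p) ^ n : Ideal (Localization.AtPrime p)) :
          Set (Localization.AtPrime p)))
      ((maximalIdeal (Localization.AtPrime p) ^ n : Ideal (Localization.AtPrime p)) :
          Set (Localization.AtPrime p)) :=
    Submodule.torsionBySet_isTorsionBySet _
  letI : Module (Localization.AtPrime p ⧸ maximalIdeal (Localization.AtPrime p) ^ n)
      ↥(Submodule.torsionBySet (Localization.AtPrime p) (LocalizedModule p.primeCompl E)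
        ((maximalIdeal (Localization.AtPrime p) ^ n : Ideal (Localization.AtPrime p)) :
          Set (Localization.AtPrime p))) := htors.module
  haveI : IsScalarTower (Localization.AtPrime p)
      (Localization.AtPrime p ⧸ maximalIdeal (Localization.AtPrime p) ^ n)
      ↥(Submodule.torsionBySet (Localization.AtPrime p) (LocalizedModule p.primeCompl E)
        ((maximalIdeal (Localization.AtPrime p) ^ n : Ideal (Localization.AtPrime p)) :
          Set (Localization.AtPrime p))) := htors.isScalarTower
  haveI : IsArtinianRing (Localization.AtPrime p ⧸ maximalIdeal (Localization.AtPrime p) ^ n) :=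
    Groth.Agent.Lib.Helper31.SmallExt.isArtinianRing_quot_maximalIdeal_pow _ n
  have hA : IsArtinian (Localization.AtPrime p ⧸ maximalIdeal (Localization.AtPrime p) ^ n)
      ↥(Submodule.torsionBySet (Localization.AtPrime p) (LocalizedModule p.primeCompl E)
        ((maximalIdeal (Localization.AtPrime p) ^ n : Ideal (Localization.AtPrime p)) :
          Set (Localization.AtPrime p))) :=
    isArtinian_of_tower (Localization.AtPrime p) inferInstance
  haveI hfin : Module.Finite (Localization.AtPrime p ⧸ maximalIdeal (Localization.AtPrime p) ^ n)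
      ↥(Submodule.torsionBySet (Localization.AtPrime p) (LocalizedModule p.primeCompl E)
        ((maximalIdeal (Localization.AtPrime p) ^ n : Ideal (Localization.AtPrime p)) :
          Set (Localization.AtPrime p))) :=
    ((IsArtinianRing.tfae
      (R := Localization.AtPrime p ⧸ maximalIdeal (Localization.AtPrime p) ^ n)
      (M := ↥(Submodule.torsionBySet (Localization.AtPrime p) (LocalizedModule p.primeCompl E)
        ((maximalIdeal (Localization.AtPrime p) ^ n : Ideal (Localization.AtPrime p)) :
          Set (Localization.AtPrime p))))).out 0 2).mpr hA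
  haveI : IsScalarTower A (Localization.AtPrime p ⧸ maximalIdeal (Localization.AtPrime p) ^ n)
      ↥(Submodule.torsionBySet (Localization.AtPrime p) (LocalizedModule p.primeCompl E)
        ((maximalIdeal (Localization.AtPrime p) ^ n : Ideal (Localization.AtPrime p)) :
          Set (Localization.AtPrime p))) :=
    IsScalarTower.of_algebraMap_smul (fun a y => by
      rw [IsScalarTower.algebraMap_apply A (Localization.AtPrime p)
        (Localization.AtPrime p ⧸ maximalIdeal (Localization.AtPrime p) ^ n), algebraMap_smul,
        algebraMap_smul])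
  have hmem : ∀ x : E, x ∈ Submodule.torsionBySet A E ((p ^ n : Ideal A) : Set A) ↔
      LocalizedModule.mkLinearMap p.primeCompl E x ∈
        Submodule.torsionBySet (Localization.AtPrime p) (LocalizedModule p.primeCompl E)
        ((maximalIdeal (Localization.AtPrime p) ^ n : Ideal (Localization.AtPrime p)) :
          Set (Localization.AtPrime p)) := by
    intro x
    rw [Submodule.mem_torsionBySet_iff, Submodule.mem_torsionBySet_iff]
    constructor
    · intro h a
      have hle : (p ^ n).map (algebraMap A (Localization.AtPrime p)) ≤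
          Ideal.torsionOf (Localization.AtPrime p) (LocalizedModule p.primeCompl E)
            (LocalizedModule.mkLinearMap p.primeCompl E x) := by
        rw [Ideal.map_le_iff_le_comap]
        intro b hb
        rw [Ideal.mem_comap, Ideal.mem_torsionOf_iff, algebraMap_smul, ← map_smul, h ⟨b, hb⟩,
          map_zero]
      have ha : (a : Localization.AtPrime p) ∈
          (p ^ n).map (algebraMap A (Localization.AtPrime p)) := by
        rw [Ideal.map_pow, hmap]; exact a.2
      exact (Ideal.mem_torsionOf_iff _ _).mp (hle ha)
    · intro h a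
      apply hbij.1
      rw [map_smul, map_zero, ← algebraMap_smul (Localization.AtPrime p)]
      exact h ⟨algebraMap A (Localization.AtPrime p) a, by
        rw [← hmap, ← Ideal.map_pow]; exact Ideal.mem_map_of_mem _ a.2⟩
  let φ : ↥(Submodule.torsionBySet A E ((p ^ n : Ideal A) : Set A)) →ₗ[A]
      ↥(Submodule.torsionBySet (Localization.AtPrime p) (LocalizedModule p.primeCompl E)
        ((maximalIdeal (Localization.AtPrime p) ^ n : Ideal (Localization.AtPrime p)) :
          Set (Localization.AtPrime p))) :=
    { toFun := fun x => ⟨LocalizedModule.mkLinearMap p.primeCompl E x.1, (hmem x.1).mp x.2⟩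
      map_add' := fun x y => Subtype.ext (by simp)
      map_smul' := fun a x => Subtype.ext (by simp) }
  have hφ : Function.Bijective φ := by
    constructor
    · intro x y hxy
      apply Subtype.ext
      apply hbij.1
      exact congrArg Subtype.val hxy
    · intro y
      obtain ⟨x, hx⟩ := hbij.2 y.1
      exact ⟨⟨x, (hmem x).mpr (hx ▸ y.2)⟩, Subtype.ext hx⟩
  obtain ⟨i1, i2, i3⟩ := exists_module_of_linearEquiv
    (Localization.AtPrime p ⧸ maximalIdeal (Localization.AtPrime p) ^ n)
    (LinearEquiv.ofBijective φ hφ)
  exact ⟨_, inferInstance, inferInstance, inferInstance, i1, i2, i3⟩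

end Single


section Pi

/-- A finite product of finite modules is finite over the product ring. -/
theorem finite_pi' {σ : Type u} [Fintype σ] [DecidableEq σ] (B : σ → Type u)
    [∀ i, CommRing (B i)] (T : σ → Type u) [∀ i, AddCommGroup (T i)] [∀ i, Module (B i) (T i)]
    [∀ i, Module.Finite (B i) (T i)] : Module.Finite (∀ i, B i) (∀ i, T i) := by
  classical
  have h : ∀ i, ∃ S : Finset (T i), Submodule.span (B i) (S : Set (T i)) = ⊤ :=
    fun i => (Module.Finite.fg_top : (⊤ : Submodule (B i) (T i)).FG)
  choose G hG using h
  refine ⟨⟨Finset.univ.biUnion (fun i => (G i).image (Pi.single i)), ?_⟩⟩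
  obtain ⟨W, hW⟩ : ∃ W : Submodule (∀ i, B i) (∀ i, T i), W = Submodule.span (∀ i, B i)
      (↑(Finset.univ.biUnion (fun i => (G i).image (Pi.single i))) : Set (∀ i, T i)) := ⟨_, rfl⟩
  rw [← hW, eq_top_iff]
  intro x _
  have key : ∀ i (t : T i), (Pi.single i t : ∀ i, T i) ∈ W := by
    intro i t
    have ht : t ∈ Submodule.span (B i) (G i : Set (T i)) := by rw [hG i]; trivial
    induction ht using Submodule.span_induction with
    | mem t ht =>
      rw [hW]
      exact Submodule.subset_span (Finset.mem_coe.mpr (Finset.mem_biUnion.mpr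
        ⟨i, Finset.mem_univ i, Finset.mem_image.mpr ⟨t, Finset.mem_coe.mp ht, rfl⟩⟩))
    | zero => rw [Pi.single_zero]; exact W.zero_mem
    | add t t' _ _ h1 h2 => rw [Pi.single_add]; exact W.add_mem h1 h2
    | smul b t _ h =>
      have : (Pi.single i (b • t) : ∀ j, T j) =
          (Pi.single i b : ∀ j, B j) • (Pi.single i t : ∀ j, T j) := by
        funext j
        by_cases hj : j = i
        · subst hj; simp
        · simp [Pi.single_eq_of_ne hj]
      rw [this]; exact W.smul_mem _ h
  rw [← Finset.univ_sum_single x]
  exact W.sum_mem fun i _ => key i (x i)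

theorem exists_artinian_pi {A : Type u} [CommRing A] {σ : Type u} [Finite σ] (T : σ → Type u)
    [∀ i, AddCommGroup (T i)] [∀ i, Module A (T i)]
    (h : ∀ i, ∃ (B : Type u) (_ : CommRing B) (_ : Algebra A B) (_ : IsArtinianRing B)
      (_ : Module B (T i)) (_ : IsScalarTower A B (T i)), Module.Finite B (T i)) :
    ∃ (B : Type u) (_ : CommRing B) (_ : Algebra A B) (_ : IsArtinianRing B)
      (_ : Module B (∀ i, T i)) (_ : IsScalarTower A B (∀ i, T i)),
      Module.Finite B (∀ i, T i) := by
  classical
  haveI := Fintype.ofFinite σ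
  choose B h1 h2 h3 h4 h5 h6 using h
  refine ⟨∀ i, B i, inferInstance, inferInstance, inferInstance, Pi.module' , ?_, ?_⟩
  · constructor
    intro a b x
    funext i
    exact smul_assoc a (b i) (x i)
  · exact finite_pi' B T

end Pi

section Union

variable {A : Type u} [CommRing A] {J : Type u} [AddCommGroup J] [Module A J] {ι : Type u}

/-- Finite independent sums are products. -/
theorem nonempty_linearEquiv_biSup (N : ι → Submodule A J) (hN : iSupIndep N) (s : Finset ι) :
    Nonempty (↥(⨆ i ∈ s, N i) ≃ₗ[A] (∀ i : ↥s, ↥(N i))) := by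
  classical
  let Ψ : (∀ i : ↥s, ↥(N i)) →ₗ[A] J :=
    ∑ i : ↥s, (N i).subtype ∘ₗ LinearMap.proj i
  have hΨ : ∀ x, Ψ x = ∑ i : ↥s, (x i : J) := by
    intro x
    simp [Ψ, LinearMap.sum_apply]
  have hinj : Function.Injective Ψ := by
    rw [← LinearMap.ker_eq_bot, eq_bot_iff]
    intro x hx
    rw [LinearMap.mem_ker, hΨ] at hx
    rw [Submodule.mem_bot]
    funext i
    have := (iSupIndep_iff_finsetSum_eq_zero_imp_eq_zero (fun i : ↥s => N i)).mp
      (hN.comp Subtype.val_injective) Finset.univ (fun i => (x i : J)) (fun i _ => (x i).2) hx i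
      (Finset.mem_univ i)
    exact Subtype.ext this
  have hrange : LinearMap.range Ψ = ⨆ i ∈ s, N i := by
    apply le_antisymm
    · rintro _ ⟨x, rfl⟩
      rw [hΨ]
      exact Submodule.sum_mem _ fun i _ =>
        Submodule.mem_iSup_of_mem i.1 (Submodule.mem_iSup_of_mem i.2 (x i).2)
    · refine iSup₂_le fun i hi y hy => ?_
      refine ⟨Pi.single (⟨i, hi⟩ : ↥s) ⟨y, hy⟩, ?_⟩
      rw [hΨ, Fintype.sum_eq_single (⟨i, hi⟩ : ↥s)]
      · rw [Pi.single_eq_same]
      · intro j hj
        rw [Pi.single_eq_of_ne hj]
        rfl
  exact ⟨((LinearEquiv.ofInjective Ψ hinj).trans (LinearEquiv.ofEq _ _ hrange)).symm⟩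

/-- The index poset. -/
structure Idx (ι : Type u) : Type u where
  s : Finset ι
  n : ℕ

instance : Preorder (Idx ι) where
  le a b := a.s ⊆ b.s ∧ a.n ≤ b.n
  le_refl a := ⟨Finset.Subset.refl _, le_rfl⟩
  le_trans a b c h1 h2 := ⟨h1.1.trans h2.1, h1.2.trans h2.2⟩

instance : Nonempty (Idx ι) := ⟨⟨∅, 0⟩⟩

instance : IsDirected (Idx ι) (· ≤ ·) := by
  classical
  exact ⟨fun a b => ⟨⟨a.s ∪ b.s, max a.n b.n⟩, ⟨Finset.subset_union_left, le_max_left _ _⟩,
    ⟨Finset.subset_union_right, le_max_right _ _⟩⟩⟩

variable (T : ι → ℕ → Submodule A J)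

/-- The submodule attached to an index. -/
def Dsub (a : Idx ι) : Submodule A J := ⨆ i ∈ a.s, T i a.n

variable {T}

theorem Dsub_mono (hT : ∀ i, Monotone (T i)) : Monotone (Dsub T) := fun _ _ h =>
  iSup₂_le fun i hi => (hT i h.2).trans (le_iSup₂_of_le i (h.1 hi) le_rfl)

section Generic

variable {P : Type u} [Preorder P] {N : P → Submodule A J}

/-- The diagram of submodules. -/
noncomputable def diag (hN : Monotone N) : P ⥤ ModuleCat.{u} A where
  obj a := ModuleCat.of A ↥(N a)
  map h := ModuleCat.ofHom (Submodule.inclusion (hN (leOfHom h)))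
  map_id a := by
    apply ModuleCat.hom_ext
    apply LinearMap.ext
    intro x
    apply Subtype.ext
    simp
  map_comp f g := by
    apply ModuleCat.hom_ext
    apply LinearMap.ext
    intro x
    apply Subtype.ext
    simp

/-- The cocone of inclusions. -/
noncomputable def cocone (hN : Monotone N) : Cocone (diag hN) where
  pt := ModuleCat.of A J
  ι :=
    { app := fun a => ModuleCat.ofHom (N a).subtype
      naturality := fun a b h => by
        apply ModuleCat.hom_ext
        apply LinearMap.ext
        intro x
        rfl }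

theorem nonempty_isColimit [IsDirected P (· ≤ ·)] [Nonempty P] (hN : Monotone N)
    (hcover : ∀ x : J, ∃ a, x ∈ N a) :
    Nonempty (IsColimit (cocone hN)) := by
  apply Groth.Agent.Lib.Helper46.TorFiltered.nonempty_isColimit_of_elementwise
  · intro x
    obtain ⟨a, ha⟩ := hcover x
    exact ⟨a, ⟨x, ha⟩, rfl⟩
  · intro a x hx
    refine ⟨a, 𝟙 a, ?_⟩
    have hx0 : x = 0 := Subtype.ext hx
    rw [hx0, map_zero]

end Generic

end Union

end Groth.Agent.Lib.Helper2.ArtColim
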