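import Groth.Agent.Lib.Helper2.InjHull3
import Groth.Agent.S5170
import Mathlib.RingTheory.Length

/-!
# Matlis duality, part 1 (helper2)

* `exists_linearMap_apply_ne_zero` : `E(k)` is a cogenerator (over any local ring).
* `applyₗ_injective` : `M → Hom(Hom(M,E),E)` is injective.
* `surjective_of_injective_of_length_eq` : an injective map between modules of the same finite
  length is surjective.
* `applyₗ_bijective_of_isFiniteLength` : the double dual map is bijective for finite length modules
  over a Noetherian local ring.
-/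

set_option autoImplicit false

namespace Groth.Agent.Lib.Helper2

open Function IsLocalRing

universe u v

section Cogenerator

variable {R : Type u} [CommRing R] [IsLocalRing R] {E : Type u} [AddCommGroup E] [Module R E]

/-- `E(k)` is a cogenerator: every nonzero element of a module is detected by a map to `E`. -/
theorem exists_linearMap_apply_ne_zero (f : ResidueField R →ₗ[R] E)
    (hf : InjHull.IsInjectiveHull f) {M : Type u} [AddCommGroup M] [Module R M] (x : M)
    (hx : x ≠ 0) : ∃ g : M →ₗ[R] E, g x ≠ 0 := by
  set φ : R →ₗ[R] M := LinearMap.toSpanSingleton R M x with hφ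
  set ψ : R →ₗ[R] E := LinearMap.toSpanSingleton R E (f 1) with hψ
  have hf1 : f 1 ≠ 0 := by
    intro h
    exact one_ne_zero (hf.injective (by rw [h, map_zero]))
  have hker : LinearMap.ker φ ≤ LinearMap.ker ψ := by
    intro a ha
    rw [LinearMap.mem_ker, LinearMap.toSpanSingleton_apply] at ha ⊢
    have ham : a ∈ maximalIdeal R := by
      rw [mem_maximalIdeal, mem_nonunits_iff]
      intro hu
      apply hx
      obtain ⟨u, rfl⟩ := hu
      have := congrArg (fun y => (↑u⁻¹ : R) • y) ha
      simpa [smul_smul] using this
    rw [← map_smul]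
    have : a • (1 : ResidueField R) = 0 := by
      rw [Algebra.smul_def, mul_one]
      exact (residue_eq_zero_iff a).mpr ham
    rw [this, map_zero]
  let g₀ : LinearMap.range φ →ₗ[R] E :=
    (Submodule.liftQ (LinearMap.ker φ) ψ hker) ∘ₗ (LinearMap.quotKerEquivRange φ).symm.toLinearMap
  obtain ⟨g, hg⟩ := hf.isInjective.out (LinearMap.range φ).subtype
    (Submodule.subtype_injective _) g₀
  refine ⟨g, ?_⟩
  have hx' : x = (LinearMap.range φ).subtype ⟨φ 1, ⟨1, rfl⟩⟩ := by
    simp [φ]
  rw [hx', hg]
  have h1 : (LinearMap.quotKerEquivRange φ).symm ⟨φ 1, ⟨1, rfl⟩⟩ =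
      Submodule.Quotient.mk (1 : R) := by
    rw [LinearEquiv.symm_apply_eq]
    rfl
  change (Submodule.liftQ (LinearMap.ker φ) ψ hker)
    ((LinearMap.quotKerEquivRange φ).symm ⟨φ 1, ⟨1, rfl⟩⟩) ≠ 0
  rw [h1, Submodule.liftQ_apply, hψ, LinearMap.toSpanSingleton_apply, one_smul]
  exact hf1

/-- The double dual map into `Hom(Hom(M,E),E)` is injective. -/
theorem applyₗ_injective (f : ResidueField R →ₗ[R] E) (hf : InjHull.IsInjectiveHull f)
    (M : Type u) [AddCommGroup M] [Module R M] :
    Injective (LinearMap.applyₗ : M →ₗ[R] (M →ₗ[R] E) →ₗ[R] E) := by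
  rw [injective_iff_map_eq_zero]
  intro x hx
  by_contra hx0
  obtain ⟨g, hg⟩ := exists_linearMap_apply_ne_zero f hf x hx0
  apply hg
  have := LinearMap.congr_fun hx g
  simpa using this

end Cogenerator

section Length

variable {R : Type u} [CommRing R] {M N : Type v} [AddCommGroup M] [Module R M] [AddCommGroup N]
  [Module R N]

theorem surjective_of_injective_of_length_eq (g : M →ₗ[R] N) (hg : Injective g)
    (h : Module.length R N = Module.length R M) (hfin : Module.length R M ≠ ⊤) : Surjective g := by
  have hadd := Module.length_eq_add_of_exact g (LinearMap.range g).mkQ hg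
    (Submodule.mkQ_surjective _) (LinearMap.exact_map_mkQ_range g)
  rw [h] at hadd
  have h0 : Module.length R (N ⧸ LinearMap.range g) = 0 := by
    have h1 : Module.length R M + 0 = Module.length R M + Module.length R (N ⧸ LinearMap.range g) := by
      rw [add_zero]; exact hadd
    exact ((ENat.add_right_injective_of_ne_top hfin) h1).symm
  rw [Module.length_eq_zero_iff] at h0
  rw [← LinearMap.range_eq_top]
  exact Submodule.Quotient.subsingleton_iff.mp h0

end Length

section DoubleDual

variable {R : Type u} [CommRing R] [IsLocalRing R] [IsNoetherianRing R]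
  {E : Type u} [AddCommGroup E] [Module R E]

theorem applyₗ_bijective_of_isFiniteLength (f : ResidueField R →ₗ[R] E)
    (hf : InjHull.IsInjectiveHull f) (M : Type u) [AddCommGroup M] [Module R M]
    (hM : IsFiniteLength R M) :
    Bijective (LinearMap.applyₗ : M →ₗ[R] (M →ₗ[R] E) →ₗ[R] E) := by
  have h1 : Module.length R (M →ₗ[R] E) = Module.length R M :=
    Groth.Agent.S5170.result R E f hf M hM
  have hfin : Module.length R M ≠ ⊤ := Module.length_ne_top_iff.mpr hM
  have hM' : IsFiniteLength R (M →ₗ[R] E) := Module.length_ne_top_iff.mp (by rw [h1]; exact hfin)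
  have h2 : Module.length R ((M →ₗ[R] E) →ₗ[R] E) = Module.length R (M →ₗ[R] E) :=
    Groth.Agent.S5170.result R E f hf (M →ₗ[R] E) hM'
  refine ⟨applyₗ_injective f hf M, ?_⟩
  exact surjective_of_injective_of_length_eq _ (applyₗ_injective f hf M) (by rw [h2, h1]) hfin

end DoubleDual

end Groth.Agent.Lib.Helper2
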