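import Groth.Agent.Lib.Helper2.LDTop
import Groth.Agent.Lib.Helper2.Matlis1
import Groth.Agent.Lib.Helper58.NV7
import Mathlib.RingTheory.Ideal.AssociatedPrime.Basic

/-!
# Associated primes of a canonical module of a (general) Noetherian local ring

`K` is a finite module with `Hom(K,E) ≅ H^n_m(R)`, `n = dim R`.  Then
`Hom(M,K) ≠ 0 ↔ H^n_m(M) ≠ 0` for finite `M`, `Hom(R/I,K) ≠ 0 ↔ dim R/I = n`, and
`Ass K = {p | dim R/p = n}`.
-/

set_option autoImplicit false
universe u

open Function CategoryTheory IsLocalRing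

namespace Groth.Agent.Lib.Helper2.CanonAss

open Groth.Agent.Lib.Helper2

section Dim

theorem ringKrullDim_quotient_eq_coheight (A : Type u) [CommRing A] (p : Ideal A)
    [hp : p.IsPrime] :
    ringKrullDim (A ⧸ p) = Order.coheight (⟨p, hp⟩ : PrimeSpectrum A) := by
  rw [ringKrullDim_quotient, Order.coheight_eq_krullDim_Ici]
  have : PrimeSpectrum.zeroLocus (p : Set A) = Set.Ici (⟨p, hp⟩ : PrimeSpectrum A) := by
    ext x
    simp only [PrimeSpectrum.mem_zeroLocus, SetLike.coe_subset_coe, Set.mem_Ici]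
    exact Iff.rfl
  rw [this]

theorem dim_quotient_add_one_le {A : Type u} [CommRing A] (p q : Ideal A) [hp : p.IsPrime]
    [hq : q.IsPrime] (h : p < q) : ringKrullDim (A ⧸ q) + 1 ≤ ringKrullDim (A ⧸ p) := by
  rw [ringKrullDim_quotient_eq_coheight A p, ringKrullDim_quotient_eq_coheight A q]
  have hlt : (⟨p, hp⟩ : PrimeSpectrum A) < ⟨q, hq⟩ := h
  have := Order.coheight_add_one_le hlt
  exact_mod_cast this

end Dim

variable {R : Type u} [CommRing R] [IsNoetherianRing R] [IsLocalRing R] (n : ℕ)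
  (hn : ringKrullDim R = n)
  {E : Type u} [AddCommGroup E] [Module R E] (f : ResidueField R →ₗ[R] E)
  (hf : InjHull.IsInjectiveHull f)
  {K : Type u} [AddCommGroup K] [Module R K]
  (eK : (K →ₗ[R] E) ≃ₗ[R] LocCoh.H (maximalIdeal R) n R)

include hn hf eK in
/-- `Hom(M,K) ≠ 0 ↔ H^n_m(M) ≠ 0`. -/
theorem nontrivial_hom_iff (M : Type u) [AddCommGroup M] [Module R M] [Module.Finite R M] :
    Nontrivial (M →ₗ[R] K) ↔ Nontrivial (LocCoh.H (maximalIdeal R) n M) := by
  have e := LD.topEquiv (maximalIdeal R) n hn.le hf.isInjective eK M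
  rw [e.toEquiv.nontrivial_congr]
  constructor
  · intro h
    obtain ⟨g, hg⟩ := exists_ne (0 : M →ₗ[R] K)
    obtain ⟨φ, hφ⟩ := exists_linearMap_apply_ne_zero f hf g hg
    exact ⟨⟨φ, 0, fun h0 => hφ (by rw [h0]; rfl)⟩⟩
  · intro h
    by_contra hcon
    rw [not_nontrivial_iff_subsingleton] at hcon
    obtain ⟨φ, hφ⟩ := exists_ne (0 : (M →ₗ[R] K) →ₗ[R] E)
    apply hφ
    ext g
    rw [Subsingleton.elim g 0, map_zero, LinearMap.zero_apply]

include hn in
/-- `H^n_m(R/I) ≠ 0 ↔ dim R/I = n`. -/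
theorem nontrivial_H_quotient_iff (I : Ideal R) :
    Nontrivial (LocCoh.H (maximalIdeal R) n (R ⧸ I)) ↔ ringKrullDim (R ⧸ I) = n := by
  constructor
  · intro h
    by_contra hne
    have hle : ringKrullDim (R ⧸ I) ≤ n := hn ▸ ringKrullDim_quotient_le I
    have hlt : ringKrullDim (R ⧸ I) < n := lt_of_le_of_ne hle hne
    have := Groth.Agent.Lib.Helper58.NV.subsingleton_quotient_of_dim_lt (maximalIdeal R) I n hlt
    exact not_subsingleton _ this
  · intro h
    exact Groth.Agent.Lib.Helper58.NV.nontrivial_quotient_of_nvHyp n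
      (Groth.Agent.Lib.Helper58.NV.nvHyp n) I h

include hn hf eK in
/-- `Hom(R/I,K) ≠ 0 ↔ dim R/I = n`. -/
theorem nontrivial_hom_quotient_iff (I : Ideal R) :
    Nontrivial ((R ⧸ I) →ₗ[R] K) ↔ ringKrullDim (R ⧸ I) = n :=
  (nontrivial_hom_iff n hn f hf eK (R ⧸ I)).trans (nontrivial_H_quotient_iff n hn I)

include hn hf eK in
/-- **Associated primes of the canonical module.** -/
theorem associatedPrimes_eq :
    associatedPrimes R K = {p : Ideal R | p.IsPrime ∧ ringKrullDim (R ⧸ p) = n} := by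
  have hfwd : ∀ q : Ideal R, IsAssociatedPrime q K → ringKrullDim (R ⧸ q) = n := by
    intro q hq
    obtain ⟨hqp, g, hg⟩ := (isAssociatedPrime_iff_exists_injective_linearMap q K).mp hq
    rw [← nontrivial_hom_quotient_iff n hn f hf eK q]
    refine ⟨⟨g, 0, fun h0 => ?_⟩⟩
    have h1 : g 1 = 0 := by rw [h0]; rfl
    have h2 : (1 : R ⧸ q) = 0 := hg (by rw [h1, map_zero])
    haveI : Nontrivial (R ⧸ q) := Ideal.Quotient.nontrivial_iff.mpr hqp.ne_top
    exact one_ne_zero h2
  ext p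
  constructor
  · intro hp
    exact ⟨hp.isPrime, hfwd p hp⟩
  · rintro ⟨hpp, hpd⟩
    haveI : Nontrivial ((R ⧸ p) →ₗ[R] K) :=
      (nontrivial_hom_quotient_iff n hn f hf eK p).mpr hpd
    obtain ⟨g, hg⟩ := exists_ne (0 : (R ⧸ p) →ₗ[R] K)
    have hx : g 1 ≠ 0 := by
      intro h1
      apply hg
      ext
      simpa using h1
    obtain ⟨P, hP, hle⟩ := exists_le_isAssociatedPrime_of_isNoetherianRing R (g 1) hx
    have hpP : p ≤ P := by
      intro r hr
      apply hle
      rw [Submodule.mem_colon_singleton, Submodule.mem_bot, ← map_smul]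
      have : r • (1 : R ⧸ p) = 0 := by
        rw [Algebra.smul_def, mul_one]
        exact Ideal.Quotient.eq_zero_iff_mem.mpr hr
      rw [this, map_zero]
    have hPd := hfwd P hP
    haveI := hP.isPrime
    rcases eq_or_lt_of_le hpP with h | h
    · rw [h]; exact hP
    · exfalso
      have h1 := dim_quotient_add_one_le p P h
      rw [hPd, hpd] at h1
      have h2 : ((n + 1 : ℕ) : WithBot ℕ∞) ≤ (n : ℕ) := by exact_mod_cast h1
      have h3 : n + 1 ≤ n := by exact_mod_cast h2
      omega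

end Groth.Agent.Lib.Helper2.CanonAss
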