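import Groth.Agent.Lib.Helper2.LDCM
import Groth.Agent.Lib.Helper2.HullCrit
import Groth.Agent.Lib.Helper2.GorHull
import Groth.Agent.Lib.Helper29.GorCM2
import Groth.Agent.Lib.Helper58.LCBase
import Mathlib.Algebra.Category.ModuleCat.Ext.Finite

/-!
# Existence of a canonical module for a homomorphic image of a Gorenstein local ring
-/

set_option autoImplicit false
universe u v

open Function CategoryTheory IsLocalRing

namespace Groth.Agent.Lib.Helper2.CanonExist

open Groth.Agent.Lib.Helper2

section ModuleOfKer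

variable {A B : Type u} [CommRing A] [CommRing B] (g : A →+* B) (hg : Surjective g)
  (X : Type v) [AddCommGroup X] [Module A X] (hX : ∀ a ∈ RingHom.ker g, ∀ x : X, a • x = 0)

/-- The `B`-module structure on an `A`-module killed by the kernel of a surjection `A → B`. -/
@[instance_reducible]
noncomputable def moduleOfKer : Module B X :=
  letI : Module (A ⧸ RingHom.ker g) X :=
    Module.IsTorsionBySet.module (fun x a => hX a.1 a.2 x)
  Module.compHom X ((RingHom.quotientKerEquivOfSurjective hg).symm : B →+* A ⧸ RingHom.ker g)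

theorem moduleOfKer_smul (a : A) (x : X) :
    letI := moduleOfKer g hg X hX
    (g a) • x = a • x := by
  letI : Module (A ⧸ RingHom.ker g) X :=
    Module.IsTorsionBySet.module (fun x a => hX a.1 a.2 x)
  change ((RingHom.quotientKerEquivOfSurjective hg).symm (g a)) • x = a • x
  rw [RingHom.quotientKerEquivOfSurjective_symm_apply]
  rfl

end ModuleOfKer

section Hull

variable {A B : Type u} [CommRing A] [CommRing B] [IsLocalRing A] [IsLocalRing B] [Algebra A B]
  (hs : Surjective (algebraMap A B))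
  {E : Type u} [AddCommGroup E] [Module B E] [Module A E] [IsScalarTower A B E]
  (f : ResidueField B →ₗ[B] E) (hf : InjHull.IsInjectiveHull f)
  {E' : Type u} [AddCommGroup E'] [Module A E'] (f' : ResidueField A →ₗ[A] E')
  (hf' : InjHull.IsInjectiveHull f')

include hs in
theorem map_maximalIdeal : (maximalIdeal A).map (algebraMap A B) = maximalIdeal B := by
  haveI : IsLocalHom (algebraMap A B) := IsLocalHom.of_surjective _ hs
  apply le_antisymm
  · rw [Ideal.map_le_iff_le_comap]
    intro a ha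
    rw [Ideal.mem_comap, mem_maximalIdeal, mem_nonunits_iff]
    rw [mem_maximalIdeal, mem_nonunits_iff] at ha
    exact fun h => ha ((isUnit_map_iff (algebraMap A B) a).mp h)
  · intro y hy
    obtain ⟨a, rfl⟩ := hs y
    refine Ideal.mem_map_of_mem _ ?_
    rw [mem_maximalIdeal, mem_nonunits_iff] at hy ⊢
    exact fun h => hy (h.map (algebraMap A B))

include hs hf hf' in
/-- The hull over `B` embeds `A`-linearly in the hull over `A`, onto the `ker`-torsion. -/
theorem exists_hull_embedding :
    ∃ ι : E →ₗ[A] E', Injective ι ∧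
      ∀ y : E', (∀ a : A, algebraMap A B a = 0 → a • y = 0) → y ∈ LinearMap.range ι := by
  haveI : IsLocalHom (algebraMap A B) := IsLocalHom.of_surjective _ hs
  have hkill : ∀ a ∈ maximalIdeal A, a • f 1 = 0 := by
    intro a ha
    rw [← algebraMap_smul B a (f 1), ← map_smul]
    have : algebraMap A B a • (1 : ResidueField B) = 0 := by
      rw [Algebra.smul_def, mul_one]
      refine (residue_eq_zero_iff _).mpr ?_
      rw [← map_maximalIdeal hs]
      exact Ideal.mem_map_of_mem _ ha
    rw [this, map_zero]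
  let f₁ : ResidueField A →ₗ[A] E := quotToOfKill (maximalIdeal A) (f 1) hkill
  have hf₁1 : f₁ 1 = f 1 := quotToOfKill_one _ _ _
  have hf1 : f 1 ≠ 0 := fun h => one_ne_zero (hf.injective (by rw [h, map_zero]))
  have hf₁inj : Injective f₁ :=
    injective_of_residueField_of_ne_zero f₁ (by rw [hf₁1]; exact hf1)
  have hrange : ∀ y : E, y ∈ LinearMap.range f → y ∈ LinearMap.range f₁ := by
    rintro _ ⟨z, rfl⟩
    obtain ⟨b, rfl⟩ := residue_surjective z
    obtain ⟨a, rfl⟩ := hs b
    refine ⟨a • (1 : ResidueField A), ?_⟩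
    rw [map_smul, hf₁1, ← algebraMap_smul B a (f 1), ← map_smul]
    congr 1
    rw [Algebra.smul_def, mul_one]
    rfl
  have hess : EssElt f₁ := by
    intro x hx
    obtain ⟨b, hb0, hb⟩ := hf.toIsEssentialInj.essElt x hx
    obtain ⟨a, rfl⟩ := hs b
    refine ⟨a, ?_, ?_⟩
    · rwa [← algebraMap_smul B a x]
    · rw [← algebraMap_smul B a x]; exact hrange _ hb
  obtain ⟨ι, hι⟩ := hf'.isInjective.out f₁ hf₁inj f'
  have hιf : ι ∘ₗ f₁ = f' := LinearMap.ext hι
  have hιinj : Injective ι :=
    injective_of_essElt_comp hess ι (by rw [hιf]; exact hf'.injective)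
  refine ⟨ι, hιinj, ?_⟩
  -- the torsion submodule with its `B`-structure
  let T : Submodule A E' :=
    { carrier := {y | ∀ a : A, algebraMap A B a = 0 → a • y = 0}
      add_mem' := fun {x y} hx hy a ha => by rw [smul_add, hx a ha, hy a ha, add_zero]
      zero_mem' := fun a _ => smul_zero a
      smul_mem' := fun c x hx a ha => by rw [smul_comm, hx a ha, smul_zero] }
  have hT : ∀ a ∈ RingHom.ker (algebraMap A B), ∀ t : T, a • t = 0 := by
    intro a ha t
    apply Subtype.ext
    exact t.2 a ((RingHom.mem_ker).mp ha)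
  letI : Module B T := moduleOfKer (algebraMap A B) hs T hT
  haveI : IsScalarTower A B T :=
    IsScalarTower.of_algebraMap_smul fun a t => moduleOfKer_smul (algebraMap A B) hs T hT a t
  let ι' : E →ₗ[A] T := ι.codRestrict T (fun e a ha => by
    rw [← map_smul, ← algebraMap_smul B a e, ha, zero_smul, map_zero])
  let ιB : E →ₗ[B] T := ι'.extendScalarsOfSurjective hs
  have hιBinj : Injective ιB := by
    intro x y hxy
    apply hιinj
    exact congrArg Subtype.val hxy
  obtain ⟨ρ, hρ⟩ := hf.isInjective.out ιB hιBinj LinearMap.id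
  intro y hy
  let t : T := ⟨y, hy⟩
  by_contra hcon
  have hc : t - ιB (ρ t) ≠ 0 := by
    intro h0
    apply hcon
    refine ⟨ρ t, ?_⟩
    have := congrArg Subtype.val (sub_eq_zero.mp h0)
    exact this.symm
  have hρc : ρ (t - ιB (ρ t)) = 0 := by
    rw [map_sub, hρ, LinearMap.id_apply, sub_self]
  have hc' : ((t - ιB (ρ t) : T) : E') ≠ 0 := fun h => hc (Subtype.ext h)
  obtain ⟨a, ha0, z, hz⟩ := hf'.toIsEssentialInj.essElt _ hc'
  have h1 : a • (t - ιB (ρ t)) = ιB (f₁ z) := by
    apply Subtype.ext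
    change a • ((t - ιB (ρ t) : T) : E') = ι (f₁ z)
    rw [hι, hz]
  have h2 : ρ (a • (t - ιB (ρ t))) = 0 := by
    rw [← algebraMap_smul B a (t - ιB (ρ t)), map_smul, hρc, smul_zero]
  rw [h1, hρ, LinearMap.id_apply] at h2
  apply ha0
  rw [← hz, ← hι, h2, map_zero]

end Hull

section HomCompare

variable {A B : Type u} [CommRing A] [CommRing B] [Algebra A B]
  (hs : Surjective (algebraMap A B))
  {E : Type u} [AddCommGroup E] [Module B E] [Module A E] [IsScalarTower A B E]
  {E' : Type u} [AddCommGroup E'] [Module A E'] (ι : E →ₗ[A] E') (hιinj : Injective ι)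
  (hιrange : ∀ y : E', (∀ a : A, algebraMap A B a = 0 → a • y = 0) → y ∈ LinearMap.range ι)
  (D : Type u) [AddCommGroup D] [Module A D] [Module B D] [IsScalarTower A B D]

include hs hιinj hιrange in
theorem exists_hom_addEquiv :
    ∃ Φ : (D →ₗ[B] E) ≃+ (D →ₗ[A] E'),
      ∀ (a : A) (φ : D →ₗ[B] E), Φ (algebraMap A B a • φ) = a • Φ φ := by
  let Ξ : (D →ₗ[B] E) →+ (D →ₗ[A] E') :=
    { toFun := fun φ => ι ∘ₗ (φ.restrictScalars A)
      map_zero' := by ext d; simp
      map_add' := fun φ φ' => by ext d; simp }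
  have hΞinj : Injective Ξ := by
    intro φ φ' h
    ext d
    apply hιinj
    exact LinearMap.congr_fun h d
  have hΞsurj : Surjective Ξ := by
    intro χ
    have hmem : ∀ d, χ d ∈ LinearMap.range ι := by
      intro d
      apply hιrange
      intro a ha
      rw [← map_smul, ← algebraMap_smul B a d, ha, zero_smul, map_zero]
    let φA : D →ₗ[A] E :=
      (LinearEquiv.ofInjective ι hιinj).symm.toLinearMap ∘ₗ χ.codRestrict (LinearMap.range ι) hmem
    refine ⟨φA.extendScalarsOfSurjective hs, ?_⟩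
    ext d
    change ι ((LinearEquiv.ofInjective ι hιinj).symm ⟨χ d, hmem d⟩) = χ d
    exact Groth.Agent.Lib.Helper58.LCBase.ofInjective_symm_val ι hιinj ⟨χ d, hmem d⟩
  refine ⟨AddEquiv.ofBijective Ξ ⟨hΞinj, hΞsurj⟩, fun a φ => ?_⟩
  ext d
  change ι ((algebraMap A B a • φ) d) = a • ι (φ d)
  rw [LinearMap.smul_apply, algebraMap_smul, map_smul]

end HomCompare

section Main

open Groth.Agent.Lib.Helper29

/-- **Existence of a canonical module** for a quotient of a Gorenstein local ring. -/
theorem exists_canon (A B : Type u) [CommRing A] [LocCoh.IsGorensteinLocalRing A] [CommRing B]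
    [IsNoetherianRing B] [IsLocalRing B] [Algebra A B] (hs : Surjective (algebraMap A B))
    (n : ℕ) (hn : ringKrullDim B = n) (E : Type u) [AddCommGroup E] [Module B E]
    (f : ResidueField B →ₗ[B] E) (hf : InjHull.IsInjectiveHull f) :
    ∃ K : ModuleCat.{u} B, Module.Finite B K ∧
      Nonempty ((K →ₗ[B] E) ≃ₗ[B] LocCoh.H (maximalIdeal B) n B) := by
  obtain ⟨n₀, h⟩ := LocCoh.IsGorensteinLocalRing.exists_hasInjectiveDimensionLT (A := A)
  obtain ⟨n', -, -, hdim', hdepth'⟩ := GorCM.exists_top_ext n₀ h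
  have hnn' : n ≤ n' := by
    have := ringKrullDim_le_of_surjective (algebraMap A B) hs
    rw [hn, hdim'] at this
    exact_mod_cast this
  obtain ⟨g₀, hg₀⟩ := exists_isInjectiveHull_of_gorenstein n' A hdim'
  let eK' : (A →ₗ[A] LocCoh.H (maximalIdeal A) n' A) ≃ₗ[A] LocCoh.H (maximalIdeal A) n' A :=
    LinearMap.ringLmapEquivSelf A A _
  letI : Module A E := Module.compHom E (algebraMap A B)
  haveI : IsScalarTower A B E := IsScalarTower.of_algebraMap_smul fun r x => rfl
  haveI : Module.Finite A B := Module.Finite.of_surjective (Algebra.linearMap A B) hs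
  have hdepthle : (n' : ℕ∞) ≤ LocCoh.depth A A := le_of_eq hdepth'.symm
  obtain ⟨ε⟩ := LD.duality_ext (maximalIdeal A) n' hdim'.le
    (LD.subsingleton_localCohomology_of_lt_depth n' hdepthle) hg₀.isInjective eK' (n' - n)
    (Nat.sub_le _ _) B
  rw [Nat.sub_sub_self hnn'] at ε
  have hkillD : ∀ a ∈ RingHom.ker (algebraMap A B),
      ∀ d : Abelian.Ext.{u} (ModuleCat.of A B) (ModuleCat.of A A) (n' - n), a • d = 0 :=
    fun a ha d => GorCM.smul_ext_eq_zero_of_mem_annihilator B A (by
      rw [Module.mem_annihilator]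
      intro b
      rw [Algebra.smul_def, (RingHom.mem_ker).mp ha, zero_mul]) _ d
  letI : Module B (Abelian.Ext.{u} (ModuleCat.of A B) (ModuleCat.of A A) (n' - n)) :=
    moduleOfKer (algebraMap A B) hs _ hkillD
  haveI : IsScalarTower A B (Abelian.Ext.{u} (ModuleCat.of A B) (ModuleCat.of A A) (n' - n)) :=
    IsScalarTower.of_algebraMap_smul fun a d =>
      moduleOfKer_smul (algebraMap A B) hs _ hkillD a d
  haveI : Module.Finite A (Abelian.Ext.{u} (ModuleCat.of A B) (ModuleCat.of A A) (n' - n)) :=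
    ModuleCat.finite_ext A (ModuleCat.of A B) (ModuleCat.of A A) (n' - n)
  haveI : Module.Finite B (Abelian.Ext.{u} (ModuleCat.of A B) (ModuleCat.of A A) (n' - n)) :=
    Module.Finite.of_restrictScalars_finite A B _
  refine ⟨ModuleCat.of B (Abelian.Ext.{u} (ModuleCat.of A B) (ModuleCat.of A A) (n' - n)),
    ‹_›, ?_⟩
  obtain ⟨ι, hιinj, hιrange⟩ := exists_hull_embedding hs f hf g₀ hg₀
  obtain ⟨Φ, hΦ⟩ := exists_hom_addEquiv hs ι hιinj hιrange
    (Abelian.Ext.{u} (ModuleCat.of A B) (ModuleCat.of A A) (n' - n))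
  have hex := Groth.Agent.Lib.Helper58.LCBase.exists_addEquiv (R := A) (R' := B)
    (maximalIdeal A) n B
  rw [map_maximalIdeal hs] at hex
  obtain ⟨ψ, hψ⟩ := hex
  have hψ' : ∀ (a : A) y, ψ.symm (a • y) = algebraMap A B a • ψ.symm y := by
    intro a y
    rw [AddEquiv.symm_apply_eq, hψ, AddEquiv.apply_symm_apply]
  refine ⟨{ Φ.trans (ε.symm.toAddEquiv.trans ψ.symm) with map_smul' := ?_ }⟩
  intro b φ
  obtain ⟨a, rfl⟩ := hs b
  change ψ.symm (ε.symm (Φ (algebraMap A B a • φ))) = algebraMap A B a • ψ.symm (ε.symm (Φ φ))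
  rw [hΦ, map_smul, hψ']

end Main

end Groth.Agent.Lib.Helper2.CanonExist
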