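import Groth.Agent.Lib.Helper2.CanonExist

/-!
# `Ext^c_S(R,S)` is a canonical module of `R`, for `S` Gorenstein local and `S → R` surjective
-/

set_option autoImplicit false
universe u

open Function CategoryTheory IsLocalRing

namespace Groth.Agent.Lib.Helper2.CanonExist

open Groth.Agent.Lib.Helper2 Groth.Agent.Lib.Helper29

/-- Any `R`-module `D` which is `S`-linearly isomorphic to `Ext^c_S(R,S)`, `c = dim S - dim R`,
is a canonical module of `R`. -/
theorem nonempty_dual_equiv_of_ext (S R : Type u) [CommRing S] [LocCoh.IsGorensteinLocalRing S]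
    [CommRing R] [IsNoetherianRing R] [IsLocalRing R] [Algebra S R]
    (hs : Surjective (algebraMap S R))
    (n : ℕ) (hn : ringKrullDim R = n) (E : Type u) [AddCommGroup E] [Module R E]
    (f : ResidueField R →ₗ[R] E) (hf : InjHull.IsInjectiveHull f)
    (n' c : ℕ) (hn' : ringKrullDim S = n') (hc : n + c = n')
    (D : Type u) [AddCommGroup D] [Module S D] [Module R D] [IsScalarTower S R D]
    (eD : D ≃ₗ[S] Abelian.Ext.{u} (ModuleCat.of S R) (ModuleCat.of S S) c) :
    Nonempty ((D →ₗ[R] E) ≃ₗ[R] LocCoh.H (maximalIdeal R) n R) := by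
  obtain ⟨n₀, h⟩ := LocCoh.IsGorensteinLocalRing.exists_hasInjectiveDimensionLT (A := S)
  obtain ⟨r, -, -, hdim', hdepth'⟩ := GorCM.exists_top_ext n₀ h
  have hr : r = n' := by
    have : ((r : ℕ) : WithBot ℕ∞) = (n' : ℕ) := by rw [← hdim', hn']
    exact_mod_cast this
  subst hr
  obtain ⟨g₀, hg₀⟩ := exists_isInjectiveHull_of_gorenstein r S hdim'
  let eK' : (S →ₗ[S] LocCoh.H (maximalIdeal S) r S) ≃ₗ[S] LocCoh.H (maximalIdeal S) r S :=
    LinearMap.ringLmapEquivSelf S S _
  letI : Module S E := Module.compHom E (algebraMap S R)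
  haveI : IsScalarTower S R E := IsScalarTower.of_algebraMap_smul fun r x => rfl
  haveI : Module.Finite S R := Module.Finite.of_surjective (Algebra.linearMap S R) hs
  have hdepthle : (r : ℕ∞) ≤ LocCoh.depth S S := le_of_eq hdepth'.symm
  obtain ⟨ε⟩ := LD.duality_ext (maximalIdeal S) r hdim'.le
    (LD.subsingleton_localCohomology_of_lt_depth r hdepthle) hg₀.isInjective eK' c
    (by omega) R
  have hrc : r - c = n := by omega
  rw [hrc] at ε
  obtain ⟨ι, hιinj, hιrange⟩ := exists_hull_embedding hs f hf g₀ hg₀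
  obtain ⟨Φ, hΦ⟩ := exists_hom_addEquiv hs ι hιinj hιrange D
  have hex := Groth.Agent.Lib.Helper58.LCBase.exists_addEquiv (R := S) (R' := R)
    (maximalIdeal S) n R
  rw [map_maximalIdeal hs] at hex
  obtain ⟨ψ, hψ⟩ := hex
  have hψ' : ∀ (a : S) y, ψ.symm (a • y) = algebraMap S R a • ψ.symm y := by
    intro a y
    rw [AddEquiv.symm_apply_eq, hψ, AddEquiv.apply_symm_apply]
  let ε' : (localCohomology (maximalIdeal S) n).obj (ModuleCat.of S R) ≃ₗ[S]
      (D →ₗ[S] LocCoh.H (maximalIdeal S) r S) :=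
    ε.trans (LinearEquiv.congrLeft (LocCoh.H (maximalIdeal S) r S) S eD.symm)
  refine ⟨{ Φ.trans (ε'.symm.toAddEquiv.trans ψ.symm) with map_smul' := ?_ }⟩
  intro b φ
  obtain ⟨a, rfl⟩ := hs b
  change ψ.symm (ε'.symm (Φ (algebraMap S R a • φ))) = algebraMap S R a • ψ.symm (ε'.symm (Φ φ))
  rw [hΦ, map_smul, hψ']

end Groth.Agent.Lib.Helper2.CanonExist
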