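import Groth.Agent.Lib.Helper2.EW
import Mathlib.Algebra.Module.Injective

/-!
# The functor `M ↦ Hom(Hom(M, K), E)` for an injective module `E`: additive, linear, right exact
-/

set_option autoImplicit false
universe u

open Function CategoryTheory

namespace Groth.Agent.Lib.Helper2

variable {R : Type u} [CommRing R] (K E : Type u) [AddCommGroup K] [Module R K] [AddCommGroup E]
  [Module R E]

section Concrete

variable {M N P : Type u} [AddCommGroup M] [Module R M] [AddCommGroup N] [Module R N]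
  [AddCommGroup P] [Module R P]

/-- `Hom(Hom(M,K),E) → Hom(Hom(N,K),E)` induced by `g : M → N`. -/
noncomputable def ddMap (g : M →ₗ[R] N) :
    ((M →ₗ[R] K) →ₗ[R] E) →ₗ[R] ((N →ₗ[R] K) →ₗ[R] E) :=
  LinearMap.lcomp R E (LinearMap.lcomp R K g)

@[simp]
theorem ddMap_apply (g : M →ₗ[R] N) (ψ : (M →ₗ[R] K) →ₗ[R] E) (φ : N →ₗ[R] K) :
    ddMap K E g ψ φ = ψ (φ ∘ₗ g) := rfl

theorem ddMap_add (f g : M →ₗ[R] N) : ddMap K E (f + g) = ddMap K E f + ddMap K E g := by
  refine LinearMap.ext fun ψ => LinearMap.ext fun φ => ?_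
  show ψ (φ ∘ₗ (f + g)) = ψ (φ ∘ₗ f) + ψ (φ ∘ₗ g)
  rw [LinearMap.comp_add, map_add]

theorem ddMap_smul (r : R) (f : M →ₗ[R] N) : ddMap K E (r • f) = r • ddMap K E f := by
  refine LinearMap.ext fun ψ => LinearMap.ext fun φ => ?_
  show ψ (φ ∘ₗ (r • f)) = r • ψ (φ ∘ₗ f)
  rw [LinearMap.comp_smul, map_smul]

variable {K E}

/-- A map killing `range f` factors through a surjection `g` with `ker g = range f`. -/
theorem exists_factor_of_exact (f : M →ₗ[R] N) (g : N →ₗ[R] P) (hg : Surjective g)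
    (hfg : Function.Exact f g) (χ : N →ₗ[R] K) (hχ : χ ∘ₗ f = 0) :
    ∃ φ : P →ₗ[R] K, φ ∘ₗ g = χ := by
  have hle : LinearMap.ker g ≤ LinearMap.ker χ := by
    intro x hx
    obtain ⟨y, rfl⟩ := (hfg x).mp hx
    exact LinearMap.congr_fun hχ y
  refine ⟨(Submodule.liftQ _ χ hle) ∘ₗ (g.quotKerEquivOfSurjective hg).symm.toLinearMap, ?_⟩
  ext x
  simp only [LinearMap.comp_apply, LinearEquiv.coe_coe]
  have : (g.quotKerEquivOfSurjective hg).symm (g x) = Submodule.Quotient.mk x := by
    rw [LinearEquiv.symm_apply_eq]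
    rfl
  rw [this, Submodule.liftQ_apply]

theorem ddMap_surjective (hE : Module.Injective R E) (g : N →ₗ[R] P) (hg : Surjective g) :
    Surjective (ddMap K E g) := by
  intro ψ'
  have hinj : Injective (LinearMap.lcomp R K g) := by
    intro φ φ' h
    ext y
    obtain ⟨x, rfl⟩ := hg y
    exact LinearMap.congr_fun h x
  obtain ⟨ψ, hψ⟩ := hE.out (LinearMap.lcomp R K g) hinj ψ'
  exact ⟨ψ, LinearMap.ext hψ⟩

theorem ddMap_exact (hE : Module.Injective R E) (f : M →ₗ[R] N) (g : N →ₗ[R] P)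
    (hg : Surjective g) (hfg : Function.Exact f g) :
    Function.Exact (ddMap K E f) (ddMap K E g) := by
  intro ψ
  constructor
  · intro hψ
    -- `ψ` vanishes on `ker f^*`
    set fs : (N →ₗ[R] K) →ₗ[R] (M →ₗ[R] K) := LinearMap.lcomp R K f with hfs
    have hle : LinearMap.ker fs ≤ LinearMap.ker ψ := by
      intro χ hχ
      obtain ⟨φ, rfl⟩ := exists_factor_of_exact f g hg hfg χ hχ
      exact LinearMap.congr_fun hψ φ
    let ψbar : ((N →ₗ[R] K) ⧸ LinearMap.ker fs) →ₗ[R] E := Submodule.liftQ _ ψ hle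
    let ι : ((N →ₗ[R] K) ⧸ LinearMap.ker fs) →ₗ[R] (M →ₗ[R] K) :=
      Submodule.liftQ _ fs le_rfl
    have hι : Injective ι := by
      rw [← LinearMap.ker_eq_bot]
      exact Submodule.ker_liftQ_eq_bot _ _ _ le_rfl
    obtain ⟨ψ₁, hψ₁⟩ := hE.out ι hι ψbar
    refine ⟨ψ₁, ?_⟩
    refine LinearMap.ext fun χ => ?_
    have := hψ₁ (Submodule.Quotient.mk χ)
    exact this
  · rintro ⟨ψ₁, rfl⟩
    ext φ
    simp only [ddMap_apply, LinearMap.zero_apply]
    have : (φ ∘ₗ g) ∘ₗ f = 0 := by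
      rw [LinearMap.comp_assoc, hfg.linearMap_comp_eq_zero, LinearMap.comp_zero]
    rw [this, map_zero]

end Concrete

/-- The functor `M ↦ Hom(Hom(M,K),E)`. -/
noncomputable def ddFunctor : ModuleCat.{u} R ⥤ ModuleCat.{u} R where
  obj M := ModuleCat.of R ((M →ₗ[R] K) →ₗ[R] E)
  map g := ModuleCat.ofHom (ddMap K E g.hom)
  map_id M := by
    apply ModuleCat.hom_ext
    ext ψ φ
    rfl
  map_comp f g := by
    apply ModuleCat.hom_ext
    ext ψ φ
    rfl

instance ddFunctor_additive : (ddFunctor (R := R) K E).Additive where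
  map_add := by
    intro M N f g
    apply ModuleCat.hom_ext
    exact ddMap_add K E f.hom g.hom

instance ddFunctor_linear : (ddFunctor (R := R) K E).Linear R where
  map_smul := by
    intro M N f r
    apply ModuleCat.hom_ext
    exact ddMap_smul K E r f.hom

theorem ddFunctor_rightExact (hE : Module.Injective R E) :
    EW.RightExact (ddFunctor (R := R) K E) := by
  intro S hS
  have hg : Surjective S.g.hom := (ModuleCat.epi_iff_surjective _).mp hS.epi_g
  have hfg : Function.Exact S.f.hom S.g.hom :=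
    (ShortComplex.ShortExact.moduleCat_exact_iff_function_exact S).mp hS.exact
  exact ⟨ddMap_surjective hE S.g.hom hg, ddMap_exact hE S.f.hom S.g.hom hg hfg⟩

end Groth.Agent.Lib.Helper2
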