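import Groth.Agent.Lib.Helper2.LCFunctor
import Groth.Agent.Lib.Helper2.DDFunctor

/-!
# Top local cohomology via a canonical module: `H^n_m(M) ≅ Hom(Hom(M,K),E)`, naturally in `M`
-/

set_option autoImplicit false
universe u

open Function CategoryTheory

namespace Groth.Agent.Lib.Helper2.LD

open Groth.Agent.Lib.Helper2

variable {R : Type u} [CommRing R] [IsNoetherianRing R] (I : Ideal R) (n : ℕ)
  (hn : ringKrullDim R ≤ n)
  {E : Type u} [AddCommGroup E] [Module R E] (hE : Module.Injective R E)
  {K : Type u} [AddCommGroup K] [Module R K]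
  (eK : (K →ₗ[R] E) ≃ₗ[R] (localCohomology I n).obj (ModuleCat.of R R))

/-- The identification on `R`. -/
noncomputable def cEquiv :
    (localCohomology I n).obj (ModuleCat.of R R) ≃ₗ[R] (ddFunctor K E).obj (ModuleCat.of R R) :=
  eK.symm.trans (LinearEquiv.congrLeft E R (LinearMap.ringLmapEquivSelf R R K).symm)

/-- The natural isomorphism `H^n_I(M) ≅ Hom(Hom(M,K),E)` on finite modules, when `dim R ≤ n`. -/
noncomputable def topEquiv (M : Type u) [AddCommGroup M] [Module R M] [Module.Finite R M] :
    (localCohomology I n).obj (ModuleCat.of R M) ≃ₗ[R] ((M →ₗ[R] K) →ₗ[R] E) :=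
  EW.compareEquiv (localCohomology_rightExact_of_dim I n hn) (ddFunctor_rightExact K E hE)
    (cEquiv I n eK) M

include hn hE in
theorem topEquiv_naturality {M N : Type u} [AddCommGroup M] [Module R M] [Module.Finite R M]
    [AddCommGroup N] [Module R N] [Module.Finite R N] (g : M →ₗ[R] N)
    (x : (localCohomology I n).obj (ModuleCat.of R M)) :
    topEquiv I n hn hE eK N (((localCohomology I n).map (ModuleCat.ofHom g)).hom x) =
      ddMap K E g (topEquiv I n hn hE eK M x) :=
  EW.compareEquiv_naturality (localCohomology_rightExact_of_dim I n hn)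
    (ddFunctor_rightExact K E hE) (cEquiv I n eK) g x

end Groth.Agent.Lib.Helper2.LD
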