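import Groth.Agent.Lib.Helper2.CanonGor
import Groth.Agent.Lib.Helper2.LDTop
import Mathlib.RingTheory.Noetherian.Orzech
import Mathlib.RingTheory.Nakayama

/-!
# Uniqueness of canonical modules over a Noetherian local ring
-/

set_option autoImplicit false
universe u

open Function IsLocalRing

namespace Groth.Agent.Lib.Helper2.CanonUniq

open Groth.Agent.Lib.Helper2

section General

variable {R : Type u} [CommRing R]

/-- Precomposition preserves `I • ⊤`. -/
theorem comp_mem_smul_top {A B C : Type u} [AddCommGroup A] [Module R A] [AddCommGroup B]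
    [Module R B] [AddCommGroup C] [Module R C] (I : Ideal R) (δ : B →ₗ[R] C)
    (hδ : δ ∈ I • (⊤ : Submodule R (B →ₗ[R] C))) (L : A →ₗ[R] B) :
    δ ∘ₗ L ∈ I • (⊤ : Submodule R (A →ₗ[R] C)) := by
  refine Submodule.smul_induction_on hδ ?_ ?_
  · intro a ha ε _
    rw [LinearMap.smul_comp]
    exact Submodule.smul_mem_smul ha Submodule.mem_top
  · intro x y hx hy
    rw [LinearMap.add_comp]
    exact Submodule.add_mem _ hx hy

/-- Postcomposition preserves `I • ⊤`. -/
theorem comp_mem_smul_top' {A B C : Type u} [AddCommGroup A] [Module R A] [AddCommGroup B]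
    [Module R B] [AddCommGroup C] [Module R C] (I : Ideal R) (δ : B →ₗ[R] C)
    (hδ : δ ∈ I • (⊤ : Submodule R (B →ₗ[R] C))) (L : A →ₗ[R] B) :
    δ ∘ₗ L ∈ I • (⊤ : Submodule R (A →ₗ[R] C)) := comp_mem_smul_top I δ hδ L

theorem postcomp_mem_smul_top {A B C : Type u} [AddCommGroup A] [Module R A] [AddCommGroup B]
    [Module R B] [AddCommGroup C] [Module R C] (I : Ideal R) (δ : B →ₗ[R] C)
    (hδ : δ ∈ I • (⊤ : Submodule R (B →ₗ[R] C))) (L : A →ₗ[R] B) :
    δ ∘ₗ L ∈ I • (⊤ : Submodule R (A →ₗ[R] C)) := comp_mem_smul_top I δ hδ L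

/-- Elements of `I • Hom(B, C)` map into `I • C`. -/
theorem apply_mem_smul_top {B C : Type u} [AddCommGroup B] [Module R B] [AddCommGroup C]
    [Module R C] (I : Ideal R) (δ : B →ₗ[R] C) (hδ : δ ∈ I • (⊤ : Submodule R (B →ₗ[R] C)))
    (x : B) : δ x ∈ I • (⊤ : Submodule R C) := by
  refine Submodule.smul_induction_on hδ ?_ ?_
  · intro a ha ε _
    rw [LinearMap.smul_apply]
    exact Submodule.smul_mem_smul ha Submodule.mem_top
  · intro y z hy hz
    rw [LinearMap.add_apply]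
    exact Submodule.add_mem _ hy hz

/-- Elements of `I • Hom(B, C)` kill the `I`-torsion when followed... : `δ ω = 0` if `I ω = 0`. -/
theorem apply_eq_zero_of_torsion {B C : Type u} [AddCommGroup B] [Module R B] [AddCommGroup C]
    [Module R C] (I : Ideal R) (δ : B →ₗ[R] C) (hδ : δ ∈ I • (⊤ : Submodule R (B →ₗ[R] C)))
    (x : B) (hx : ∀ a ∈ I, a • x = 0) : δ x = 0 := by
  refine Submodule.smul_induction_on hδ ?_ ?_
  · intro a ha ε _
    rw [LinearMap.smul_apply, ← map_smul, hx a ha, map_zero]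
  · intro y z hy hz
    rw [LinearMap.add_apply, hy, hz, add_zero]

end General

section Local

variable {R : Type u} [CommRing R] [IsLocalRing R] {E : Type u} [AddCommGroup E] [Module R E]
  (f : ResidueField R →ₗ[R] E) (hf : InjHull.IsInjectiveHull f)

include hf in
/-- **Approximation**: every element of the double dual of a finite module is an evaluation modulo
`m`. -/
theorem exists_sub_applyₗ_mem [IsNoetherianRing R] (X : Type u) [AddCommGroup X] [Module R X]
    [Module.Finite R X] (γ : (X →ₗ[R] E) →ₗ[R] E) :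
    ∃ x : X, γ - LinearMap.applyₗ x ∈
      maximalIdeal R • (⊤ : Submodule R ((X →ₗ[R] E) →ₗ[R] E)) := by
  obtain ⟨s, y, hy⟩ := Module.Finite.exists_fin (R := R) (M := X)
  let ev : (X →ₗ[R] E) →ₗ[R] (Fin s → E) := LinearMap.pi (fun j => LinearMap.applyₗ (y j))
  have hev : Injective ev := by
    rw [injective_iff_map_eq_zero]
    intro φ hφ
    apply LinearMap.ext_on_range hy
    intro i
    have := congrFun hφ i
    simpa [ev] using this
  obtain ⟨Γ, hΓ⟩ := hf.isInjective.out ev hev γ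
  choose c hc using fun j : Fin s =>
    CanonGor.exists_sub_smul_mem f hf (Γ ∘ₗ LinearMap.single R (fun _ => E) j)
  refine ⟨∑ j, c j • y j, ?_⟩
  have hsum : γ - LinearMap.applyₗ (∑ j, c j • y j) =
      ∑ j : Fin s, (Γ ∘ₗ LinearMap.single R (fun _ => E) j - c j • LinearMap.id) ∘ₗ
        (LinearMap.applyₗ (y j) : (X →ₗ[R] E) →ₗ[R] E) := by
    refine LinearMap.ext fun ω => ?_
    rw [LinearMap.sub_apply, LinearMap.sum_apply, ← hΓ ω]
    have h3 : Γ (ev ω) = ∑ j, (Γ ∘ₗ LinearMap.single R (fun _ => E) j) (ω (y j)) := by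
      conv_lhs => rw [← Finset.univ_sum_single (ev ω), map_sum]
      refine Finset.sum_congr rfl fun j _ => ?_
      rfl
    rw [h3, LinearMap.applyₗ_apply_apply, map_sum, ← Finset.sum_sub_distrib]
    refine Finset.sum_congr rfl fun j _ => ?_
    show Γ ((LinearMap.single R (fun _ => E) j) (ω (y j))) - ω (c j • y j) =
      Γ ((LinearMap.single R (fun _ => E) j) (ω (y j))) - c j • ω (y j)
    rw [map_smul]
  rw [hsum]
  exact Submodule.sum_mem _ fun j _ => comp_mem_smul_top _ _ (hc j) _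

include hf in
/-- **Detection**: if the evaluation at `x` lies in `m • DD(X)` then `x ∈ m X`. -/
theorem mem_smul_top_of_applyₗ_mem (X : Type u) [AddCommGroup X] [Module R X] (x : X)
    (h : (LinearMap.applyₗ x : (X →ₗ[R] E) →ₗ[R] E) ∈
      maximalIdeal R • (⊤ : Submodule R ((X →ₗ[R] E) →ₗ[R] E))) :
    x ∈ maximalIdeal R • (⊤ : Submodule R X) := by
  by_contra hx
  set N : Submodule R X := maximalIdeal R • (⊤ : Submodule R X) with hN
  have hq : N.mkQ x ≠ 0 := by
    rw [Submodule.mkQ_apply, Ne, Submodule.Quotient.mk_eq_zero]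
    exact hx
  obtain ⟨g, hg⟩ := exists_linearMap_apply_ne_zero f hf (N.mkQ x) hq
  have htors : ∀ a ∈ maximalIdeal R, a • (g ∘ₗ N.mkQ) = 0 := by
    intro a ha
    refine LinearMap.ext fun z => ?_
    rw [LinearMap.smul_apply, LinearMap.comp_apply, ← map_smul, ← map_smul, LinearMap.zero_apply]
    have : N.mkQ (a • z) = 0 := by
      rw [Submodule.mkQ_apply, Submodule.Quotient.mk_eq_zero]
      exact Submodule.smul_mem_smul ha Submodule.mem_top
    rw [this, map_zero]
  have := apply_eq_zero_of_torsion (maximalIdeal R) _ h (g ∘ₗ N.mkQ) htors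
  exact hg this

/-- An endomorphism congruent to the identity modulo `m` is bijective. -/
theorem bijective_of_sub_mem [IsNoetherianRing R] (K : Type u) [AddCommGroup K] [Module R K]
    [Module.Finite R K] (θ : K →ₗ[R] K)
    (h : LinearMap.id - θ ∈ maximalIdeal R • (⊤ : Submodule R (K →ₗ[R] K))) : Bijective θ := by
  have hsurj : Surjective θ := by
    rw [← LinearMap.range_eq_top]
    apply top_le_iff.mp
    apply Submodule.le_of_le_smul_of_le_jacobson_bot Module.Finite.fg_top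
      (maximalIdeal_le_jacobson _)
    intro x _
    have h1 : x = θ x + ((LinearMap.id : K →ₗ[R] K) - θ) x := by
      rw [LinearMap.sub_apply, LinearMap.id_apply]; abel
    rw [h1]
    exact Submodule.add_mem_sup ⟨x, rfl⟩ (apply_mem_smul_top _ _ h x)
  exact ⟨IsNoetherian.injective_of_surjective_endomorphism θ hsurj, hsurj⟩

section Main

variable [IsNoetherianRing R]

include hf in
/-- One half of the Yoneda-type argument. -/
theorem exists_half (K K' : Type u) [AddCommGroup K] [Module R K] [Module.Finite R K]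
    [AddCommGroup K'] [Module R K'] [Module.Finite R K']
    (ρ : ∀ (M : Type u) [AddCommGroup M] [Module R M] [Module.Finite R M],
      ((M →ₗ[R] K) →ₗ[R] E) ≃ₗ[R] ((M →ₗ[R] K') →ₗ[R] E))
    (hρ : ∀ (M N : Type u) [AddCommGroup M] [Module R M] [Module.Finite R M] [AddCommGroup N]
      [Module R N] [Module.Finite R N] (g : M →ₗ[R] N) (ω : (M →ₗ[R] K) →ₗ[R] E),
      ρ N (ddMap K E g ω) = ddMap K' E g (ρ M ω)) :
    ∃ (ψ : K' →ₗ[R] K) (δ : ((K' →ₗ[R] K) →ₗ[R] E) →ₗ[R] E),
      δ ∈ maximalIdeal R • (⊤ : Submodule R (((K' →ₗ[R] K) →ₗ[R] E) →ₗ[R] E)) ∧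
      ∀ (M : Type u) [AddCommGroup M] [Module R M] [Module.Finite R M] (g : M →ₗ[R] K')
        (ω : (M →ₗ[R] K) →ₗ[R] E), ρ M ω g = ω (ψ ∘ₗ g) + δ (ddMap K E g ω) := by
  let ζ : ((K' →ₗ[R] K) →ₗ[R] E) →ₗ[R] E :=
    (LinearMap.applyₗ (LinearMap.id : K' →ₗ[R] K')) ∘ₗ (ρ K').toLinearMap
  obtain ⟨ψ, hψ⟩ := exists_sub_applyₗ_mem f hf (K' →ₗ[R] K) ζ
  refine ⟨ψ, ζ - LinearMap.applyₗ ψ, hψ, ?_⟩
  intro M _ _ _ g ω
  have h1 : ρ M ω g = (ddMap K' E g (ρ M ω)) LinearMap.id := by
    rw [ddMap_apply, LinearMap.id_comp]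
  rw [h1, ← hρ M K' g ω]
  show ζ (ddMap K E g ω) = _
  rw [LinearMap.sub_apply, LinearMap.applyₗ_apply_apply, ddMap_apply]
  abel

include hf in
/-- **Uniqueness** from a natural isomorphism `D(Hom(-,K)) ≅ D(Hom(-,K'))` on finite modules. -/
theorem nonempty_equiv_of_natural (K K' : Type u) [AddCommGroup K] [Module R K]
    [Module.Finite R K] [AddCommGroup K'] [Module R K'] [Module.Finite R K']
    (ρ : ∀ (M : Type u) [AddCommGroup M] [Module R M] [Module.Finite R M],
      ((M →ₗ[R] K) →ₗ[R] E) ≃ₗ[R] ((M →ₗ[R] K') →ₗ[R] E))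
    (hρ : ∀ (M N : Type u) [AddCommGroup M] [Module R M] [Module.Finite R M] [AddCommGroup N]
      [Module R N] [Module.Finite R N] (g : M →ₗ[R] N) (ω : (M →ₗ[R] K) →ₗ[R] E),
      ρ N (ddMap K E g ω) = ddMap K' E g (ρ M ω)) :
    Nonempty (K ≃ₗ[R] K') := by
  obtain ⟨ψ, δ, hδ, F1⟩ := exists_half f hf K K' ρ hρ
  have hρ' : ∀ (M N : Type u) [AddCommGroup M] [Module R M] [Module.Finite R M] [AddCommGroup N]
      [Module R N] [Module.Finite R N] (g : M →ₗ[R] N) (ω' : (M →ₗ[R] K') →ₗ[R] E),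
      (ρ N).symm (ddMap K' E g ω') = ddMap K E g ((ρ M).symm ω') := by
    intro M N _ _ _ _ _ _ g ω'
    rw [LinearEquiv.symm_apply_eq, hρ, LinearEquiv.apply_symm_apply]
  obtain ⟨φ, δ', hδ', F2⟩ := exists_half f hf K' K (fun M _ _ _ => (ρ M).symm) hρ'
  -- `φ ∘ ψ ≡ id`
  have h1 : Bijective (φ ∘ₗ ψ) := by
    apply bijective_of_sub_mem
    apply mem_smul_top_of_applyₗ_mem f hf
    have : (LinearMap.applyₗ (LinearMap.id - φ ∘ₗ ψ) : ((K' →ₗ[R] K') →ₗ[R] E) →ₗ[R] E) =
        δ ∘ₗ (ρ K').symm.toLinearMap + δ' ∘ₗ ddMap K' E ψ := by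
      refine LinearMap.ext fun ω' => ?_
      have e1 := F1 K' LinearMap.id ((ρ K').symm ω')
      rw [LinearEquiv.apply_symm_apply, LinearMap.comp_id] at e1
      have e2 := F2 K' ψ ω'
      have e3 : ddMap K E (LinearMap.id : K' →ₗ[R] K') ((ρ K').symm ω') = (ρ K').symm ω' := by
        refine LinearMap.ext fun χ => ?_
        rw [ddMap_apply, LinearMap.comp_id]
      rw [e3] at e1
      rw [LinearMap.applyₗ_apply_apply, map_sub, e1, e2, LinearMap.add_apply,
        LinearMap.comp_apply, LinearMap.comp_apply, LinearEquiv.coe_coe]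
      abel
    rw [this]
    exact Submodule.add_mem _ (comp_mem_smul_top _ _ hδ _) (comp_mem_smul_top _ _ hδ' _)
  -- `ψ ∘ φ ≡ id`
  have h2 : Bijective (ψ ∘ₗ φ) := by
    apply bijective_of_sub_mem
    apply mem_smul_top_of_applyₗ_mem f hf
    have : (LinearMap.applyₗ (LinearMap.id - ψ ∘ₗ φ) : ((K →ₗ[R] K) →ₗ[R] E) →ₗ[R] E) =
        δ' ∘ₗ (ρ K).toLinearMap + δ ∘ₗ ddMap K E φ := by
      refine LinearMap.ext fun ω => ?_
      have e1 := F2 K LinearMap.id (ρ K ω)
      rw [LinearEquiv.symm_apply_apply, LinearMap.comp_id] at e1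
      have e2 := F1 K φ ω
      have e3 : ddMap K' E (LinearMap.id : K →ₗ[R] K) (ρ K ω) = ρ K ω := by
        refine LinearMap.ext fun χ => ?_
        rw [ddMap_apply, LinearMap.comp_id]
      rw [e3] at e1
      rw [LinearMap.applyₗ_apply_apply, map_sub, e1, e2, LinearMap.add_apply,
        LinearMap.comp_apply, LinearMap.comp_apply, LinearEquiv.coe_coe]
      abel
    rw [this]
    exact Submodule.add_mem _ (comp_mem_smul_top _ _ hδ' _) (comp_mem_smul_top _ _ hδ _)
  refine ⟨LinearEquiv.ofBijective φ ⟨?_, ?_⟩⟩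
  · exact Injective.of_comp (f := ψ) (by rw [← LinearMap.coe_comp]; exact h2.1)
  · exact Surjective.of_comp (g := ψ) (by rw [← LinearMap.coe_comp]; exact h1.2)

end Main

end Local

end Groth.Agent.Lib.Helper2.CanonUniq
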