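import Groth.Agent.Lib.Helper2.ExtLocIso
import Groth.Agent.Lib.Helper2.CanonExt
import Groth.Agent.S7691
import Groth.Agent.S0345
import Groth.Agent.S0341
import Groth.Agent.S11553
import Groth.Agent.Lib.Helper29.CMRing
import Groth.Agent.Lib.Helper29.DimTheory
import Groth.Agent.Lib.Helper41.GorTransfer
import Groth.Agent.Lib.Helper41.LCVanish

/-!
# Localization of the canonical module (quotients of Gorenstein local rings)
-/

set_option autoImplicit false
universe u

open Function CategoryTheory CategoryTheory.Abelian IsLocalRing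

namespace Groth.Agent.Lib.Helper2.CanonLoc

open Groth.Agent.Lib.Helper2 Groth.Agent.Lib.Helper29

section ExtIso

variable {A : Type u} [CommRing A]

/-- `Ext` is invariant under isomorphisms of both arguments. -/
noncomputable def extLinearEquivOfIso {X X' Y Y' : ModuleCat.{u} A} (e₁ : X ≅ X') (e₂ : Y ≅ Y')
    (n : ℕ) : Ext.{u} X Y n ≃ₗ[A] Ext.{u} X' Y' n where
  toFun x := (Ext.mk₀ e₁.inv).comp (x.comp (Ext.mk₀ e₂.hom) (add_zero n)) (zero_add n)
  invFun y := (Ext.mk₀ e₁.hom).comp (y.comp (Ext.mk₀ e₂.inv) (add_zero n)) (zero_add n)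
  map_add' x y := by rw [Ext.add_comp, Ext.comp_add]
  map_smul' r x := by rw [Ext.smul_comp, Ext.comp_smul]; rfl
  left_inv x := by
    beta_reduce
    rw [Ext.comp_assoc_of_third_deg_zero, Ext.comp_assoc_of_third_deg_zero, Ext.mk₀_comp_mk₀,
      e₂.hom_inv_id, Ext.comp_mk₀_id, Ext.mk₀_comp_mk₀_assoc, e₁.hom_inv_id, Ext.mk₀_id_comp]
  right_inv y := by
    beta_reduce
    rw [Ext.comp_assoc_of_third_deg_zero, Ext.comp_assoc_of_third_deg_zero, Ext.mk₀_comp_mk₀,
      e₂.inv_hom_id, Ext.comp_mk₀_id, Ext.mk₀_comp_mk₀_assoc, e₁.inv_hom_id, Ext.mk₀_id_comp]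

end ExtIso

section Abstract

variable {G : Type u} [CommRing G] [IsNoetherianRing G] (T : Submonoid G)

/-- Abstract form of the localization of `Ext`: any localization `D` of `Ext^c_G(M, N)` is
`Ext^c` over `T⁻¹G` of the localizations of `M` and `N`. -/
theorem nonempty_equiv_ext_of_isLocalizedModule
    (M N : Type u) [AddCommGroup M] [Module G M] [Module.Finite G M] [AddCommGroup N] [Module G N]
    (M' N' : Type u) [AddCommGroup M'] [Module G M'] [Module (Localization T) M']
    [IsScalarTower G (Localization T) M'] [AddCommGroup N'] [Module G N']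
    [Module (Localization T) N'] [IsScalarTower G (Localization T) N']
    (φM : M →ₗ[G] M') [IsLocalizedModule T φM] (φN : N →ₗ[G] N') [IsLocalizedModule T φN]
    (c : ℕ) (D : Type u) [AddCommGroup D] [Module G D] [Module (Localization T) D]
    [IsScalarTower G (Localization T) D]
    (ψ : Ext.{u} (ModuleCat.of G M) (ModuleCat.of G N) c →ₗ[G] D) [IsLocalizedModule T ψ] :
    Nonempty (D ≃ₗ[Localization T]
      Ext.{u} (ModuleCat.of (Localization T) M') (ModuleCat.of (Localization T) N') c) := by
  let Y₀ := Ext.{u} ((ExtLocIso.LF T).obj (ModuleCat.of G M))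
    ((ExtLocIso.LF T).obj (ModuleCat.of G N)) c
  letI : Module G Y₀ := Module.compHom Y₀ (algebraMap G (Localization T))
  haveI : IsScalarTower G (Localization T) Y₀ :=
    IsScalarTower.of_algebraMap_smul fun r x => rfl
  let Φ : Ext.{u} (ModuleCat.of G M) (ModuleCat.of G N) c →ₗ[G] Y₀ :=
    { toFun := fun e => e.mapExactFunctor (ExtLocIso.LF T)
      map_add' := fun x y => Ext.mapExactFunctor_add _ _ _ _ x y
      map_smul' := fun r e => ExtLocIso.mapExt_smul T r e }
  haveI : IsLocalizedModule T Φ := by
    obtain ⟨h1, h2⟩ := ExtLocIso.main T (ModuleCat.of G N) c (ModuleCat.of G M)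
    refine ⟨?_, ?_, ?_⟩
    · intro s
      rw [Module.End.isUnit_iff]
      obtain ⟨v, hv⟩ := IsLocalization.map_units (Localization T) s
      have hb : Function.Bijective (fun y : Y₀ => v • y) := MulAction.bijective v
      have h3 : (fun y : Y₀ => v • y) = fun y : Y₀ => (s : G) • y := by
        funext y
        change (v : Localization T) • y = algebraMap G (Localization T) (s : G) • y
        rw [hv]
      rw [h3] at hb
      exact hb
    · intro y
      obtain ⟨e, s, hs⟩ := h1 y
      exact ⟨⟨e, s⟩, hs⟩
    · intro x₁ x₂ h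
      obtain ⟨s, hs⟩ := h2 (x₁ - x₂) (by
        have := map_sub Φ x₁ x₂
        rw [h, sub_self] at this
        exact this)
      refine ⟨s, ?_⟩
      rw [smul_sub, sub_eq_zero] at hs
      exact hs
  let e2 : D ≃ₗ[G] Y₀ := IsLocalizedModule.linearEquiv T ψ Φ
  let e2' : D ≃ₗ[Localization T] Y₀ :=
    LinearEquiv.extendScalarsOfIsLocalization T (Localization T) e2
  haveI := ModuleCat.localizedModule_isLocalizedModule (ModuleCat.of G M) T
  haveI := ModuleCat.localizedModule_isLocalizedModule (ModuleCat.of G N) T
  let iM : (ExtLocIso.LF T).obj (ModuleCat.of G M) ≅ ModuleCat.of (Localization T) M' :=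
    (LinearEquiv.extendScalarsOfIsLocalization T (Localization T)
      (IsLocalizedModule.linearEquiv T ((ModuleCat.of G M).localizedModuleMkLinearMap T)
        φM)).toModuleIso
  let iN : (ExtLocIso.LF T).obj (ModuleCat.of G N) ≅ ModuleCat.of (Localization T) N' :=
    (LinearEquiv.extendScalarsOfIsLocalization T (Localization T)
      (IsLocalizedModule.linearEquiv T ((ModuleCat.of G N).localizedModuleMkLinearMap T)
        φN)).toModuleIso
  exact ⟨e2'.trans (extLinearEquivOfIso iM iN c)⟩

end Abstract

section Restrict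

variable {G R : Type u} [CommRing G] [CommRing R] [Algebra G R]

/-- A localization at `p` of an `R`-module is, over `G ↠ R`, a localization at the preimage. -/
theorem isLocalizedModule_restrictScalars (hs : Surjective (algebraMap G R)) (p : Ideal R)
    [p.IsPrime] {K K' : Type u} [AddCommGroup K] [Module R K] [Module G K] [IsScalarTower G R K]
    [AddCommGroup K'] [Module R K'] [Module G K'] [IsScalarTower G R K']
    (φ : K →ₗ[R] K') [IsLocalizedModule p.primeCompl φ] :
    IsLocalizedModule (p.comap (algebraMap G R)).primeCompl (φ.restrictScalars G) := by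
  have hT : Algebra.algebraMapSubmonoid R (p.comap (algebraMap G R)).primeCompl = p.primeCompl :=
    Submonoid.map_comap_eq_of_surjective hs p.primeCompl
  haveI : IsLocalizedModule
      (Algebra.algebraMapSubmonoid R (p.comap (algebraMap G R)).primeCompl) φ := by
    rw [hT]; infer_instance
  exact IsLocalizedModule.restrictScalars _ φ

/-- The support dimension of a quotient ring as a module. -/
theorem supportDim_of_surjective (hs : Surjective (algebraMap G R)) :
    Module.supportDim G R = ringKrullDim R := by
  have hs' : Surjective (Algebra.ofId G R) := hs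
  rw [Module.supportDim_eq_of_equiv (Ideal.quotientKerAlgEquivOfSurjective hs').symm.toLinearEquiv,
    Module.supportDim_quotient_eq_ringKrullDim]
  exact ringKrullDim_eq_of_ringEquiv (Ideal.quotientKerAlgEquivOfSurjective hs').toRingEquiv

end Restrict

section Gor

theorem exists_nat_dim (C : Type u) [CommRing C] [IsNoetherianRing C] [IsLocalRing C] :
    ∃ k : ℕ, ringKrullDim C = k := by
  have hne : ringKrullDim C ≠ ⊤ := DimTheory.ringKrullDim_ne_top C
  have hnb : ringKrullDim C ≠ ⊥ := ringKrullDim_ne_bot
  cases h : ringKrullDim C with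
  | bot => exact absurd h hnb
  | coe a =>
    cases a with
    | top => exact absurd h hne
    | coe k => exact ⟨k, rfl⟩

/-- Over a Gorenstein local ring `S` of dimension `r`, `Ext^j(M, S) = 0` for `j < r - dim M`. -/
theorem subsingleton_ext_of_add_lt (S : Type u) [CommRing S] [LocCoh.IsGorensteinLocalRing S]
    (r : ℕ) (hr : ringKrullDim S = r) (M : Type u) [AddCommGroup M] [Module S M]
    [Module.Finite S M] (h : ℕ) (hM : Module.supportDim S M ≤ h) (j : ℕ) (hj : j + h < r) :
    Subsingleton (Ext.{u} (ModuleCat.of S M) (ModuleCat.of S S) j) := by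
  obtain ⟨n₀, h₀⟩ := LocCoh.IsGorensteinLocalRing.exists_hasInjectiveDimensionLT (A := S)
  obtain ⟨r', -, -, hdim', hdepth'⟩ := GorCM.exists_top_ext n₀ h₀
  have hr' : r' = r := by
    have : ((r' : ℕ) : WithBot ℕ∞) = (r : ℕ) := by rw [← hdim', hr]
    exact_mod_cast this
  subst hr'
  obtain ⟨g₀, hg₀⟩ := exists_isInjectiveHull_of_gorenstein r' S hdim'
  let eK' : (S →ₗ[S] LocCoh.H (maximalIdeal S) r' S) ≃ₗ[S] LocCoh.H (maximalIdeal S) r' S :=
    LinearMap.ringLmapEquivSelf S S _
  have hdepthle : (r' : ℕ∞) ≤ LocCoh.depth S S := le_of_eq hdepth'.symm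
  obtain ⟨ε⟩ := LD.duality_ext (maximalIdeal S) r' hdim'.le
    (LD.subsingleton_localCohomology_of_lt_depth r' hdepthle) hg₀.isInjective eK' j (by omega) M
  haveI : Subsingleton ((localCohomology (maximalIdeal S) (r' - j)).obj (ModuleCat.of S M)) := by
    apply Groth.Agent.Lib.Helper41.LC.subsingleton_of_supportDim_lt
    refine lt_of_le_of_lt hM ?_
    exact_mod_cast (show h < r' - j by omega)
  constructor
  intro x y
  by_contra hxy
  obtain ⟨φ, hφ⟩ := exists_linearMap_apply_ne_zero g₀ hg₀ (x - y) (sub_ne_zero.mpr hxy)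
  have h0 : φ = 0 := by
    have := ε.apply_symm_apply φ
    rw [Subsingleton.elim (ε.symm φ) 0, map_zero] at this
    exact this.symm
  rw [h0] at hφ
  exact hφ rfl

/-- The dimension formula `dim S/P + ht P = dim S` in a Gorenstein local ring. -/
theorem dim_add_height (S : Type u) [CommRing S] [LocCoh.IsGorensteinLocalRing S] (P : Ideal S)
    [hP : P.IsPrime] (d r n' : ℕ) (hd : ringKrullDim (S ⧸ P) = d) (hr : P.height = r)
    (hn' : ringKrullDim S = n') : d + r = n' := by
  obtain ⟨n₀, h₀⟩ := LocCoh.IsGorensteinLocalRing.exists_hasInjectiveDimensionLT (A := S)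
  have hGor : LocCoh.IsGorensteinRing S := ((Groth.Agent.S0345.result S).mp ⟨n₀, h₀⟩).1
  have hCMring : LocCoh.IsCohenMacaulayRing S :=
    { isCohenMacaulayLocalRing_localization := fun q _ =>
        haveI := hGor.isGorensteinLocalRing_localization q
        Groth.Agent.S0341.result (Localization.AtPrime q) }
  have hdepth_p : LocCoh.idealDepth P S = P.height :=
    (CMRing.isCohenMacaulayRing_iff_idealDepth_eq_height S).mp hCMring P hP.ne_top
  have hCMmod : LocCoh.IsCohenMacaulayModule S S :=
    (Groth.Agent.S0341.result S).supportDim_eq_depth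
  have h1 := CMRing.supportDim_eq_add_idealDepth_of_isCM S P hP.ne_top S hCMmod
  have hp' : (P • (⊤ : Submodule S S)) = P := by rw [smul_eq_mul, Ideal.mul_top]
  rw [Module.supportDim_self_eq_ringKrullDim, hn',
    Module.supportDim_eq_of_equiv (Submodule.quotEquivOfEq _ _ hp'),
    Module.supportDim_quotient_eq_ringKrullDim, hd, hdepth_p, hr] at h1
  have h2 : ((n' : ℕ) : WithBot ℕ∞) = ((d + r : ℕ) : WithBot ℕ∞) := by
    rw [h1]; push_cast; rfl
  have h3 : n' = d + r := by exact_mod_cast h2
  omega

end Gor

section Main

/-- **The canonical module localizes** (for quotients of Gorenstein local rings). -/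
theorem nonempty_dual_equiv_localization (G R : Type u) [CommRing G]
    [LocCoh.IsGorensteinLocalRing G] [CommRing R] [IsNoetherianRing R] [IsLocalRing R]
    [Algebra G R] (hs : Surjective (algebraMap G R)) (n : ℕ) (hn : ringKrullDim R = n)
    (E : Type u) [AddCommGroup E] [Module R E] (f : ResidueField R →ₗ[R] E)
    (hf : InjHull.IsInjectiveHull f) (K : Type u) [AddCommGroup K] [Module R K]
    [Module.Finite R K] (eK : (K →ₗ[R] E) ≃ₗ[R] LocCoh.H (maximalIdeal R) n R)
    (p : Ideal R) [p.IsPrime] (hp : Nontrivial (LocalizedModule p.primeCompl K))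
    (h : ℕ) (hh : ringKrullDim (Localization.AtPrime p) = h)
    (E' : Type u) [AddCommGroup E'] [Module (Localization.AtPrime p) E']
    (f' : ResidueField (Localization.AtPrime p) →ₗ[Localization.AtPrime p] E')
    (hf' : InjHull.IsInjectiveHull f') :
    Nonempty ((LocalizedModule p.primeCompl K →ₗ[Localization.AtPrime p] E')
      ≃ₗ[Localization.AtPrime p]
      LocCoh.H (maximalIdeal (Localization.AtPrime p)) h (Localization.AtPrime p)) := by
  classical
  -- Step 1: `K ≅ Ext^c_G(R, G)`
  obtain ⟨n', hn'⟩ := exists_nat_dim G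
  have hnn' : n ≤ n' := by
    have := ringKrullDim_le_of_surjective (algebraMap G R) hs
    rw [hn, hn'] at this
    exact_mod_cast this
  obtain ⟨c, hc⟩ : ∃ c, n + c = n' := ⟨n' - n, by omega⟩
  have hkill : ∀ b ∈ RingHom.ker (algebraMap G R),
      ∀ x : Ext.{u} (ModuleCat.of G R) (ModuleCat.of G G) c, b • x = 0 := fun b hb x =>
    GorCM.smul_ext_eq_zero_of_mem_annihilator R G (by
      rw [Module.mem_annihilator]
      intro a
      rw [Algebra.smul_def, (RingHom.mem_ker).mp hb, zero_mul]) c x
  letI : Module R (Ext.{u} (ModuleCat.of G R) (ModuleCat.of G G) c) :=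
    CanonExist.moduleOfKer (algebraMap G R) hs _ hkill
  haveI : IsScalarTower G R (Ext.{u} (ModuleCat.of G R) (ModuleCat.of G G) c) :=
    IsScalarTower.of_algebraMap_smul fun a x =>
      CanonExist.moduleOfKer_smul (algebraMap G R) hs _ hkill a x
  haveI : Module.Finite G R := Module.Finite.of_surjective (Algebra.linearMap G R) hs
  haveI : Module.Finite G (Ext.{u} (ModuleCat.of G R) (ModuleCat.of G G) c) :=
    ModuleCat.finite_ext G (ModuleCat.of G R) (ModuleCat.of G G) c
  haveI : Module.Finite R (Ext.{u} (ModuleCat.of G R) (ModuleCat.of G G) c) :=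
    Module.Finite.of_restrictScalars_finite G R _
  obtain ⟨eX⟩ := CanonExist.nonempty_dual_equiv_of_ext G R hs n hn E f hf n' c hn' hc
    (Ext.{u} (ModuleCat.of G R) (ModuleCat.of G G) c) (LinearEquiv.refl G _)
  obtain ⟨e1⟩ := Groth.Agent.S7691.result R n hn E f hf K eK _ eX
  -- Step 2: the localized rings
  let P : Ideal G := p.comap (algebraMap G R)
  haveI hPprime : P.IsPrime := Ideal.comap_isPrime _ _
  let ρ : Localization.AtPrime P →+* Localization.AtPrime p :=
    Localization.localRingHom P p (algebraMap G R) rfl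
  have hρ : Surjective ρ := RingHom.surjective_localRingHom_of_surjective (algebraMap G R) hs p
  letI : Algebra (Localization.AtPrime P) (Localization.AtPrime p) := ρ.toAlgebra
  obtain ⟨n₀, h₀⟩ := LocCoh.IsGorensteinLocalRing.exists_hasInjectiveDimensionLT (A := G)
  have hGor : LocCoh.IsGorensteinRing G := ((Groth.Agent.S0345.result G).mp ⟨n₀, h₀⟩).1
  haveI : LocCoh.IsGorensteinLocalRing (Localization.AtPrime P) :=
    hGor.isGorensteinLocalRing_localization P
  haveI : IsScalarTower G (Localization.AtPrime P) (Localization.AtPrime p) :=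
    IsScalarTower.of_algebraMap_eq fun x => by
      change _ = ρ (algebraMap G (Localization.AtPrime P) x)
      rw [Localization.localRingHom_to_map]
      exact IsScalarTower.algebraMap_apply G R (Localization.AtPrime p) x
  -- module structures
  letI : Module G K := Module.compHom K (algebraMap G R)
  haveI : IsScalarTower G R K := IsScalarTower.of_algebraMap_smul fun r x => rfl
  letI : Module (Localization.AtPrime P) (LocalizedModule p.primeCompl K) :=
    Module.compHom (LocalizedModule p.primeCompl K) ρ
  haveI : IsScalarTower (Localization.AtPrime P) (Localization.AtPrime p)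
      (LocalizedModule p.primeCompl K) :=
    IsScalarTower.of_algebraMap_smul fun r x => rfl
  haveI : IsScalarTower G (Localization.AtPrime P) (LocalizedModule p.primeCompl K) := by
    refine IsScalarTower.of_algebraMap_smul fun r x => ?_
    change ρ (algebraMap G (Localization.AtPrime P) r) • x = r • x
    rw [Localization.localRingHom_to_map, algebraMap_smul, algebraMap_smul]
  -- Step 3: localization maps
  haveI hφM : IsLocalizedModule P.primeCompl
      ((Algebra.linearMap R (Localization.AtPrime p)).restrictScalars G) :=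
    isLocalizedModule_restrictScalars hs p (Algebra.linearMap R (Localization.AtPrime p))
  haveI hφK : IsLocalizedModule P.primeCompl
      ((LocalizedModule.mkLinearMap p.primeCompl K).restrictScalars G) :=
    isLocalizedModule_restrictScalars hs p (LocalizedModule.mkLinearMap p.primeCompl K)
  let ψ : Ext.{u} (ModuleCat.of G R) (ModuleCat.of G G) c →ₗ[G] LocalizedModule p.primeCompl K :=
    ((LocalizedModule.mkLinearMap p.primeCompl K).restrictScalars G) ∘ₗ
      ↑(e1.symm.restrictScalars G)
  haveI : IsLocalizedModule P.primeCompl ψ :=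
    IsLocalizedModule.of_linearEquiv_right P.primeCompl _ _
  obtain ⟨eD⟩ := nonempty_equiv_ext_of_isLocalizedModule P.primeCompl R G
    (Localization.AtPrime p) (Localization.AtPrime P)
    ((Algebra.linearMap R (Localization.AtPrime p)).restrictScalars G)
    (Algebra.linearMap G (Localization.AtPrime P)) c (LocalizedModule p.primeCompl K) ψ
  -- Step 4: dimensions
  obtain ⟨N, hN⟩ := exists_nat_dim (Localization.AtPrime P)
  haveI : Nontrivial (R ⧸ p) := Ideal.Quotient.nontrivial_iff.mpr (Ideal.IsPrime.ne_top ‹_›)
  haveI : IsLocalRing (R ⧸ p) :=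
    IsLocalRing.of_surjective' (Ideal.Quotient.mk p) Ideal.Quotient.mk_surjective
  obtain ⟨b, hb⟩ := exists_nat_dim (R ⧸ p)
  have hb' : ringKrullDim (G ⧸ P) = b := by
    rw [← hb]
    exact Groth.Agent.Lib.Helper41.GorTransfer.ringKrullDim_quotient_comap (algebraMap G R) hs p
  have hhtP : P.height = N := by
    have := IsLocalization.AtPrime.ringKrullDim_eq_height P (Localization.AtPrime P)
    rw [hN] at this
    exact_mod_cast this.symm
  have hhtp : p.height = h := by
    have := IsLocalization.AtPrime.ringKrullDim_eq_height p (Localization.AtPrime p)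
    rw [hh] at this
    exact_mod_cast this.symm
  have h1 : b + N = n' := dim_add_height G P b N n' hb' hhtP hn'
  have h2 : h + b ≤ n := by
    have := Groth.Agent.S11553.height_add_dim_quotient_le R p
    rw [hhtp, hb, hn] at this
    exact_mod_cast this
  have hle : c + h ≤ N := by omega
  have hge : N ≤ c + h := by
    by_contra hlt
    push Not at hlt
    haveI : Module.Finite (Localization.AtPrime P) (Localization.AtPrime p) :=
      Module.Finite.of_surjective (Algebra.linearMap _ _) hρ
    have hsd : Module.supportDim (Localization.AtPrime P) (Localization.AtPrime p) ≤ h := by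
      rw [supportDim_of_surjective (G := Localization.AtPrime P) (R := Localization.AtPrime p) hρ,
        hh]
    haveI := subsingleton_ext_of_add_lt (Localization.AtPrime P) N hN (Localization.AtPrime p) h
      hsd c hlt
    haveI : Subsingleton (LocalizedModule p.primeCompl K) := eD.toEquiv.subsingleton
    exact not_subsingleton (LocalizedModule p.primeCompl K) ‹_›
  have hc' : h + c = N := by omega
  exact CanonExist.nonempty_dual_equiv_of_ext (Localization.AtPrime P) (Localization.AtPrime p) hρ
    h hh E' f' hf' N c hN hc' (LocalizedModule p.primeCompl K) eD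

end Main

end Groth.Agent.Lib.Helper2.CanonLoc
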