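import Groth.Agent.Lib.Helper2.InjHull
import Groth.Agent.Lib.Helper2.Matlis1

/-!
# A finite module whose Matlis dual is `E` is free of rank one
-/

set_option autoImplicit false
universe u

open Function IsLocalRing

namespace Groth.Agent.Lib.Helper2.CanonGor

open Groth.Agent.Lib.Helper2

variable {R : Type u} [CommRing R] [IsLocalRing R] {E : Type u} [AddCommGroup E] [Module R E]
  (f : ResidueField R →ₗ[R] E) (hf : InjHull.IsInjectiveHull f)

include hf in
/-- The socle of `E` is the image of the residue field. -/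
theorem mem_range_of_smul_eq_zero (e : E) (he : ∀ a ∈ maximalIdeal R, a • e = 0) :
    e ∈ LinearMap.range f := by
  by_cases h0 : e = 0
  · rw [h0]; exact zero_mem _
  obtain ⟨r, hr0, hr⟩ := hf.toIsEssentialInj.essElt e h0
  have hru : IsUnit r := by
    by_contra hnu
    exact hr0 (he r ((mem_maximalIdeal r).mpr hnu))
  obtain ⟨u, rfl⟩ := hru
  have : e = (↑u⁻¹ : R) • ((u : R) • e) := by rw [smul_smul, Units.inv_mul, one_smul]
  rw [this]
  exact Submodule.smul_mem _ _ hr

omit [IsLocalRing R] in
/-- Elements of `I • End(E)` kill the `I`-torsion. -/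
theorem apply_eq_zero_of_mem_smul_top (I : Ideal R) (δ : E →ₗ[R] E)
    (hδ : δ ∈ I • (⊤ : Submodule R (E →ₗ[R] E))) (e : E)
    (he : ∀ a ∈ I, a • e = 0) : δ e = 0 := by
  refine Submodule.smul_induction_on hδ ?_ ?_
  · intro a ha ε _
    rw [LinearMap.smul_apply, ← map_smul, he a ha, map_zero]
  · intro x y hx hy
    rw [LinearMap.add_apply, hx, hy, add_zero]

theorem smul_map_eq_zero (z : ResidueField R) (a : R) (ha : a ∈ maximalIdeal R) :
    a • f z = 0 := by
  rw [← map_smul]
  have : a • z = 0 := by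
    rw [Algebra.smul_def, ResidueField.algebraMap_eq, (residue_eq_zero_iff a).mpr ha, zero_mul]
  rw [this, map_zero]

include hf in
/-- Every endomorphism of `E` is a homothety modulo `m • End(E)`. -/
theorem exists_sub_smul_mem [IsNoetherianRing R] (β : E →ₗ[R] E) :
    ∃ c : R, β - c • LinearMap.id ∈ maximalIdeal R • (⊤ : Submodule R (E →ₗ[R] E)) := by
  have h1 : β (f 1) ∈ LinearMap.range f :=
    mem_range_of_smul_eq_zero f hf _ (fun a ha => by
      rw [← map_smul, smul_map_eq_zero f 1 a ha, map_zero])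
  obtain ⟨cbar, hc⟩ := h1
  obtain ⟨c, rfl⟩ := residue_surjective cbar
  refine ⟨c, ?_⟩
  set δ : E →ₗ[R] E := β - c • LinearMap.id with hδ
  have hfc : f (residue R c) = c • f 1 := by
    rw [← map_smul]
    congr 1
    rw [Algebra.smul_def, ResidueField.algebraMap_eq, mul_one]
  have hδ1 : δ (f 1) = 0 := by
    rw [hδ, LinearMap.sub_apply, LinearMap.smul_apply, LinearMap.id_apply, ← hc, hfc, sub_self]
  have hδf : ∀ e ∈ LinearMap.range f, δ e = 0 := by
    rintro _ ⟨z, rfl⟩
    obtain ⟨z', rfl⟩ := residue_surjective z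
    have : f (residue R z') = z' • f 1 := by
      rw [← map_smul]
      congr 1
      rw [Algebra.smul_def, ResidueField.algebraMap_eq, mul_one]
    rw [this, map_smul, hδ1, smul_zero]
  -- generators of the maximal ideal
  obtain ⟨k, a, ha⟩ := Submodule.fg_iff_exists_fin_generating_family.mp
    (IsNoetherian.noetherian (maximalIdeal R))
  let A : E →ₗ[R] (Fin k → E) := LinearMap.pi (fun i => a i • LinearMap.id)
  have hker : LinearMap.ker A ≤ LinearMap.ker δ := by
    intro e he
    rw [LinearMap.mem_ker] at he ⊢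
    apply hδf
    apply mem_range_of_smul_eq_zero f hf
    intro b hb
    rw [← ha] at hb
    refine Submodule.span_induction ?_ ?_ ?_ ?_ hb
    · rintro _ ⟨i, rfl⟩
      have := congrFun he i
      simpa [A] using this
    · rw [zero_smul]
    · intro x y _ _ hx hy
      rw [add_smul, hx, hy, add_zero]
    · intro r x _ hx
      rw [smul_eq_mul, mul_smul, hx, smul_zero]
  let Abar : (E ⧸ LinearMap.ker A) →ₗ[R] (Fin k → E) := (LinearMap.ker A).liftQ A le_rfl
  have hAbar : Injective Abar := by
    rw [← LinearMap.ker_eq_bot]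
    exact Submodule.ker_liftQ_eq_bot _ _ _ le_rfl
  let δbar : (E ⧸ LinearMap.ker A) →ₗ[R] E := (LinearMap.ker A).liftQ δ hker
  obtain ⟨Δ, hΔ⟩ := hf.isInjective.out Abar hAbar δbar
  have hsum : δ = ∑ i : Fin k, a i • (Δ ∘ₗ LinearMap.single R (fun _ => E) i) := by
    refine LinearMap.ext fun e => ?_
    have h2 : Δ (A e) = δ e := hΔ (Submodule.Quotient.mk e)
    rw [← h2, LinearMap.sum_apply]
    conv_lhs => rw [← Finset.univ_sum_single (A e), map_sum]
    refine Finset.sum_congr rfl fun i _ => ?_
    rw [LinearMap.smul_apply, LinearMap.comp_apply, ← map_smul]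
    congr 1
    have : A e i = a i • e := by simp [A]
    rw [this]
    refine funext fun j => ?_
    simp [Pi.single_apply]
  rw [hsum]
  refine Submodule.sum_mem _ fun i _ => Submodule.smul_mem_smul ?_ Submodule.mem_top
  rw [← ha]
  exact Submodule.subset_span ⟨i, rfl⟩

include hf in
/-- An endomorphism of `E` fixing the residue field is bijective. -/
theorem bijective_of_comp_eq (θ : E →ₗ[R] E) (hθ : ∀ z, θ (f z) = f z) : Bijective θ := by
  have hess := hf.toIsEssentialInj.essElt
  have hinj : Injective θ := by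
    apply injective_of_essElt_comp hess θ
    have : θ ∘ₗ f = f := LinearMap.ext hθ
    rw [this]
    exact hf.injective
  obtain ⟨β, hβ⟩ := hf.isInjective.out θ hinj LinearMap.id
  have hβinj : Injective β := by
    apply injective_of_essElt_comp hess β
    have : β ∘ₗ f = f := by
      refine LinearMap.ext fun z => ?_
      show β (f z) = f z
      conv_lhs => rw [← hθ z]
      rw [hβ]
      rfl
    rw [this]
    exact hf.injective
  refine ⟨hinj, fun y => ⟨β y, ?_⟩⟩
  apply hβinj
  rw [hβ]
  rfl

include hf in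
/-- A finite module `K` with `Hom(K, E) ≅ E` is isomorphic to `R`. -/
theorem nonempty_equiv_of_dual_equiv [IsNoetherianRing R] (K : Type u) [AddCommGroup K]
    [Module R K] [Module.Finite R K] (γ : (K →ₗ[R] E) ≃ₗ[R] E) : Nonempty (K ≃ₗ[R] R) := by
  obtain ⟨s, y, hy⟩ := Module.Finite.exists_fin (R := R) (M := K)
  let ev : (K →ₗ[R] E) →ₗ[R] (Fin s → E) := LinearMap.pi (fun j => LinearMap.applyₗ (y j))
  have hev : Injective ev := by
    rw [injective_iff_map_eq_zero]
    intro φ hφ
    apply LinearMap.ext_on_range hy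
    intro i
    have := congrFun hφ i
    simpa [ev] using this
  obtain ⟨Γ, hΓ⟩ := hf.isInjective.out ev hev γ.toLinearMap
  choose c hc using fun j : Fin s =>
    exists_sub_smul_mem f hf (Γ ∘ₗ LinearMap.single R (fun _ => E) j)
  set x : K := ∑ j, c j • y j with hx
  let ψ : (K →ₗ[R] E) →ₗ[R] E := LinearMap.applyₗ x
  let θ : E →ₗ[R] E := ψ ∘ₗ γ.symm.toLinearMap
  have hθf : ∀ z, θ (f z) = f z := by
    intro z
    set g : K →ₗ[R] E := γ.symm (f z) with hg
    have hgtors : ∀ a ∈ maximalIdeal R, ∀ v : K, a • g v = 0 := by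
      intro a ha v
      have : a • g = 0 := by
        rw [hg, ← map_smul, smul_map_eq_zero f z a ha, map_zero]
      rw [← LinearMap.smul_apply, this, LinearMap.zero_apply]
    have h1 : γ g = f z := by rw [hg, LinearEquiv.apply_symm_apply]
    have h2 : γ g = Γ (ev g) := (hΓ g).symm
    have h3 : Γ (ev g) = ∑ j, (Γ ∘ₗ LinearMap.single R (fun _ => E) j) (g (y j)) := by
      conv_lhs => rw [← Finset.univ_sum_single (ev g), map_sum]
      refine Finset.sum_congr rfl fun j _ => ?_
      rfl
    have h4 : ∀ j, (Γ ∘ₗ LinearMap.single R (fun _ => E) j) (g (y j)) = c j • g (y j) := by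
      intro j
      have := apply_eq_zero_of_mem_smul_top (maximalIdeal R) _ (hc j) (g (y j))
        (fun a ha => hgtors a ha (y j))
      rw [LinearMap.sub_apply, LinearMap.smul_apply, LinearMap.id_apply, sub_eq_zero] at this
      exact this
    show g x = f z
    rw [← h1, h2, h3, hx, map_sum]
    refine Finset.sum_congr rfl fun j _ => ?_
    rw [h4 j, map_smul]
  have hθ : Bijective θ := bijective_of_comp_eq f hf θ hθf
  have hψ : Bijective ψ := by
    have : (ψ : (K →ₗ[R] E) → E) = θ ∘ γ := by
      funext g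
      show g x = (γ.symm (γ g)) x
      rw [LinearEquiv.symm_apply_apply]
    rw [this]
    exact hθ.comp γ.bijective
  -- `r ↦ r • x` is bijective
  have hcog : ∀ (X : Type u) [AddCommGroup X] [Module R X] (v : X), v ≠ 0 →
      ∃ h : X →ₗ[R] E, h v ≠ 0 := fun X _ _ v hv => exists_linearMap_apply_ne_zero f hf v hv
  refine ⟨(LinearEquiv.ofBijective (LinearMap.toSpanSingleton R K x) ⟨?_, ?_⟩).symm⟩
  · rw [injective_iff_map_eq_zero]
    intro r hr
    rw [LinearMap.toSpanSingleton_apply] at hr
    by_contra hr0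
    obtain ⟨h, hh⟩ := hcog R r hr0
    obtain ⟨g, hg⟩ := hψ.2 (h 1)
    apply hh
    have : h r = r • h 1 := by rw [← map_smul, smul_eq_mul, mul_one]
    rw [this, ← hg]
    show r • g x = 0
    rw [← map_smul, hr, map_zero]
  · rw [← LinearMap.range_eq_top]
    by_contra hne
    set N : Submodule R K := LinearMap.range (LinearMap.toSpanSingleton R K x) with hN
    have hnt : Nontrivial (K ⧸ N) := Submodule.Quotient.nontrivial_iff.mpr hne
    obtain ⟨v, hv⟩ := exists_ne (0 : K ⧸ N)
    obtain ⟨h, hh⟩ := hcog (K ⧸ N) v hv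
    have h0 : ψ (h ∘ₗ N.mkQ) = 0 := by
      show h (N.mkQ x) = 0
      have : N.mkQ x = 0 := by
        rw [Submodule.mkQ_apply, Submodule.Quotient.mk_eq_zero]
        exact ⟨1, by rw [LinearMap.toSpanSingleton_apply, one_smul]⟩
      rw [this, map_zero]
    have h1 : h ∘ₗ N.mkQ = 0 := hψ.1 (by rw [h0, map_zero])
    obtain ⟨v', rfl⟩ := N.mkQ_surjective v
    exact hh (LinearMap.congr_fun h1 v')

end Groth.Agent.Lib.Helper2.CanonGor
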