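import Groth.Agent.Lib.Helper2.LDCM
import Groth.Agent.Lib.Helper2.Matlis1
import Groth.Agent.Lib.Helper29.InjDim
import Groth.Agent.Lib.Helper41.LC0

/-!
# Consequences of local duality: a canonical module has injective dimension `n`
-/

set_option autoImplicit false
universe u

open Function CategoryTheory

namespace Groth.Agent.Lib.Helper2.LD

open Groth.Agent.Lib.Helper2

section Main

open IsLocalRing Groth.Agent.Lib.Helper41.LC CategoryTheory.Abelian TensorProduct

variable {R : Type u} [CommRing R] [IsNoetherianRing R] (I : Ideal R) (n : ℕ)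
  (hn : ringKrullDim R ≤ n)
  {E : Type u} [AddCommGroup E] [Module R E] (hE : Module.Injective R E)
  {K : Type u} [AddCommGroup K] [Module R K]
  (eK : (K →ₗ[R] E) ≃ₗ[R] (localCohomology I n).obj (ModuleCat.of R R))

include hn hE eK in
/-- The dual of `Ext^1(M,K)` is the kernel of `H^n(M') → H^n(F)` for a presentation
`0 → M' → F → M → 0`. -/
theorem nonempty_extOne_dual_equiv {M : Type u} [AddCommGroup M] [Module R M] {b : ℕ}
    (π : (Fin b → R) →ₗ[R] M) (hπ : Surjective π) :
    Nonempty ((Ext.{u} (ModuleCat.of R M) (ModuleCat.of R K) 1 →ₗ[R] E) ≃ₗ[R]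
      LinearMap.ker ((localCohomology I n).map
        (ModuleCat.ofHom (LinearMap.ker π).subtype)).hom) := by
  let M' : Submodule R (Fin b → R) := LinearMap.ker π
  haveI : Module.Finite R M' := Module.IsNoetherian.finite R M'
  have hfg : Function.Exact M'.subtype π := LinearMap.exact_subtype_ker_map π
  let S : ShortComplex (ModuleCat.{u} R) :=
    ModuleCat.shortComplexOfCompEqZero M'.subtype π hfg.linearMap_comp_eq_zero
  have hS : S.ShortExact :=
    { exact := ModuleCat.shortComplex_exact _ hfg
      mono_f := (ModuleCat.mono_iff_injective _).mpr M'.injective_subtype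
      epi_g := (ModuleCat.epi_iff_surjective _).mpr hπ }
  have hExtF : ∀ j : ℕ, Subsingleton
      (Ext.{u} (ModuleCat.of R (Fin b → R)) (ModuleCat.of R K) (j + 1)) :=
    fun j => Ext.subsingleton_of_projective _ _ j
  let a : (localCohomology I n).obj (ModuleCat.of R M') →ₗ[R]
      (localCohomology I n).obj (ModuleCat.of R (Fin b → R)) :=
    ((localCohomology I n).map (ModuleCat.ofHom M'.subtype)).hom
  let e2 : LinearMap.ker a ≃ₗ[R] LinearMap.ker (ddMap K E M'.subtype) :=
    kerEquivOfComm (topEquiv I n hn hE eK M') (topEquiv I n hn hE eK (Fin b → R))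
      a (ddMap K E M'.subtype)
      (fun x => topEquiv_naturality I n hn hE eK M'.subtype x)
  let p : (M' →ₗ[R] K) →ₗ[R] Ext.{u} (ModuleCat.of R M) (ModuleCat.of R K) (0 + 1) :=
    (extδ hS (ModuleCat.of R K) 0 (0 + 1) (by omega)) ∘ₗ (e0 M' K).toLinearMap
  have hp : Surjective p := by
    refine (extδ_surjective hS (ModuleCat.of R K) 0 (0 + 1) (by omega) (hExtF 0)).comp ?_
    exact (e0 M' K).surjective
  have hbp : Function.Exact (LinearMap.lcomp R K M'.subtype) p := by
    intro χ
    constructor
    · intro hχ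
      obtain ⟨x₂, hx₂⟩ := (extδ_exact hS (ModuleCat.of R K) 0 (0 + 1) (by omega) _).mp hχ
      obtain ⟨φ, rfl⟩ := (e0 (Fin b → R) K).surjective x₂
      refine ⟨φ, ?_⟩
      apply (e0 M' K).injective
      have hx₂' : (e0 M' K) χ = extf S (ModuleCat.of R K) 0 (e0 (Fin b → R) K φ) := hx₂.symm
      rw [hx₂', extf_apply, e0_apply, e0_apply, Ext.mk₀_comp_mk₀]
      rfl
    · rintro ⟨φ, rfl⟩
      show extδ hS (ModuleCat.of R K) 0 (0 + 1) (by omega) (e0 M' K (φ ∘ₗ M'.subtype)) = 0
      apply (extδ_exact hS (ModuleCat.of R K) 0 (0 + 1) (by omega) _).mpr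
      refine ⟨e0 (Fin b → R) K φ, ?_⟩
      rw [extf_apply, e0_apply, e0_apply, Ext.mk₀_comp_mk₀]
      rfl
  let e3 : (Ext.{u} (ModuleCat.of R M) (ModuleCat.of R K) (0 + 1) →ₗ[R] E) ≃ₗ[R]
      LinearMap.ker (LinearMap.lcomp R E (LinearMap.lcomp R K M'.subtype)) :=
    homEquivKerOfExact _ p hp hbp
  exact ⟨e3.trans e2.symm⟩

variable (hvan : ∀ j < n, Subsingleton ((localCohomology I j).obj (ModuleCat.of R R)))
  (hcog : ∀ (X : Type u) [AddCommGroup X] [Module R X], Subsingleton (X →ₗ[R] E) → Subsingleton X)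

include hn hE eK hvan hcog in
/-- `Ext^{n+1}(M, K) = 0` for every finite module `M`. -/
theorem subsingleton_ext_succ (M : Type u) [AddCommGroup M] [Module R M] [Module.Finite R M] :
    Subsingleton (Ext.{u} (ModuleCat.of R M) (ModuleCat.of R K) (n + 1)) := by
  obtain ⟨b, π, hπ⟩ := Module.Finite.exists_fin' R M
  let M' : Submodule R (Fin b → R) := LinearMap.ker π
  haveI : Module.Finite R M' := Module.IsNoetherian.finite R M'
  have hfg : Function.Exact M'.subtype π := LinearMap.exact_subtype_ker_map π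
  let S : ShortComplex (ModuleCat.{u} R) :=
    ModuleCat.shortComplexOfCompEqZero M'.subtype π hfg.linearMap_comp_eq_zero
  have hS : S.ShortExact :=
    { exact := ModuleCat.shortComplex_exact _ hfg
      mono_f := (ModuleCat.mono_iff_injective _).mpr M'.injective_subtype
      epi_g := (ModuleCat.epi_iff_surjective _).mpr hπ }
  have hinj0 : Injective ((localCohomology I 0).map (ModuleCat.ofHom M'.subtype)).hom :=
    map_f_injective_zero I hS
  rcases n with _ | k
  · -- `n = 0`
    obtain ⟨e⟩ := nonempty_extOne_dual_equiv I 0 hn hE eK π hπ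
    apply hcog
    refine e.toEquiv.subsingleton_congr.mpr ⟨fun x y => Subtype.ext ?_⟩
    have hx : ((localCohomology I 0).map (ModuleCat.ofHom M'.subtype)).hom x.1 = 0 := x.2
    have hy : ((localCohomology I 0).map (ModuleCat.ofHom M'.subtype)).hom y.1 = 0 := y.2
    exact hinj0 (hx.trans hy.symm)
  · -- `n = k + 1`
    have hF0 : Subsingleton ((localCohomology I 0).obj (ModuleCat.of R (Fin b → R))) :=
      subsingleton_obj_pi _ b (hvan 0 (Nat.succ_pos k))
    have hM'0 : Subsingleton ((localCohomology I 0).obj (ModuleCat.of R M')) :=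
      ⟨fun x y => hinj0 (Subsingleton.elim _ _)⟩
    obtain ⟨e⟩ := duality_ext I (k + 1) hn hvan hE eK (k + 1) le_rfl M'
    rw [Nat.sub_self] at e
    have h1 : Subsingleton (Ext.{u} (ModuleCat.of R M') (ModuleCat.of R K) (k + 1)) := by
      apply hcog
      exact e.symm.toEquiv.subsingleton_congr.mpr hM'0
    have hsurj := extδ_surjective hS (ModuleCat.of R K) (k + 1) (k + 1 + 1) (by omega)
      (Ext.subsingleton_of_projective _ _ (k + 1))
    refine ⟨fun x y => ?_⟩
    obtain ⟨x', rfl⟩ := hsurj x
    obtain ⟨y', rfl⟩ := hsurj y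
    rw [Subsingleton.elim x' y']

include hn hE eK hvan hcog in
/-- A canonical module has injective dimension at most `n`. -/
theorem hasInjectiveDimensionLT_succ : HasInjectiveDimensionLT (ModuleCat.of R K) (n + 1) :=
  Groth.Agent.Lib.Helper29.hasInjectiveDimensionLT_succ_of_ext_quotient R n (ModuleCat.of R K)
    (fun J => subsingleton_ext_succ I n hn hE eK hvan hcog (R ⧸ J))

end Main

end Groth.Agent.Lib.Helper2.LD
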