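import Groth.Agent.Lib.Helper2.Matlis3
import Mathlib.RingTheory.Nakayama

/-!
# Artinian modules over a Noetherian local ring (helper2)
-/

set_option autoImplicit false

namespace Groth.Agent.Lib.Helper2

open Function IsLocalRing

universe u

section

variable {R : Type u} [CommRing R] [IsLocalRing R] [IsNoetherianRing R]
variable {M : Type u} [AddCommGroup M] [Module R M]

/-- An Artinian module over a Noetherian local ring is `m`-power torsion. -/
theorem isPowerTorsion_of_isArtinian [IsArtinian R M] :
    LocCoh.IsPowerTorsion (maximalIdeal R) M := by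
  intro x
  let N : ℕ →o (Submodule R M)ᵒᵈ :=
    ⟨fun k => OrderDual.toDual (maximalIdeal R ^ k • Submodule.span R {x}), fun i j hij => by
      change maximalIdeal R ^ j • Submodule.span R {x} ≤ maximalIdeal R ^ i • Submodule.span R {x}
      exact Submodule.smul_mono (Ideal.pow_le_pow_right hij) le_rfl⟩
  obtain ⟨n, hn⟩ := IsArtinian.monotone_stabilizes N
  have h1 : maximalIdeal R ^ n • Submodule.span R {x} =
      maximalIdeal R ^ (n + 1) • Submodule.span R {x} :=
    OrderDual.toDual.injective (hn (n + 1) (Nat.le_succ n))
  have hfg : (maximalIdeal R ^ n • Submodule.span R {x}).FG :=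
    Submodule.FG.of_le (Submodule.fg_span_singleton x) Submodule.smul_le_right
  have hbot : maximalIdeal R ^ n • Submodule.span R {x} = ⊥ := by
    apply Submodule.eq_bot_of_le_smul_of_le_jacobson_bot (maximalIdeal R) _ hfg
    · conv_lhs => rw [h1, pow_succ', mul_smul]
    · exact IsLocalRing.maximalIdeal_le_jacobson ⊥
  refine ⟨n, fun a ha => ?_⟩
  have : a • x ∈ maximalIdeal R ^ n • Submodule.span R {x} :=
    Submodule.smul_mem_smul ha (Submodule.mem_span_singleton_self x)
  rw [hbot] at this
  exact (Submodule.mem_bot R).mp this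

theorem finite_socle_of_isArtinian [IsArtinian R M] :
    Module.Finite (R ⧸ maximalIdeal R) ↥(LocCoh.torsionBy (maximalIdeal R) M) := by
  letI : Field (R ⧸ maximalIdeal R) := Ideal.Quotient.field _
  have hA : IsArtinian (R ⧸ maximalIdeal R) ↥(LocCoh.torsionBy (maximalIdeal R) M) :=
    isArtinian_of_tower R
      (inferInstance : IsArtinian R ↥(Submodule.torsionBySet R M (maximalIdeal R : Set R)))
  have h := (IsArtinianRing.tfae (R := R ⧸ maximalIdeal R)
    (M := ↥(LocCoh.torsionBy (maximalIdeal R) M))).out 0 2
  exact h.mpr hA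

/-- A module over a Noetherian local ring is Artinian iff it is `m`-power torsion with
finite-dimensional socle. -/
theorem isArtinian_iff_isPowerTorsion_and_finite_socle :
    IsArtinian R M ↔ (LocCoh.IsPowerTorsion (maximalIdeal R) M ∧
      Module.Finite (R ⧸ maximalIdeal R) ↥(LocCoh.torsionBy (maximalIdeal R) M)) := by
  constructor
  · intro h
    exact ⟨isPowerTorsion_of_isArtinian, finite_socle_of_isArtinian⟩
  · rintro ⟨htors, hfin⟩
    obtain ⟨E, _, _, f, hf⟩ := exists_injectiveHull R (ResidueField R)
    haveI : IsArtinian R E := isArtinian_of_isInjectiveHull f hf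
    obtain ⟨g, hg⟩ := exists_injective_to_pi_of_socle_finrank f hf M htors _ rfl
    exact isArtinian_of_injective g hg

end

end Groth.Agent.Lib.Helper2
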