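import Groth.Agent.Lib.Helper2.LDTop
import Groth.Agent.Lib.Helper41.OldExt
import Mathlib.Algebra.Homology.DerivedCategory.Ext.Linear
import Mathlib.Algebra.Homology.DerivedCategory.Ext.EnoughProjectives
import Mathlib.Algebra.Category.ModuleCat.Projective
import Groth.Agent.Lib.Helper93.ReflexiveDepth
import Groth.Agent.S0318

/-!
# Local duality with a canonical module, when `H^j_m(R) = 0` for `j < n = dim R`
-/

set_option autoImplicit false
universe u

open Function CategoryTheory

namespace Groth.Agent.Lib.Helper2.LD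

open Groth.Agent.Lib.Helper2

section LinAlg

variable {R : Type u} [CommRing R]
  {A A' B B' X Q E : Type u} [AddCommGroup A] [Module R A] [AddCommGroup A'] [Module R A']
  [AddCommGroup B] [Module R B] [AddCommGroup B'] [Module R B'] [AddCommGroup X] [Module R X]
  [AddCommGroup Q] [Module R Q] [AddCommGroup E] [Module R E]

/-- Isomorphic maps have isomorphic kernels. -/
noncomputable def kerEquivOfComm (θA : A ≃ₗ[R] A') (θB : B ≃ₗ[R] B') (a : A →ₗ[R] B)
    (a' : A' →ₗ[R] B') (h : ∀ x, θB (a x) = a' (θA x)) :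
    LinearMap.ker a ≃ₗ[R] LinearMap.ker a' :=
  LinearEquiv.ofSubmodules θA (LinearMap.ker a) (LinearMap.ker a') (by
    ext y
    constructor
    · rintro ⟨x, hx, rfl⟩
      have hx' : a x = 0 := hx
      show a' (θA x) = 0
      rw [← h, hx', map_zero]
    · intro hy
      have hy' : a' y = 0 := hy
      refine ⟨θA.symm y, ?_, θA.apply_symm_apply y⟩
      show a (θA.symm y) = 0
      apply θB.injective
      rw [h, LinearEquiv.apply_symm_apply, map_zero, hy'])

/-- `0 → X → A → B` exact gives `X ≅ ker`. -/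
noncomputable def equivKerOfExact (d : X →ₗ[R] A) (a : A →ₗ[R] B) (hd : Injective d)
    (hda : Function.Exact d a) : X ≃ₗ[R] LinearMap.ker a :=
  (LinearEquiv.ofInjective d hd).trans (LinearEquiv.ofEq _ _ hda.linearMap_ker_eq.symm)

/-- `B' → A' → Q → 0` exact gives `Hom(Q,E) ≅ ker(Hom(A',E) → Hom(B',E))`. -/
noncomputable def homEquivKerOfExact (b : B' →ₗ[R] A') (p : A' →ₗ[R] Q) (hp : Surjective p)
    (hbp : Function.Exact b p) :
    (Q →ₗ[R] E) ≃ₗ[R] LinearMap.ker (LinearMap.lcomp R E b) :=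
  equivKerOfExact (LinearMap.lcomp R E p) (LinearMap.lcomp R E b)
    (by
      intro ψ ψ' h
      refine LinearMap.ext fun q => ?_
      obtain ⟨x, rfl⟩ := hp q
      exact LinearMap.congr_fun h x)
    (by
      intro χ
      constructor
      · intro hχ
        obtain ⟨φ, hφ⟩ := exists_factor_of_exact b p hp hbp χ hχ
        exact ⟨φ, hφ⟩
      · rintro ⟨ψ, rfl⟩
        show (ψ ∘ₗ p) ∘ₗ b = 0
        rw [LinearMap.comp_assoc, hbp.linearMap_comp_eq_zero, LinearMap.comp_zero])

end LinAlg

section ExtPart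

open CategoryTheory.Abelian

variable {R : Type u} [CommRing R] {S : ShortComplex (ModuleCat.{u} R)} (hS : S.ShortExact)
  (Y : ModuleCat.{u} R)

/-- The connecting map `Ext^i(X₁,Y) → Ext^{i+1}(X₃,Y)`, linear. -/
noncomputable def extδ (i j : ℕ) (h : 1 + i = j) : Ext.{u} S.X₁ Y i →ₗ[R] Ext.{u} S.X₃ Y j :=
  (Ext.bilinearCompOfLinear R S.X₃ S.X₁ Y 1 i j h) hS.extClass

theorem extδ_apply (i j : ℕ) (h : 1 + i = j) (x : Ext.{u} S.X₁ Y i) :
    extδ hS Y i j h x = hS.extClass.comp x h := rfl

/-- The restriction map `Ext^i(X₂,Y) → Ext^i(X₁,Y)`, linear. -/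
noncomputable def extf (S : ShortComplex (ModuleCat.{u} R)) (Y : ModuleCat.{u} R) (i : ℕ) :
    Ext.{u} S.X₂ Y i →ₗ[R] Ext.{u} S.X₁ Y i :=
  (Ext.bilinearCompOfLinear R S.X₁ S.X₂ Y 0 i i (zero_add i)) (Ext.mk₀ S.f)

theorem extf_apply (i : ℕ) (x : Ext.{u} S.X₂ Y i) :
    extf S Y i x = (Ext.mk₀ S.f).comp x (zero_add i) := rfl

theorem extδ_surjective (i j : ℕ) (h : 1 + i = j) (hsub : Subsingleton (Ext.{u} S.X₂ Y j)) :
    Surjective (extδ hS Y i j h) := by
  intro x₃
  obtain ⟨x₁, hx₁⟩ := Ext.contravariant_sequence_exact₃ hS Y x₃ (Subsingleton.elim _ _) h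
  exact ⟨x₁, hx₁⟩

theorem extδ_exact (i j : ℕ) (h : 1 + i = j) :
    Function.Exact (extf S Y i) (extδ hS Y i j h) := by
  intro x₁
  constructor
  · intro hx
    obtain ⟨x₂, hx₂⟩ := Ext.contravariant_sequence_exact₁ hS Y x₁ h hx
    exact ⟨x₂, hx₂⟩
  · rintro ⟨x₂, rfl⟩
    rw [extf_apply, extδ_apply]
    exact hS.extClass_comp_assoc x₂

theorem extδ_bijective (i j : ℕ) (h : 1 + i = j) (hsub : Subsingleton (Ext.{u} S.X₂ Y j))
    (hsub' : Subsingleton (Ext.{u} S.X₂ Y i)) : Bijective (extδ hS Y i j h) := by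
  refine ⟨?_, extδ_surjective hS Y i j h hsub⟩
  rw [injective_iff_map_eq_zero]
  intro x hx
  obtain ⟨x₂, rfl⟩ := (extδ_exact hS Y i j h x).mp hx
  rw [Subsingleton.elim x₂ 0, map_zero]

/-- `Hom(X,Y) ≅ Ext^0(X,Y)`. -/
noncomputable def e0 (X Y : Type u) [AddCommGroup X] [Module R X] [AddCommGroup Y] [Module R Y] :
    (X →ₗ[R] Y) ≃ₗ[R] Ext.{u} (ModuleCat.of R X) (ModuleCat.of R Y) 0 :=
  (ModuleCat.homLinearEquiv (S := R) (M := ModuleCat.of R X) (N := ModuleCat.of R Y)).symm.trans
    (Ext.linearEquiv₀ (R := R)).symm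

theorem e0_apply (X Y : Type u) [AddCommGroup X] [Module R X] [AddCommGroup Y] [Module R Y]
    (φ : X →ₗ[R] Y) : e0 X Y φ = Ext.mk₀ (ModuleCat.ofHom φ) := rfl

end ExtPart

section Main

open IsLocalRing Groth.Agent.Lib.Helper41.LC CategoryTheory.Abelian TensorProduct

variable {R : Type u} [CommRing R]

theorem subsingleton_obj_pi (Φ : ModuleCat.{u} R ⥤ ModuleCat.{u} R) [Φ.Additive] [Φ.Linear R]
    (b : ℕ) (h : Subsingleton (Φ.obj (ModuleCat.of R R))) :
    Subsingleton (Φ.obj (ModuleCat.of R (Fin b → R))) := by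
  refine ⟨fun x y => ?_⟩
  obtain ⟨t, rfl⟩ := (EW.ewMap_bijective_pi Φ b).2 x
  obtain ⟨t', rfl⟩ := (EW.ewMap_bijective_pi Φ b).2 y
  rw [Subsingleton.elim t t']

variable [IsNoetherianRing R] (I : Ideal R) (n : ℕ) (hn : ringKrullDim R ≤ n)
  (hvan : ∀ j < n, Subsingleton ((localCohomology I j).obj (ModuleCat.of R R)))
  {E : Type u} [AddCommGroup E] [Module R E] (hE : Module.Injective R E)
  {K : Type u} [AddCommGroup K] [Module R K]
  (eK : (K →ₗ[R] E) ≃ₗ[R] (localCohomology I n).obj (ModuleCat.of R R))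

include hn hvan hE eK in
/-- **Local duality** (for `Abelian.Ext`). -/
theorem duality_ext : ∀ (i : ℕ), i ≤ n → ∀ (M : Type u) [AddCommGroup M] [Module R M]
    [Module.Finite R M],
    Nonempty ((localCohomology I (n - i)).obj (ModuleCat.of R M) ≃ₗ[R]
      (Ext.{u} (ModuleCat.of R M) (ModuleCat.of R K) i →ₗ[R] E)) := by
  intro i
  induction i with
  | zero =>
    intro _ M _ _ _
    exact ⟨(topEquiv I n hn hE eK M).trans (LinearEquiv.congrLeft E R (e0 M K))⟩
  | succ i ih =>
    intro hi M _ _ _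
    obtain ⟨b, π, hπ⟩ := Module.Finite.exists_fin' R M
    let M' : Submodule R (Fin b → R) := LinearMap.ker π
    haveI : Module.Finite R M' := Module.IsNoetherian.finite R M'
    have hfg : Function.Exact M'.subtype π := LinearMap.exact_subtype_ker_map π
    let S : ShortComplex (ModuleCat.{u} R) :=
      ModuleCat.shortComplexOfCompEqZero M'.subtype π hfg.linearMap_comp_eq_zero
    have hS : S.ShortExact :=
      { exact := ModuleCat.shortComplex_exact _ hfg
        mono_f := (ModuleCat.mono_iff_injective _).mpr M'.injective_subtype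
        epi_g := (ModuleCat.epi_iff_surjective _).mpr hπ }
    have hF : ∀ j < n, Subsingleton ((localCohomology I j).obj (ModuleCat.of R (Fin b → R))) :=
      fun j hj => subsingleton_obj_pi _ b (hvan j hj)
    have hExtF : ∀ j : ℕ, Subsingleton
        (Ext.{u} (ModuleCat.of R (Fin b → R)) (ModuleCat.of R K) (j + 1)) :=
      fun j => Ext.subsingleton_of_projective _ _ j
    rcases i with _ | i
    · -- the case `i + 1 = 1`
      obtain ⟨k, rfl⟩ : ∃ k, n = k + 1 := ⟨n - 1, by omega⟩
      have hk : k + 1 - (0 + 1) = k := by omega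
      rw [hk]
      let d : (localCohomology I k).obj (ModuleCat.of R M) →ₗ[R]
          (localCohomology I (k + 1)).obj (ModuleCat.of R M') := δ I hS k (k + 1) rfl
      let a : (localCohomology I (k + 1)).obj (ModuleCat.of R M') →ₗ[R]
          (localCohomology I (k + 1)).obj (ModuleCat.of R (Fin b → R)) :=
        ((localCohomology I (k + 1)).map (ModuleCat.ofHom M'.subtype)).hom
      have hd : Injective d := by
        rw [injective_iff_map_eq_zero]
        intro x hx
        obtain ⟨x₂, rfl⟩ := exact₃ I hS k (k + 1) rfl x hx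
        haveI := hF k (Nat.lt_succ_self k)
        rw [Subsingleton.elim x₂ 0, map_zero]
      have hda : Function.Exact d a := by
        intro y
        constructor
        · intro hy
          exact exact₁ I hS k (k + 1) rfl y hy
        · rintro ⟨x, rfl⟩
          exact map_δ_eq_zero I hS k (k + 1) rfl x
      let e1 := equivKerOfExact d a hd hda
      let e2 : LinearMap.ker a ≃ₗ[R] LinearMap.ker (ddMap K E M'.subtype) :=
        kerEquivOfComm (topEquiv I (k + 1) hn hE eK M') (topEquiv I (k + 1) hn hE eK (Fin b → R))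
          a (ddMap K E M'.subtype)
          (fun x => topEquiv_naturality I (k + 1) hn hE eK M'.subtype x)
      -- the Ext side
      let p : (M' →ₗ[R] K) →ₗ[R] Ext.{u} (ModuleCat.of R M) (ModuleCat.of R K) (0 + 1) :=
        (extδ hS (ModuleCat.of R K) 0 (0 + 1) (by omega)) ∘ₗ (e0 M' K).toLinearMap
      have hp : Surjective p := by
        refine (extδ_surjective hS (ModuleCat.of R K) 0 (0 + 1) (by omega) (hExtF 0)).comp ?_
        exact (e0 M' K).surjective
      have hbp : Function.Exact (LinearMap.lcomp R K M'.subtype) p := by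
        intro χ
        constructor
        · intro hχ
          obtain ⟨x₂, hx₂⟩ := (extδ_exact hS (ModuleCat.of R K) 0 (0 + 1) (by omega) _).mp hχ
          obtain ⟨φ, rfl⟩ := (e0 (Fin b → R) K).surjective x₂
          refine ⟨φ, ?_⟩
          apply (e0 M' K).injective
          have hx₂' : (e0 M' K) χ = extf S (ModuleCat.of R K) 0 (e0 (Fin b → R) K φ) := hx₂.symm
          rw [hx₂', extf_apply, e0_apply, e0_apply, Ext.mk₀_comp_mk₀]
          rfl
        · rintro ⟨φ, rfl⟩
          show extδ hS (ModuleCat.of R K) 0 (0 + 1) (by omega) (e0 M' K (φ ∘ₗ M'.subtype)) = 0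
          apply (extδ_exact hS (ModuleCat.of R K) 0 (0 + 1) (by omega) _).mpr
          refine ⟨e0 (Fin b → R) K φ, ?_⟩
          rw [extf_apply, e0_apply, e0_apply, Ext.mk₀_comp_mk₀]
          rfl
      let e3 : (Ext.{u} (ModuleCat.of R M) (ModuleCat.of R K) (0 + 1) →ₗ[R] E) ≃ₗ[R]
          LinearMap.ker (LinearMap.lcomp R E (LinearMap.lcomp R K M'.subtype)) :=
        homEquivKerOfExact _ p hp hbp
      exact ⟨e1.trans (e2.trans e3.symm)⟩
    · -- the case `i + 2`
      have hlt : n - (i + 1 + 1) + 1 = n - (i + 1) := by omega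
      have h1 : n - (i + 1 + 1) < n := by omega
      have h2 : n - (i + 1) < n := by omega
      let d : (localCohomology I (n - (i + 1 + 1))).obj (ModuleCat.of R M) →ₗ[R]
          (localCohomology I (n - (i + 1))).obj (ModuleCat.of R M') :=
        δ I hS (n - (i + 1 + 1)) (n - (i + 1)) hlt
      have hd : Bijective d := by
        constructor
        · rw [injective_iff_map_eq_zero]
          intro x hx
          obtain ⟨x₂, rfl⟩ := exact₃ I hS _ _ hlt x hx
          haveI := hF _ h1
          rw [Subsingleton.elim x₂ 0, map_zero]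
        · intro y
          haveI := hF _ h2
          exact exact₁ I hS _ _ hlt y (Subsingleton.elim _ _)
      obtain ⟨eih⟩ := ih (by omega) M'
      have hδ : Bijective (extδ hS (ModuleCat.of R K) (i + 1) (i + 1 + 1) (by omega)) :=
        extδ_bijective hS _ _ _ _ (hExtF (i + 1)) (hExtF i)
      exact ⟨(LinearEquiv.ofBijective d hd).trans (eih.trans
        (LinearEquiv.congrLeft E R (LinearEquiv.ofBijective _ hδ)))⟩

/-- Local cohomology of `R` vanishes below `depth R`. -/
theorem subsingleton_localCohomology_of_lt_depth [IsLocalRing R] (n : ℕ)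
    (hdepth : (n : ℕ∞) ≤ LocCoh.depth R R) (j : ℕ) (hj : j < n) :
    Subsingleton ((localCohomology (maximalIdeal R) j).obj (ModuleCat.of R R)) := by
  have hIM : maximalIdeal R • (⊤ : Submodule R R) ≠ ⊤ := by
    rw [smul_eq_mul, Ideal.mul_top]
    exact (maximalIdeal.isMaximal R).ne_top
  obtain ⟨rs, hreg, hmem, hlen⟩ :=
    Groth.Agent.Lib.Helper93.ReflexiveDepth.exists_regular_of_le_idealDepth (maximalIdeal R) R n
      hdepth hIM
  exact Groth.Agent.S0318.vanish_below (maximalIdeal R) R rs hreg hmem j (lt_of_lt_of_le hj hlen)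

/-- **Local duality**, old-style `Ext`, under `depth R ≥ n ≥ dim R`. -/
theorem duality_oldExt [IsLocalRing R] (n : ℕ) (hn : ringKrullDim R ≤ n)
    (hdepth : (n : ℕ∞) ≤ LocCoh.depth R R)
    {E : Type u} [AddCommGroup E] [Module R E] (hE : Module.Injective R E)
    {K : Type u} [AddCommGroup K] [Module R K]
    (eK : (K →ₗ[R] E) ≃ₗ[R] (localCohomology (maximalIdeal R) n).obj (ModuleCat.of R R))
    (i : ℕ) (hi : i ≤ n) (M : Type u) [AddCommGroup M] [Module R M] [Module.Finite R M] :
    Nonempty ((localCohomology (maximalIdeal R) (n - i)).obj (ModuleCat.of R M) ≃ₗ[R]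
      ((((_root_.Ext R (ModuleCat.{u} R) i).obj (Opposite.op (ModuleCat.of R M))).obj
        (ModuleCat.of R K)) →ₗ[R] E)) := by
  obtain ⟨e⟩ := duality_ext (maximalIdeal R) n hn
    (subsingleton_localCohomology_of_lt_depth n hdepth) hE eK i hi M
  exact ⟨e.trans (LinearEquiv.congrLeft E R
    (Groth.Agent.Lib.Helper41.OldExt.oldNew i (ModuleCat.of R M) (ModuleCat.of R K)).symm)⟩

end Main

end Groth.Agent.Lib.Helper2.LD
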