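import Groth.Agent.Lib.Helper2.CanonAss
import Groth.Agent.Lib.Helper2.CanonEnd
import Groth.Agent.Lib.Helper2.LDCM
import Groth.Agent.Lib.Helper29.Depth
import Groth.Agent.Lib.Helper2.CanonReg
import Groth.Agent.S11553
import Groth.Agent.S7700
import Mathlib.Algebra.Module.FinitePresentation
import Mathlib.RingTheory.Localization.Module
import Mathlib.LinearAlgebra.Dual.Lemmas

/-!
# The canonical module of a Cohen–Macaulay local domain is an ideal

For a CM local domain `A` with canonical module `K`: `K ≅ A`, or `K ≅ I` for a proper ideal `I`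
such that all associated primes of `A/I` have height one.
-/

set_option autoImplicit false
universe u

open Function CategoryTheory IsLocalRing

namespace Groth.Agent.Lib.Helper2.CanonIdeal

open Groth.Agent.Lib.Helper2

section TorsionFree

variable {A : Type u} [CommRing A] [IsDomain A] {X : Type u} [AddCommGroup X] [Module A X]

/-- A finite torsion-free module of "rank one" embeds in the ring. -/
theorem exists_injective_to_ring [Module.Finite A X]
    (htf : ∀ (a : A) (x : X), a • x = 0 → a = 0 ∨ x = 0)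
    (x₀ : X) (hx₀ : x₀ ≠ 0) (hrk : ∀ x : X, ∃ a : A, a ≠ 0 ∧ ∃ b : A, a • x = b • x₀) :
    ∃ θ : X →ₗ[A] A, Injective θ := by
  classical
  obtain ⟨G, hG⟩ := (Module.Finite.fg_top : (⊤ : Submodule A X).FG)
  choose a ha b hb using hrk
  obtain ⟨c, hc⟩ : ∃ c : A, c = ∏ g ∈ G, a g := ⟨_, rfl⟩
  have hc0 : c ≠ 0 := by
    rw [hc]
    exact Finset.prod_ne_zero_iff.mpr fun g _ => ha g
  let μ : A →ₗ[A] X := LinearMap.toSpanSingleton A X x₀
  have hμinj : Injective μ := by
    intro b1 b2 h
    have h' : (b1 - b2) • x₀ = 0 := by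
      rw [sub_smul]
      exact sub_eq_zero.mpr h
    rcases htf _ _ h' with h0 | h0
    · exact sub_eq_zero.mp h0
    · exact absurd h0 hx₀
  have hmem : ∀ x : X, (c • (LinearMap.id : X →ₗ[A] X)) x ∈ LinearMap.range μ := by
    intro x
    have hx : x ∈ Submodule.span A (G : Set X) := by rw [hG]; trivial
    rw [LinearMap.smul_apply, LinearMap.id_apply]
    refine Submodule.span_induction ?_ ?_ ?_ ?_ hx
    · intro g hg
      obtain ⟨k, hk⟩ := Finset.dvd_prod_of_mem a hg
      refine ⟨k * b g, ?_⟩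
      show (k * b g) • x₀ = c • g
      rw [mul_smul, ← hb g, smul_smul, hc, hk, mul_comm]
    · rw [smul_zero]; exact zero_mem _
    · intro x y _ _ hx hy
      rw [smul_add]; exact add_mem hx hy
    · intro r x _ hx
      rw [smul_comm]; exact Submodule.smul_mem _ r hx
  let θ : X →ₗ[A] A := (LinearEquiv.ofInjective μ hμinj).symm.toLinearMap ∘ₗ
    (LinearMap.codRestrict (LinearMap.range μ) (c • (LinearMap.id : X →ₗ[A] X)) hmem)
  refine ⟨θ, ?_⟩
  intro x y h
  have h1 := (LinearEquiv.ofInjective μ hμinj).symm.injective h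
  have h2 : c • x = c • y := congrArg Subtype.val h1
  have h3 : c • (x - y) = 0 := by rw [smul_sub]; exact sub_eq_zero.mpr h2
  rcases htf _ _ h3 with h0 | h0
  · exact absurd h0 hc0
  · exact sub_eq_zero.mp h0

/-- If every endomorphism of a finite torsion-free module is a scalar, the module has rank one. -/
theorem rank_one_of_end [IsNoetherianRing A] [Module.Finite A X]
    (htf : ∀ (a : A) (x : X), a • x = 0 → a = 0 ∨ x = 0)
    (hend : Surjective (fun r : A => r • (LinearMap.id : X →ₗ[A] X)))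
    (x₀ : X) (hx₀ : x₀ ≠ 0) :
    ∀ x : X, ∃ a : A, a ≠ 0 ∧ ∃ b : A, a • x = b • x₀ := by
  intro x
  haveI : Module.FinitePresentation A X := Module.finitePresentation_of_finite A X
  have hS0 : ∀ u : nonZeroDivisors A, (u : A) ≠ 0 := fun u => nonZeroDivisors.coe_ne_zero u
  have hv : (LocalizedModule.mk x₀ 1 : LocalizedModule (nonZeroDivisors A) X) ≠ 0 := by
    intro h
    rw [← LocalizedModule.zero_mk (1 : nonZeroDivisors A)] at h
    obtain ⟨u, hu⟩ := LocalizedModule.mk_eq.mp h
    rw [one_smul, one_smul, smul_zero] at hu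
    rcases htf _ _ hu with h0 | h0
    · exact hS0 u h0
    · exact hx₀ h0
  obtain ⟨lam, hlam⟩ := Module.Projective.exists_dual_ne_zero (FractionRing A) hv
  let ψ : LocalizedModule (nonZeroDivisors A) X →ₗ[FractionRing A]
      LocalizedModule (nonZeroDivisors A) X := lam.smulRight (LocalizedModule.mk x 1)
  obtain ⟨⟨φ, s⟩, hφ⟩ := IsLocalizedModule.surj (nonZeroDivisors A)
    (LocalizedModule.map (nonZeroDivisors A) (M := X) (N := X)) ψ
  obtain ⟨a, ha⟩ := hend φ
  have h1 := LinearMap.congr_fun hφ (LocalizedModule.mk x₀ 1)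
  simp only at h1
  rw [Submonoid.smul_def, LinearMap.smul_apply, LocalizedModule.map_mk, ← ha,
    LinearMap.smul_apply, LinearMap.id_apply, LinearMap.smulRight_apply] at h1
  -- h1 : (s : A) • (lam v • mk x 1) = mk (a • x₀) 1
  obtain ⟨b', t, hbt⟩ := IsLocalization.exists_mk'_eq (nonZeroDivisors A)
    (lam (LocalizedModule.mk x₀ 1))
  have hb' : b' ≠ 0 := by
    intro h0
    apply hlam
    rw [← hbt, h0, IsLocalization.mk'_zero]
  have h2 : (t : A) • (lam (LocalizedModule.mk x₀ 1) •
      (LocalizedModule.mk x 1 : LocalizedModule (nonZeroDivisors A) X)) =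
      LocalizedModule.mk (b' • x) 1 := by
    rw [← smul_assoc, Algebra.smul_def, ← hbt, IsLocalization.mk'_spec', algebraMap_smul,
      LocalizedModule.smul'_mk]
  have h3 : (LocalizedModule.mk ((s : A) • b' • x) 1 : LocalizedModule (nonZeroDivisors A) X) =
      LocalizedModule.mk ((t : A) • a • x₀) 1 := by
    rw [← LocalizedModule.smul'_mk, ← h2, smul_comm, h1, LocalizedModule.smul'_mk]
  obtain ⟨u, hu⟩ := LocalizedModule.mk_eq.mp h3
  rw [one_smul, one_smul] at hu
  refine ⟨(u : A) * ((s : A) * b'), ?_, (u : A) * ((t : A) * a), ?_⟩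
  · exact mul_ne_zero (hS0 u) (mul_ne_zero (hS0 s) hb')
  · rw [mul_smul, mul_smul, mul_smul, mul_smul]
    exact hu

end TorsionFree

section Canon

open Groth.Agent.Lib.Helper41.LC Groth.Agent.Lib.Helper29

variable (A : Type u) [CommRing A] [IsDomain A] [LocCoh.IsCohenMacaulayLocalRing A] (d : ℕ)
  (hd : ringKrullDim A = d)
  {E : Type u} [AddCommGroup E] [Module A E] (f : ResidueField A →ₗ[A] E)
  (hf : InjHull.IsInjectiveHull f)
  {K : Type u} [AddCommGroup K] [Module A K] [Module.Finite A K]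
  (eK : (K →ₗ[A] E) ≃ₗ[A] LocCoh.H (maximalIdeal A) d A)

include hd hf eK in
/-- The canonical module of a CM local domain is torsion-free. -/
theorem torsionFree : ∀ (a : A) (x : K), a • x = 0 → a = 0 ∨ x = 0 := by
  intro a x hax
  by_contra hcon
  push Not at hcon
  obtain ⟨ha, hx⟩ := hcon
  obtain ⟨P, hP, hle⟩ := exists_le_isAssociatedPrime_of_isNoetherianRing A x hx
  have haP : a ∈ P :=
    hle (by rw [Submodule.mem_colon_singleton, Submodule.mem_bot]; exact hax)
  have hPmem : P ∈ associatedPrimes A K := hP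
  rw [CanonAss.associatedPrimes_eq d hd f hf eK] at hPmem
  obtain ⟨hPprime, hPdim⟩ := hPmem
  have hbot : (⊥ : Ideal A) < P := by
    rw [bot_lt_iff_ne_bot]
    intro h
    rw [h] at haP
    exact ha ((Ideal.mem_bot).mp haP)
  haveI : (⊥ : Ideal A).IsPrime := Ideal.bot_prime
  have h1 := CanonAss.dim_quotient_add_one_le (⊥ : Ideal A) P hbot
  rw [hPdim, ringKrullDim_eq_of_ringEquiv (RingEquiv.quotientBot A), hd] at h1
  have h2 : ((d + 1 : ℕ) : WithBot ℕ∞) ≤ (d : ℕ) := by exact_mod_cast h1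
  have h3 : d + 1 ≤ d := by exact_mod_cast h2
  omega

include hd hf eK in
/-- **The canonical module of a Cohen–Macaulay local domain is (isomorphic to) an ideal**, either
the unit ideal or a proper ideal that is unmixed of height one. -/
theorem canon_equiv_ideal :
    Nonempty (K ≃ₗ[A] A) ∨ ∃ I : Ideal A, I ≠ ⊤ ∧
      (∀ q ∈ associatedPrimes A (A ⧸ I), q.height = 1) ∧ Nonempty (K ≃ₗ[A] I) := by
  have htf := torsionFree A d hd f hf eK
  haveI : Nontrivial K := CanonReg.nontrivial_canon d hd eK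
  obtain ⟨x₀, hx₀⟩ := exists_ne (0 : K)
  have hend := (CanonEnd.toEnd_bijective d A hd E f hf K eK).2
  have hrk := rank_one_of_end htf hend x₀ hx₀
  obtain ⟨θ, hθ⟩ := exists_injective_to_ring htf x₀ hx₀ hrk
  obtain ⟨I, hIdef⟩ : ∃ I : Ideal A, I = LinearMap.range θ := ⟨_, rfl⟩
  let e : K ≃ₗ[A] I := (LinearEquiv.ofInjective θ hθ).trans (LinearEquiv.ofEq _ _ hIdef.symm)
  by_cases hI : I = ⊤
  · left
    exact ⟨e.trans ((LinearEquiv.ofEq I ⊤ hI).trans Submodule.topEquiv)⟩
  right
  refine ⟨I, hI, ?_, ⟨e⟩⟩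
  -- depth and vanishing for `A` and `K`
  have hdimA : Module.supportDim A A = d := by
    rw [Module.supportDim_self_eq_ringKrullDim, hd]
  have hdepthA : LocCoh.depth A A = d := by
    have h1 := LocCoh.IsCohenMacaulayLocalRing.supportDim_eq_depth (R := A)
    rw [hdimA] at h1
    have h2 : ((d : ℕ∞) : WithBot ℕ∞) = ((LocCoh.depth A A : ℕ∞) : WithBot ℕ∞) := by
      exact_mod_cast h1
    exact (WithBot.coe_injective h2).symm
  have hvanA := LD.subsingleton_localCohomology_of_lt_depth (R := A) d (le_of_eq hdepthA.symm)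
  obtain ⟨-, -, hKCM, hKdim⟩ := Groth.Agent.S7700.result A d hd E f hf K eK
  have hdepthK : LocCoh.depth A K = d := by
    rw [LocCoh.IsCohenMacaulayModule, hKdim] at hKCM
    have h2 : ((d : ℕ∞) : WithBot ℕ∞) = ((LocCoh.depth A K : ℕ∞) : WithBot ℕ∞) := by
      exact_mod_cast hKCM
    exact (WithBot.coe_injective h2).symm
  have hIK : maximalIdeal A • (⊤ : Submodule A K) ≠ ⊤ := maximalIdeal_smul_top_ne_top A K
  have hvanK := ((Groth.Agent.S0318.result A (maximalIdeal A) K hIK d).mp hdepthK).1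
  -- the short exact sequence `0 → I → A → A/I → 0`
  have hqs : Function.Surjective (Submodule.mkQ I : A →ₗ[A] A ⧸ I) := Submodule.mkQ_surjective _
  have hS := LinearMap.shortExact_shortComplexKer hqs
  let eker : K ≃ₗ[A] LinearMap.ker (Submodule.mkQ I : A →ₗ[A] A ⧸ I) :=
    e.trans (LinearEquiv.ofEq _ _ (Submodule.ker_mkQ I).symm)
  have hvanKer : ∀ j < d, Subsingleton ((localCohomology (maximalIdeal A) j).obj
      (ModuleCat.of A (LinearMap.ker (Submodule.mkQ I : A →ₗ[A] A ⧸ I)))) := by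
    intro j hj
    haveI := hvanK j hj
    exact (((localCohomology (maximalIdeal A) j).mapIso
      eker.toModuleIso).toLinearEquiv.toEquiv.subsingleton_congr).mp inferInstance
  have hvanN : ∀ j, j + 1 < d → Subsingleton ((localCohomology (maximalIdeal A) j).obj
      (ModuleCat.of A (A ⧸ I))) := by
    intro j hj
    have key : ∀ z : (localCohomology (maximalIdeal A) j).obj (ModuleCat.of A (A ⧸ I)),
        z = 0 := by
      intro z
      haveI := hvanKer (j + 1) hj
      obtain ⟨z₂, rfl⟩ := exact₃ (maximalIdeal A) hS j (j + 1) rfl z (Subsingleton.elim _ _)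
      haveI := hvanA j (by omega)
      rw [Subsingleton.elim z₂ 0, map_zero]
    exact ⟨fun x y => by rw [key x, key y]⟩
  haveI : Nontrivial (A ⧸ I) := Ideal.Quotient.nontrivial_iff.mpr hI
  have hIN : maximalIdeal A • (⊤ : Submodule A (A ⧸ I)) ≠ ⊤ :=
    maximalIdeal_smul_top_ne_top A (A ⧸ I)
  have hne := DepthLib.depth_ne_top A (A ⧸ I)
  obtain ⟨t₀, ht₀⟩ : ∃ t₀ : ℕ, LocCoh.depth A (A ⧸ I) = t₀ := ⟨_, (ENat.coe_toNat hne).symm⟩
  have ht₀' : d ≤ t₀ + 1 := by
    by_contra hlt
    push Not at hlt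
    have h := ((Groth.Agent.S0318.result A (maximalIdeal A) (A ⧸ I) hIN t₀).mp ht₀).2
    haveI := h
    exact not_subsingleton (LocCoh.H (maximalIdeal A) t₀ (A ⧸ I)) (hvanN t₀ hlt)
  have hI0 : I ≠ ⊥ := by
    intro h0
    apply hx₀
    have h1 : (e x₀ : A) = 0 := (Ideal.mem_bot).mp (h0.le (e x₀).2)
    have h2 : e x₀ = 0 := Subtype.ext h1
    exact e.injective (by rw [h2, map_zero])
  intro q hq
  haveI hqp : q.IsPrime := hq.isPrime
  have hdq := DepthLib.depth_le_ringKrullDim_quotient A (A ⧸ I) hq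
  rw [ht₀] at hdq
  have h1 := Groth.Agent.S11553.height_add_dim_quotient_le A q
  rw [hd] at h1
  have h2 : (q.height : WithBot ℕ∞) + ((t₀ : ℕ∞) : WithBot ℕ∞) ≤ ((d : ℕ∞) : WithBot ℕ∞) :=
    (add_le_add le_rfl hdq).trans h1
  have h3 : q.height + (t₀ : ℕ∞) ≤ (d : ℕ∞) := by exact_mod_cast h2
  have h4 : q.height ≤ 1 := by
    have h5 : q.height + (t₀ : ℕ∞) ≤ 1 + (t₀ : ℕ∞) := by
      refine h3.trans ?_
      have : d ≤ 1 + t₀ := by omega
      exact_mod_cast this
    exact (ENat.add_le_add_iff_right (ENat.coe_ne_top t₀)).mp h5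
  have hIq : I ≤ q := by
    have h5 := hq.annihilator_le
    rwa [Submodule.annihilator_top, Ideal.annihilator_quotient] at h5
  have hq0 : (⊥ : Ideal A) < q := by
    rw [bot_lt_iff_ne_bot]
    intro h
    rw [h] at hIq
    exact hI0 (le_bot_iff.mp hIq)
  haveI : (⊥ : Ideal A).IsPrime := Ideal.bot_prime
  have h6 := Ideal.height_add_one_le_of_lt_of_isPrime hq0
  have h7 : (1 : ℕ∞) ≤ q.height := le_trans (le_add_self) h6
  exact le_antisymm h4 h7

end Canon

end Groth.Agent.Lib.Helper2.CanonIdeal
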