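import Groth.Agent.Lib.Helper2.InjHull
import Mathlib.Algebra.Module.Torsion.Basic

/-!
# Injective hulls over a quotient ring (helper2)

`(0 :_E b)` is an injective hull of `M` over `R/b`, if `E` is an injective hull over `R` of the
`R/b`-module `M`.
-/

set_option autoImplicit false

namespace Groth.Agent.Lib.Helper2

open Function

universe u v

section Quot

variable {R : Type u} [CommRing R] (b : Ideal R)

/-- The `b`-torsion of an injective `R`-module is an injective `R/b`-module. -/
theorem injective_torsionBySet {E : Type v} [AddCommGroup E] [Module R E]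
    (hE : Module.Injective R E) : Module.Injective (R ⧸ b) ↥(Submodule.torsionBySet R E (b : Set R)) := by
  refine ⟨fun X Y _ _ _ _ a ha h => ?_⟩
  letI : Module R X := Module.compHom X (Ideal.Quotient.mk b)
  letI : Module R Y := Module.compHom Y (Ideal.Quotient.mk b)
  haveI : IsScalarTower R (R ⧸ b) X := IsScalarTower.of_algebraMap_smul fun r x => rfl
  haveI : IsScalarTower R (R ⧸ b) Y := IsScalarTower.of_algebraMap_smul fun r x => rfl
  obtain ⟨k, hk⟩ := hE.out (a.restrictScalars R) ha
    ((Submodule.torsionBySet R E (b : Set R)).subtype ∘ₗ h.restrictScalars R)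
  have hmem : ∀ y : Y, k y ∈ Submodule.torsionBySet R E (b : Set R) := by
    intro y
    rw [Submodule.mem_torsionBySet_iff]
    rintro ⟨r, hr⟩
    change r • k y = 0
    rw [← map_smul]
    have : r • y = 0 := by
      change (Ideal.Quotient.mk b r) • y = 0
      rw [Ideal.Quotient.eq_zero_iff_mem.mpr hr, zero_smul]
    rw [this, map_zero]
  refine ⟨LinearMap.extendScalarsOfSurjective Ideal.Quotient.mk_surjective
    (LinearMap.codRestrict _ k hmem), fun x => ?_⟩
  apply Subtype.ext
  have := hk x
  simpa using this

variable {M E : Type v} [AddCommGroup M] [Module R M] [Module (R ⧸ b) M]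
  [IsScalarTower R (R ⧸ b) M] [AddCommGroup E] [Module R E]

theorem smul_eq_zero_of_mem_of_quotient_module {r : R} (hr : r ∈ b) (x : M) : r • x = 0 := by
  have h1 : r • x = (Ideal.Quotient.mk b r) • x := by
    rw [← Ideal.Quotient.algebraMap_eq, algebraMap_smul]
  rw [h1, Ideal.Quotient.eq_zero_iff_mem.mpr hr, zero_smul]

/-- `(0 :_E b)` is an injective hull of `M` over `R/b`. -/
theorem exists_isInjectiveHull_torsionBySet (f : M →ₗ[R] E) (hf : InjHull.IsInjectiveHull f) :
    ∃ g : M →ₗ[R ⧸ b] ↥(Submodule.torsionBySet R E (b : Set R)),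
      InjHull.IsInjectiveHull g ∧ ∀ x : M, ((g x : Submodule.torsionBySet R E (b : Set R)) : E) = f x := by
  have hmem : ∀ x : M, f x ∈ Submodule.torsionBySet R E (b : Set R) := by
    intro x
    rw [Submodule.mem_torsionBySet_iff]
    rintro ⟨r, hr⟩
    change r • f x = 0
    rw [← map_smul, smul_eq_zero_of_mem_of_quotient_module b hr, map_zero]
  refine ⟨LinearMap.extendScalarsOfSurjective Ideal.Quotient.mk_surjective
    (LinearMap.codRestrict _ f hmem), isInjectiveHull_mk ?_ ?_ (injective_torsionBySet b hf.isInjective),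
    fun x => rfl⟩
  · intro x y hxy
    apply hf.injective
    have := congrArg Subtype.val hxy
    simpa using this
  · intro x hx
    have hx0 : (x : E) ≠ 0 := fun h => hx (Subtype.ext h)
    obtain ⟨r, hr0, ⟨m, hm⟩⟩ := hf.toIsEssentialInj.essElt (x : E) hx0
    refine ⟨Ideal.Quotient.mk b r, ?_, ⟨m, ?_⟩⟩
    · rw [Submodule.torsionBySet.mk_smul]
      intro h
      exact hr0 (by simpa using congrArg Subtype.val h)
    · rw [Submodule.torsionBySet.mk_smul]
      apply Subtype.ext
      simpa using hm

end Quot

end Groth.Agent.Lib.Helper2
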