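import Groth.Agent.Lib.Helper2.GorHull
import Groth.Agent.Lib.Helper2.InjHull5
import Groth.Agent.Lib.Helper29.Depth

/-!
# Gorenstein local rings via local cohomology

`A` (Noetherian local) is Gorenstein iff for some `d`, `H^i_m(A) = 0` for `i ≠ d` and `H^d_m(A)` is
injective.
-/

set_option autoImplicit false
universe u

open Function CategoryTheory IsLocalRing

namespace Groth.Agent.Lib.Helper2

section LES

open Groth.Agent.Lib.Helper41.LC

variable {R : Type u} [CommRing R] (I : Ideal R) (M : ModuleCat.{u} R) (x : R)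

/-- `H^i(M/xM) = 0` if `x` is surjective on `H^i(M)` and `H^{i+1}(M) = 0`. -/
theorem subsingleton_quot_of_surjective (hreg : IsSMulRegular M x) (i : ℕ)
    (hs : Surjective (fun w : (localCohomology I i).obj M => x • w))
    (h1 : Subsingleton ((localCohomology I (i + 1)).obj M)) :
    Subsingleton ((localCohomology I i).obj (ModuleCat.of R (QuotSMulTop x M))) := by
  have hS : (M.smulShortComplex x).ShortExact := hreg.smulShortComplex_shortExact
  refine ⟨fun a b => ?_⟩
  have key : ∀ y : (localCohomology I i).obj (ModuleCat.of R (QuotSMulTop x M)), y = 0 := by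
    intro y
    have hδ : δ I hS i (i + 1) rfl y = 0 :=
      Subsingleton.elim (α := (localCohomology I (i + 1)).obj M) _ _
    obtain ⟨z, rfl⟩ := exact₃ I hS i (i + 1) rfl y hδ
    obtain ⟨z', hz'⟩ := hs z
    have h2 := map_smul_id I i M x z'
    have h3 : ((localCohomology I i).map (M.smulShortComplex x).f).hom z' = z := h2.trans hz'
    rw [← h3]
    exact map_map_eq_zero I (S := M.smulShortComplex x) i z'
  rw [key a, key b]

/-- `H^i(M/xM) = 0` if `H^i(M) = 0 = H^{i+1}(M)`. -/
theorem subsingleton_quot_of_subsingleton (hreg : IsSMulRegular M x) (i : ℕ)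
    (h0 : Subsingleton ((localCohomology I i).obj M))
    (h1 : Subsingleton ((localCohomology I (i + 1)).obj M)) :
    Subsingleton ((localCohomology I i).obj (ModuleCat.of R (QuotSMulTop x M))) :=
  subsingleton_quot_of_surjective I M x hreg i
    (fun w => ⟨0, Subsingleton.elim (α := (localCohomology I i).obj M) _ _⟩) h1

end LES

/-- Injective modules are divisible by regular elements. -/
theorem smul_surjective_of_injective {A : Type u} [CommRing A] (x : A) (hreg : IsSMulRegular A x)
    (E : Type u) [AddCommGroup E] [Module A E] (hE : Module.Injective A E) :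
    Surjective (fun e : E => x • e) := by
  intro e
  obtain ⟨h, hh⟩ := hE.out (LinearMap.lsmul A A x) hreg (LinearMap.toSpanSingleton A E e)
  refine ⟨h 1, ?_⟩
  have := hh 1
  rw [LinearMap.lsmul_apply, LinearMap.toSpanSingleton_apply, one_smul] at this
  show x • h 1 = e
  rw [← map_smul, smul_eq_mul, mul_one]
  have h2 : x • (1 : A) = x := by rw [smul_eq_mul, mul_one]
  rw [h2] at this
  exact this

/-- In a local ring, a nonzero direct summand ideal is everything. -/
theorem eq_top_of_isCompl_of_ne_bot {A : Type u} [CommRing A] [IsLocalRing A] (T C : Ideal A)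
    (hC : IsCompl T C) (hT : T ≠ ⊥) : T = ⊤ := by
  by_contra hne
  have h1 : T ≤ maximalIdeal A := IsLocalRing.le_maximalIdeal hne
  have hCne : C ≠ ⊤ := by
    intro h
    apply hT
    have := hC.inf_eq_bot
    rwa [h, inf_top_eq] at this
  have h2 : C ≤ maximalIdeal A := IsLocalRing.le_maximalIdeal hCne
  have h3 : (⊤ : Ideal A) ≤ maximalIdeal A := by
    rw [← hC.sup_eq_top]; exact sup_le h1 h2
  exact (maximalIdeal.isMaximal A).ne_top (top_le_iff.mp h3)

open Groth.Agent.Lib.Helper41.LC in
/-- **Descent step** for the local cohomology criterion. -/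
theorem localCohomology_quotient_of_regular (A : Type u) [CommRing A] [IsLocalRing A]
    [IsNoetherianRing A] (x : A) (hreg : IsSMulRegular A x) (d : ℕ)
    [IsLocalRing (A ⧸ Ideal.span {x})]
    (hvan : ∀ i : ℕ, i ≠ d + 1 → Subsingleton (LocCoh.H (maximalIdeal A) i A))
    (hinj : Module.Injective A (LocCoh.H (maximalIdeal A) (d + 1) A)) :
    (∀ i : ℕ, i ≠ d → Subsingleton (LocCoh.H (maximalIdeal (A ⧸ Ideal.span {x})) i
      (A ⧸ Ideal.span {x}))) ∧
    Module.Injective (A ⧸ Ideal.span {x}) (LocCoh.H (maximalIdeal (A ⧸ Ideal.span {x})) d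
      (A ⧸ Ideal.span {x})) := by
  -- independence of base, for all degrees
  have hbase : ∀ i : ℕ, ∃ ψ : (localCohomology (maximalIdeal (A ⧸ Ideal.span {x})) i).obj
      (ModuleCat.of (A ⧸ Ideal.span {x}) (A ⧸ Ideal.span {x})) ≃+
      (localCohomology (maximalIdeal A) i).obj (ModuleCat.of A (A ⧸ Ideal.span {x})),
      ∀ (r : A) y, ψ (algebraMap A (A ⧸ Ideal.span {x}) r • y) = r • ψ y := by
    intro i
    have := Groth.Agent.Lib.Helper58.LCBase.exists_addEquiv (R' := A ⧸ Ideal.span {x})
      (maximalIdeal A) i (A ⧸ Ideal.span {x})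
    rwa [map_maximalIdeal_quotient (Ideal.span {x})] at this
  constructor
  · intro i hi
    obtain ⟨ψ, -⟩ := hbase i
    have h1 : Subsingleton ((localCohomology (maximalIdeal A) i).obj
        (ModuleCat.of A (QuotSMulTop x A))) := by
      by_cases hid : i = d + 1
      · subst hid
        exact subsingleton_quot_of_surjective (maximalIdeal A) (ModuleCat.of A A) x hreg (d + 1)
          (smul_surjective_of_injective x hreg _ hinj) (hvan (d + 1 + 1) (by omega))
      · exact subsingleton_quot_of_subsingleton (maximalIdeal A) (ModuleCat.of A A) x hreg i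
          (hvan i hid) (hvan (i + 1) (by omega))
    have h2 : Subsingleton ((localCohomology (maximalIdeal A) i).obj
        (ModuleCat.of A (A ⧸ Ideal.span {x}))) :=
      (localCohomologyCongr (maximalIdeal A) i (quotSMulTopEquivQuotSpan x)).symm.toEquiv.subsingleton
    exact ψ.toEquiv.subsingleton
  · obtain ⟨ψ, hψ⟩ := hbase d
    obtain ⟨e1⟩ := nonempty_equiv_torsionBy_of_regular (maximalIdeal A) (ModuleCat.of A A) x hreg d
      (hvan d (by omega))
    let e2 := localCohomologyCongr (maximalIdeal A) d (quotSMulTopEquivQuotSpan x)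
    let e3 : Submodule.torsionBy A (LocCoh.H (maximalIdeal A) (d + 1) A) x ≃ₗ[A]
        Submodule.torsionBySet A (LocCoh.H (maximalIdeal A) (d + 1) A)
          ((Ideal.span {x} : Ideal A) : Set A) :=
      LinearEquiv.ofEq _ _ (Submodule.torsionBySet_span_singleton_eq x).symm
    let Φ : LocCoh.H (maximalIdeal (A ⧸ Ideal.span {x})) d (A ⧸ Ideal.span {x}) ≃+
        Submodule.torsionBySet A (LocCoh.H (maximalIdeal A) (d + 1) A)
          ((Ideal.span {x} : Ideal A) : Set A) :=
      ψ.trans (e2.symm.toAddEquiv.trans (e1.toAddEquiv.trans e3.toAddEquiv))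
    have hΦ : ∀ (b : A ⧸ Ideal.span {x})
        (y : LocCoh.H (maximalIdeal (A ⧸ Ideal.span {x})) d (A ⧸ Ideal.span {x})),
        Φ (b • y) = b • Φ y := by
      intro b y
      obtain ⟨r, rfl⟩ := Ideal.Quotient.mk_surjective b
      show e3 (e1 (e2.symm (ψ (Ideal.Quotient.mk _ r • y)))) =
        Ideal.Quotient.mk _ r • e3 (e1 (e2.symm (ψ y)))
      have h1 : ψ (Ideal.Quotient.mk _ r • y) = r • ψ y := hψ r y
      rw [h1, map_smul, map_smul, map_smul]
      rfl
    let Φl := Φ.toLinearEquiv hΦ
    exact injective_of_linearEquiv Φl.symm (injective_torsionBySet (Ideal.span {x}) hinj)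

open Groth.Agent.Lib.Helper41.LC in
/-- The local cohomology criterion implies Gorenstein. -/
theorem isGorensteinLocalRing_of_localCohomology : ∀ (d : ℕ) (A : Type u) [CommRing A]
    [IsLocalRing A] [IsNoetherianRing A],
    (∀ i : ℕ, i ≠ d → Subsingleton (LocCoh.H (maximalIdeal A) i A)) →
    Module.Injective A (LocCoh.H (maximalIdeal A) d A) → LocCoh.IsGorensteinLocalRing A := by
  intro d
  induction d with
  | zero =>
    intro A _ _ _ hvan hinj
    have hIM : maximalIdeal A • (⊤ : Submodule A A) ≠ ⊤ := by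
      rw [smul_eq_mul, Ideal.mul_top]
      exact (maximalIdeal.isMaximal A).ne_top
    obtain ⟨n, hn⟩ := ENat.ne_top_iff_exists.mp
      (Groth.Agent.Lib.Helper29.DepthLib.idealDepth_ne_top (maximalIdeal A) A hIM)
    have hnt := ((Groth.Agent.S0318.result A (maximalIdeal A) A hIM n).mp hn.symm).2
    have hn0 : n = 0 := by
      by_contra h
      exact not_subsingleton _ (hvan n h)
    subst hn0
    let T : Submodule A A := LinearMap.range (toMod (maximalIdeal A) (ModuleCat.of A A))
    let e : LocCoh.H (maximalIdeal A) 0 A ≃ₗ[A] T :=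
      LinearEquiv.ofInjective _ (toMod_injective (maximalIdeal A) (ModuleCat.of A A))
    have hTinj : Module.Injective A T := injective_of_linearEquiv e hinj
    have hTne : T ≠ ⊥ := by
      intro h
      obtain ⟨y, hy⟩ := exists_ne (0 : LocCoh.H (maximalIdeal A) 0 A)
      apply hy
      apply e.injective
      rw [map_zero]
      apply Subtype.ext
      have h1 : (e y : A) ∈ T := (e y).2
      have h2 : (e y : A) ∈ (⊥ : Submodule A A) := h ▸ h1
      exact (Submodule.mem_bot A).mp h2
    obtain ⟨C, hC⟩ := exists_isCompl_of_injective T hTinj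
    have hTtop : T = ⊤ := eq_top_of_isCompl_of_ne_bot T C hC hTne
    let e' : LocCoh.H (maximalIdeal A) 0 A ≃ₗ[A] A := e.trans (LinearEquiv.ofTop T hTtop)
    have hAinj : Module.Injective A A := injective_of_linearEquiv e' hinj
    haveI : Injective (ModuleCat.of A A) := Module.injective_object_of_injective_module A A
    exact { exists_hasInjectiveDimensionLT := ⟨1, injective_iff_hasInjectiveDimensionLT_one.mp inferInstance⟩ }
  | succ d ih =>
    intro A _ _ _ hvan hinj
    have hIM : maximalIdeal A • (⊤ : Submodule A A) ≠ ⊤ := by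
      rw [smul_eq_mul, Ideal.mul_top]
      exact (maximalIdeal.isMaximal A).ne_top
    obtain ⟨n, hn⟩ := ENat.ne_top_iff_exists.mp
      (Groth.Agent.Lib.Helper29.DepthLib.idealDepth_ne_top (maximalIdeal A) A hIM)
    have hnt := ((Groth.Agent.S0318.result A (maximalIdeal A) A hIM n).mp hn.symm).2
    have hn0 : n = d + 1 := by
      by_contra h
      exact not_subsingleton _ (hvan n h)
    subst hn0
    obtain ⟨rs, hreg, hmem, hlen⟩ :=
      Groth.Agent.Lib.Helper93.ReflexiveDepth.exists_regular_of_le_idealDepth (maximalIdeal A) A 1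
        (by rw [← hn]; exact_mod_cast Nat.succ_le_succ (Nat.zero_le d)) hIM
    obtain ⟨x, rs', rfl⟩ : ∃ x rs', rs = x :: rs' := by
      cases rs with
      | nil => simp at hlen
      | cons x rs' => exact ⟨x, rs', rfl⟩
    have hx : x ∈ maximalIdeal A := hmem x (List.mem_cons_self ..)
    have hxreg : IsSMulRegular A x :=
      ((RingTheory.Sequence.isWeaklyRegular_cons_iff A x rs').mp hreg).1
    have hne : Ideal.span {x} ≠ (⊤ : Ideal A) := by
      intro h
      exact (maximalIdeal.isMaximal A).ne_top
        (top_le_iff.mp (h ▸ (Ideal.span_singleton_le_iff_mem _).mpr hx))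
    haveI : Nontrivial (A ⧸ Ideal.span {x}) := Ideal.Quotient.nontrivial_iff.2 hne
    haveI : IsLocalRing (A ⧸ Ideal.span {x}) :=
      IsLocalRing.of_surjective' (Ideal.Quotient.mk _) Ideal.Quotient.mk_surjective
    obtain ⟨h1, h2⟩ := localCohomology_quotient_of_regular A x hxreg d hvan hinj
    haveI := ih (A ⧸ Ideal.span {x}) h1 h2
    exact (Groth.Agent.S0343.result A x hx hxreg).mpr inferInstance

/-- The local cohomology of a Gorenstein local ring. -/
theorem localCohomology_of_isGorensteinLocalRing (A : Type u) [CommRing A]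
    [LocCoh.IsGorensteinLocalRing A] :
    ∃ d : ℕ, (∀ i : ℕ, i ≠ d → Subsingleton (LocCoh.H (maximalIdeal A) i A)) ∧
      Module.Injective A (LocCoh.H (maximalIdeal A) d A) := by
  obtain ⟨n₀, h⟩ := LocCoh.IsGorensteinLocalRing.exists_hasInjectiveDimensionLT (A := A)
  obtain ⟨r, -, -, hdim, hdepth⟩ := Groth.Agent.Lib.Helper29.GorCM.exists_top_ext n₀ h
  have hIM : maximalIdeal A • (⊤ : Submodule A A) ≠ ⊤ := by
    rw [smul_eq_mul, Ideal.mul_top]
    exact (maximalIdeal.isMaximal A).ne_top
  refine ⟨r, fun i hi => ?_, ?_⟩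
  · rcases Nat.lt_or_gt_of_ne hi with hlt | hgt
    · exact ((Groth.Agent.S0318.result A (maximalIdeal A) A hIM r).mp hdepth).1 i hlt
    · apply Groth.Agent.Lib.Helper41.LC.subsingleton_of_supportDim_lt
      rw [Module.supportDim_self_eq_ringKrullDim, hdim]
      exact_mod_cast hgt
  · obtain ⟨g, hg⟩ := exists_isInjectiveHull_of_gorenstein r A hdim
    exact hg.isInjective

end Groth.Agent.Lib.Helper2
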