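import Groth.Agent.Lib.Helper2.LCReg
import Groth.Agent.Lib.Helper2.InjHull3
import Groth.Agent.Lib.Helper58.LCBase

/-!
# `H^{n+1}_m(A)` is `E(k)` as soon as `H^n_{m/x}(A/x)` is `E_{A/x}(k)` (for regular `x ∈ m`)
-/

set_option autoImplicit false
universe u

open Function CategoryTheory IsLocalRing Pointwise

namespace Groth.Agent.Lib.Helper2

/-- `x • ⊤ = (x)` inside `A`. -/
theorem smul_top_eq_span_singleton {A : Type u} [CommRing A] (x : A) :
    x • (⊤ : Submodule A A) = Ideal.span {x} := by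
  ext y
  rw [Submodule.mem_smul_pointwise_iff_exists, Ideal.mem_span_singleton']
  constructor
  · rintro ⟨z, -, rfl⟩
    exact ⟨z, by rw [smul_eq_mul, mul_comm]⟩
  · rintro ⟨a, rfl⟩
    exact ⟨a, Submodule.mem_top, by rw [smul_eq_mul, mul_comm]⟩

/-- `A / xA` in the two guises. -/
noncomputable def quotSMulTopEquivQuotSpan {A : Type u} [CommRing A] (x : A) :
    QuotSMulTop x A ≃ₗ[A] (A ⧸ Ideal.span {x}) :=
  Submodule.quotEquivOfEq _ _ (smul_top_eq_span_singleton x)

/-- Local cohomology of linearly equivalent modules. -/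
noncomputable def localCohomologyCongr {R : Type u} [CommRing R] (I : Ideal R) (i : ℕ)
    {M N : Type u} [AddCommGroup M] [Module R M] [AddCommGroup N] [Module R N] (e : M ≃ₗ[R] N) :
    (localCohomology I i).obj (ModuleCat.of R M) ≃ₗ[R] (localCohomology I i).obj (ModuleCat.of R N) :=
  ((localCohomology I i).mapIso e.toModuleIso).toLinearEquiv

/-- The image of the maximal ideal in a quotient local ring. -/
theorem map_maximalIdeal_quotient {A : Type u} [CommRing A] [IsLocalRing A] (b : Ideal A)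
    [IsLocalRing (A ⧸ b)] :
    (maximalIdeal A).map (algebraMap A (A ⧸ b)) = maximalIdeal (A ⧸ b) := by
  haveI : IsLocalHom (Ideal.Quotient.mk b) :=
    IsLocalHom.of_surjective _ Ideal.Quotient.mk_surjective
  apply le_antisymm
  · rw [Ideal.map_le_iff_le_comap]
    intro a ha
    rw [Ideal.mem_comap, mem_maximalIdeal, mem_nonunits_iff, Ideal.Quotient.algebraMap_eq]
    rw [mem_maximalIdeal, mem_nonunits_iff] at ha
    exact fun h => ha ((isUnit_map_iff (Ideal.Quotient.mk b) a).mp h)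
  · intro y hy
    obtain ⟨a, rfl⟩ := Ideal.Quotient.mk_surjective y
    refine Ideal.mem_map_of_mem _ ?_
    rw [mem_maximalIdeal, mem_nonunits_iff] at hy ⊢
    exact fun h => hy (h.map (Ideal.Quotient.mk b))

open Groth.Agent.Lib.Helper41.LC in
/-- **Lifting step.** -/
theorem exists_isInjectiveHull_localCohomology_succ (A : Type u) [CommRing A] [IsLocalRing A]
    [IsNoetherianRing A] (x : A) (hx : x ∈ maximalIdeal A) (hreg : IsSMulRegular A x) (n : ℕ)
    [IsLocalRing (A ⧸ Ideal.span {x})]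
    (hvan1 : Subsingleton (LocCoh.H (maximalIdeal A) n A))
    (hvan2 : Subsingleton (LocCoh.H (maximalIdeal A) (n + 1) (A ⧸ Ideal.span {x})))
    (hB : ∃ g : ResidueField (A ⧸ Ideal.span {x}) →ₗ[A ⧸ Ideal.span {x}]
      LocCoh.H (maximalIdeal (A ⧸ Ideal.span {x})) n (A ⧸ Ideal.span {x}),
      InjHull.IsInjectiveHull g) :
    ∃ f : ResidueField A →ₗ[A] LocCoh.H (maximalIdeal A) (n + 1) A, InjHull.IsInjectiveHull f := by
  obtain ⟨E, _, _, f0, hf0⟩ := exists_injectiveHull A (ResidueField A)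
  obtain ⟨g2, hg2⟩ := exists_isInjectiveHull_torsionBy_quotient_local (Ideal.span {x}) f0 hf0
  obtain ⟨g', hg'⟩ := hB
  obtain ⟨eB, -⟩ := injectiveHull_unique g' hg' g2 hg2
  -- independence of base
  obtain ⟨ψ, hψ⟩ := Groth.Agent.Lib.Helper58.LCBase.exists_addEquiv (R' := A ⧸ Ideal.span {x})
    (maximalIdeal A) n (A ⧸ Ideal.span {x})
  revert ψ
  rw [map_maximalIdeal_quotient (Ideal.span {x})]
  intro ψ hψ
  -- the LES pieces
  obtain ⟨e1⟩ := nonempty_equiv_torsionBy_of_regular (maximalIdeal A) (ModuleCat.of A A) x hreg n hvan1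
  let e2 := localCohomologyCongr (maximalIdeal A) n (quotSMulTopEquivQuotSpan x)
  let Φ : Submodule.torsionBy A (LocCoh.H (maximalIdeal A) (n + 1) A) x ≃+
      ↥(LocCoh.torsionBy (Ideal.span {x}) E) :=
    e1.symm.toAddEquiv.trans (e2.toAddEquiv.trans (ψ.symm.trans eB.toAddEquiv))
  have hΦ : ∀ (r : A) (k : Submodule.torsionBy A (LocCoh.H (maximalIdeal A) (n + 1) A) x),
      Φ (r • k) = r • Φ k := by
    intro r k
    show eB (ψ.symm (e2 (e1.symm (r • k)))) = r • eB (ψ.symm (e2 (e1.symm k)))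
    rw [map_smul, map_smul]
    have h1 : ψ.symm (r • e2 (e1.symm k)) =
        algebraMap A (A ⧸ Ideal.span {x}) r • ψ.symm (e2 (e1.symm k)) := by
      rw [AddEquiv.symm_apply_eq, hψ, AddEquiv.apply_symm_apply]
    rw [h1, map_smul]
    rfl
  let Φl : Submodule.torsionBy A (LocCoh.H (maximalIdeal A) (n + 1) A) x ≃ₗ[A]
      ↥(LocCoh.torsionBy (Ideal.span {x}) E) := Φ.toLinearEquiv hΦ
  let Φl' : Submodule.torsionBy A (LocCoh.H (maximalIdeal A) (n + 1) A) x ≃ₗ[A]
      Submodule.torsionBy A E x :=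
    Φl.trans (LinearEquiv.ofEq _ _ (Submodule.torsionBySet_span_singleton_eq x))
  have hEtors : ∀ e : E, ∃ t : ℕ, x ^ t • e = 0 := by
    intro e
    obtain ⟨N, hN⟩ := isPowerTorsion_of_isInjectiveHull f0 hf0 e
    exact ⟨N, hN _ (Ideal.pow_mem_pow hx N)⟩
  have hsurj : Surjective (fun w : LocCoh.H (maximalIdeal A) (n + 1) A => x • w) := by
    apply smul_surjective_of_subsingleton (maximalIdeal A) (ModuleCat.of A A) x hreg (n + 1)
    exact (localCohomologyCongr (maximalIdeal A) (n + 1)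
      (quotSMulTopEquivQuotSpan x)).toEquiv.subsingleton
  obtain ⟨φ, -⟩ := exists_linearEquiv_of_torsionBy x hf0.isInjective
    (exists_pow_smul_eq_zero (maximalIdeal A) (ModuleCat.of A A) x hx (n + 1)) hEtors hsurj Φl'
  exact ⟨φ.symm.toLinearMap ∘ₗ f0, isInjectiveHull_equiv_comp φ.symm f0 hf0⟩

end Groth.Agent.Lib.Helper2
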