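import Groth.Agent.Lib.Helper2.LCReg
import Groth.Agent.Lib.Helper2.LCHull
import Groth.Agent.Lib.Helper2.InjHull6
import Groth.Agent.Lib.Helper2.LCGor
import Groth.Agent.Lib.Helper58.LCBase

/-!
# Canonical modules modulo a regular element
-/

set_option autoImplicit false
universe u

open Function IsLocalRing Pointwise

namespace Groth.Agent.Lib.Helper2.CanonQuot

open Groth.Agent.Lib.Helper2

section OverR

variable {R : Type u} [CommRing R]

/-- Torsion submodules of linearly equivalent modules. -/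
noncomputable def torsionByCongr {X Y : Type u} [AddCommGroup X] [Module R X] [AddCommGroup Y]
    [Module R Y] (e : X ≃ₗ[R] Y) (a : R) :
    Submodule.torsionBy R X a ≃ₗ[R] Submodule.torsionBy R Y a :=
  LinearEquiv.ofSubmodules e _ _ (by
    ext y
    constructor
    · rintro ⟨x, hx, rfl⟩
      have hx' : a • x = 0 := (Submodule.mem_torsionBy_iff a x).mp hx
      rw [Submodule.mem_torsionBy_iff]
      show a • e x = 0
      rw [← map_smul, hx', map_zero]
    · intro hy
      rw [Submodule.mem_torsionBy_iff] at hy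
      refine ⟨e.symm y, ?_, e.apply_symm_apply y⟩
      show e.symm y ∈ Submodule.torsionBy R X a
      rw [Submodule.mem_torsionBy_iff, ← map_smul, hy, map_zero])

/-- `Hom(N/aN, E) ≅ Hom(N, E)[a]`. -/
noncomputable def dualQuotEquiv (a : R) (N E : Type u) [AddCommGroup N] [Module R N]
    [AddCommGroup E] [Module R E] :
    (QuotSMulTop a N →ₗ[R] E) ≃ₗ[R] Submodule.torsionBy R (N →ₗ[R] E) a where
  toFun g := ⟨g ∘ₗ (a • (⊤ : Submodule R N)).mkQ, by
    rw [Submodule.mem_torsionBy_iff]
    refine LinearMap.ext fun x => ?_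
    rw [LinearMap.smul_apply, LinearMap.comp_apply, ← map_smul, ← map_smul, LinearMap.zero_apply]
    have : (a • (⊤ : Submodule R N)).mkQ (a • x) = 0 := by
      rw [Submodule.mkQ_apply, Submodule.Quotient.mk_eq_zero]
      exact Submodule.smul_mem_pointwise_smul _ _ _ Submodule.mem_top
    rw [this, map_zero]⟩
  map_add' g g' := Subtype.ext (LinearMap.add_comp _ _ _)
  map_smul' r g := Subtype.ext (LinearMap.smul_comp _ _ _)
  invFun φ := (a • (⊤ : Submodule R N)).liftQ φ.1 (by
    intro y hy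
    obtain ⟨x, -, rfl⟩ := (Submodule.mem_smul_pointwise_iff_exists _ _ _).mp hy
    rw [LinearMap.mem_ker, map_smul, ← LinearMap.smul_apply,
      (Submodule.mem_torsionBy_iff a φ.1).mp φ.2, LinearMap.zero_apply])
  left_inv g := by
    refine LinearMap.ext fun y => ?_
    obtain ⟨x, rfl⟩ := Submodule.Quotient.mk_surjective _ y
    rfl
  right_inv φ := Subtype.ext (LinearMap.ext fun x => rfl)

theorem dualQuotEquiv_apply (a : R) (N E : Type u) [AddCommGroup N] [Module R N]
    [AddCommGroup E] [Module R E] (g : QuotSMulTop a N →ₗ[R] E) (x : N) :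
    ((dualQuotEquiv a N E g : Submodule.torsionBy R (N →ₗ[R] E) a) : N →ₗ[R] E) x =
      g (Submodule.Quotient.mk x) := rfl

/-- The general step in `R`-module form: if `Hom(N, E) ≅ H^{k+1}_I(M)`, `a` is `M`-regular and
`H^k_I(M) = 0`, then `Hom(N/aN, E) ≅ H^k_I(M/aM)`. -/
theorem nonempty_dual_quot_equiv (I : Ideal R) (M N E : Type u) [AddCommGroup M] [Module R M]
    [AddCommGroup N] [Module R N] [AddCommGroup E] [Module R E] (a : R)
    (hreg : IsSMulRegular M a) (k : ℕ)
    (hvan : Subsingleton ((localCohomology I k).obj (ModuleCat.of R M)))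
    (θ : (N →ₗ[R] E) ≃ₗ[R] (localCohomology I (k + 1)).obj (ModuleCat.of R M)) :
    Nonempty ((QuotSMulTop a N →ₗ[R] E) ≃ₗ[R]
      (localCohomology I k).obj (ModuleCat.of R (QuotSMulTop a M))) := by
  obtain ⟨e1⟩ := nonempty_equiv_torsionBy_of_regular I (ModuleCat.of R M) a hreg k hvan
  exact ⟨(dualQuotEquiv a N E).trans ((torsionByCongr θ a).trans e1.symm)⟩

/-- **Regular sequences**: if `Hom(N, E) ≅ H^n_I(M)`, `as` is `M`-regular of length `≤ n` and
`H^j_I(M) = 0` for `j < n`, then `Hom(N/(as)N, E) ≅ H^{n-|as|}_I(M/(as)M)`. -/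
theorem nonempty_dual_quot_list (I : Ideal R) (E : Type u) [AddCommGroup E] [Module R E] :
    ∀ (as : List R) (M N : Type u) [AddCommGroup M] [Module R M] [AddCommGroup N] [Module R N]
      (n : ℕ), RingTheory.Sequence.IsWeaklyRegular M as → as.length ≤ n →
      (∀ j < n, Subsingleton ((localCohomology I j).obj (ModuleCat.of R M))) →
      ((N →ₗ[R] E) ≃ₗ[R] (localCohomology I n).obj (ModuleCat.of R M)) →
      Nonempty (((N ⧸ (Ideal.ofList as • (⊤ : Submodule R N))) →ₗ[R] E) ≃ₗ[R]
        (localCohomology I (n - as.length)).obj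
          (ModuleCat.of R (M ⧸ (Ideal.ofList as • (⊤ : Submodule R M))))) := by
  intro as
  induction as with
  | nil =>
    intro M N _ _ _ _ n _ _ _ θ
    have hM : (Ideal.ofList ([] : List R) • (⊤ : Submodule R M)) = ⊥ := by
      rw [Ideal.ofList_nil, Submodule.bot_smul]
    have hN : (Ideal.ofList ([] : List R) • (⊤ : Submodule R N)) = ⊥ := by
      rw [Ideal.ofList_nil, Submodule.bot_smul]
    let eM := Submodule.quotEquivOfEqBot _ hM
    let eN := Submodule.quotEquivOfEqBot _ hN
    exact ⟨(LinearEquiv.congrLeft E R eN).trans (θ.trans (localCohomologyCongr I n eM.symm))⟩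
  | cons a as ih =>
    intro M N _ _ _ _ n hreg hlen hvan θ
    obtain ⟨haM, hrest⟩ := (RingTheory.Sequence.isWeaklyRegular_cons_iff M a as).mp hreg
    obtain ⟨k, rfl⟩ : ∃ k, n = k + 1 := ⟨n - 1, by rw [List.length_cons] at hlen; omega⟩
    obtain ⟨θ'⟩ := nonempty_dual_quot_equiv I M N E a haM k (hvan k (Nat.lt_succ_self k)) θ
    have hvan' : ∀ j < k, Subsingleton ((localCohomology I j).obj
        (ModuleCat.of R (QuotSMulTop a M))) := fun j hj =>
      subsingleton_quot_of_subsingleton I (ModuleCat.of R M) a haM j (hvan j (by omega))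
        (hvan (j + 1) (by omega))
    obtain ⟨Θ⟩ := ih (QuotSMulTop a M) (QuotSMulTop a N) k hrest
      (by rw [List.length_cons] at hlen; omega) hvan' θ'
    have hidx : k + 1 - (a :: as).length = k - as.length := by
      rw [List.length_cons]; omega
    rw [hidx]
    let eM := Submodule.quotOfListConsSMulTopEquivQuotSMulTopInner M a as
    let eN := Submodule.quotOfListConsSMulTopEquivQuotSMulTopInner N a as
    exact ⟨(LinearEquiv.congrLeft E R eN).trans
      (Θ.trans (localCohomologyCongr I (k - as.length) eM.symm))⟩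

end OverR

section RingChange

variable {R : Type u} [CommRing R] (a : R) (K E : Type u) [AddCommGroup K] [Module R K]
  [AddCommGroup E] [Module R E]

/-- `Hom_{R/a}(K/aK, E[a]) ≃+ Hom_R(K/aK, E)`. -/
noncomputable def homQuotAddEquiv :
    (QuotSMulTop a K →ₗ[R ⧸ Ideal.span {a}] ↥(LocCoh.torsionBy (Ideal.span {a}) E)) ≃+
      (QuotSMulTop a K →ₗ[R] E) where
  toFun h := (LocCoh.torsionBy (Ideal.span {a}) E).subtype ∘ₗ h.restrictScalars R
  invFun g := LinearMap.extendScalarsOfSurjective Ideal.Quotient.mk_surjective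
    (LinearMap.codRestrict (LocCoh.torsionBy (Ideal.span {a}) E) g (by
      intro y
      rw [Submodule.mem_torsionBySet_iff]
      rintro ⟨r, hr⟩
      change r • g y = 0
      rw [← map_smul, smul_eq_zero_of_mem_of_quotient_module (Ideal.span {a}) hr, map_zero]))
  left_inv h := by
    refine LinearMap.ext fun y => Subtype.ext ?_
    rfl
  right_inv g := by
    refine LinearMap.ext fun y => ?_
    rfl
  map_add' h h' := by
    refine LinearMap.ext fun y => ?_
    rfl

theorem homQuotAddEquiv_smul (r : R)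
    (h : QuotSMulTop a K →ₗ[R ⧸ Ideal.span {a}] ↥(LocCoh.torsionBy (Ideal.span {a}) E)) :
    homQuotAddEquiv a K E (Ideal.Quotient.mk (Ideal.span {a}) r • h) =
      r • homQuotAddEquiv a K E h := by
  refine LinearMap.ext fun y => ?_
  rfl

variable [IsLocalRing R] [IsNoetherianRing R] [IsLocalRing (R ⧸ Ideal.span {a})]

open Groth.Agent.Lib.Helper41.LC in
/-- Independence of base for `R/a`. -/
theorem exists_base_addEquiv (i : ℕ) :
    ∃ ψ : (localCohomology (maximalIdeal (R ⧸ Ideal.span {a})) i).obj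
      (ModuleCat.of (R ⧸ Ideal.span {a}) (R ⧸ Ideal.span {a})) ≃+
      (localCohomology (maximalIdeal R) i).obj (ModuleCat.of R (R ⧸ Ideal.span {a})),
      ∀ (r : R) y, ψ (algebraMap R (R ⧸ Ideal.span {a}) r • y) = r • ψ y := by
  have := Groth.Agent.Lib.Helper58.LCBase.exists_addEquiv (R' := R ⧸ Ideal.span {a})
    (maximalIdeal R) i (R ⧸ Ideal.span {a})
  rwa [map_maximalIdeal_quotient (Ideal.span {a})] at this

open Groth.Agent.Lib.Helper41.LC in
/-- Vanishing of local cohomology descends to `R/a`. -/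
theorem subsingleton_quot (hreg : IsSMulRegular R a) (i : ℕ)
    (h0 : Subsingleton ((localCohomology (maximalIdeal R) i).obj (ModuleCat.of R R)))
    (h1 : Subsingleton ((localCohomology (maximalIdeal R) (i + 1)).obj (ModuleCat.of R R))) :
    Subsingleton ((localCohomology (maximalIdeal (R ⧸ Ideal.span {a})) i).obj
      (ModuleCat.of (R ⧸ Ideal.span {a}) (R ⧸ Ideal.span {a}))) := by
  obtain ⟨ψ, -⟩ := exists_base_addEquiv a i
  have h2 : Subsingleton ((localCohomology (maximalIdeal R) i).obj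
      (ModuleCat.of R (QuotSMulTop a R))) :=
    subsingleton_quot_of_subsingleton (maximalIdeal R) (ModuleCat.of R R) a hreg i h0 h1
  have h3 : Subsingleton ((localCohomology (maximalIdeal R) i).obj
      (ModuleCat.of R (R ⧸ Ideal.span {a}))) :=
    (localCohomologyCongr (maximalIdeal R) i (quotSMulTopEquivQuotSpan a)).symm.toEquiv.subsingleton
  exact ψ.toEquiv.subsingleton

/-- **Transfer**: `K/aK` is a canonical module of `R/a`. -/
theorem nonempty_canon_quot (hreg : IsSMulRegular R a) (k : ℕ)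
    (hvan : Subsingleton ((localCohomology (maximalIdeal R) k).obj (ModuleCat.of R R)))
    (eK : (K →ₗ[R] E) ≃ₗ[R] (localCohomology (maximalIdeal R) (k + 1)).obj (ModuleCat.of R R)) :
    Nonempty ((QuotSMulTop a K →ₗ[R ⧸ Ideal.span {a}] ↥(LocCoh.torsionBy (Ideal.span {a}) E))
      ≃ₗ[R ⧸ Ideal.span {a}]
      (localCohomology (maximalIdeal (R ⧸ Ideal.span {a})) k).obj
        (ModuleCat.of (R ⧸ Ideal.span {a}) (R ⧸ Ideal.span {a}))) := by
  obtain ⟨Θ⟩ := nonempty_dual_quot_equiv (maximalIdeal R) R K E a hreg k hvan eK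
  let e2 := localCohomologyCongr (maximalIdeal R) k (quotSMulTopEquivQuotSpan a)
  obtain ⟨ψ, hψ⟩ := exists_base_addEquiv a k
  let Φ : (QuotSMulTop a K →ₗ[R ⧸ Ideal.span {a}] ↥(LocCoh.torsionBy (Ideal.span {a}) E)) ≃+
      (localCohomology (maximalIdeal (R ⧸ Ideal.span {a})) k).obj
        (ModuleCat.of (R ⧸ Ideal.span {a}) (R ⧸ Ideal.span {a})) :=
    (homQuotAddEquiv a K E).trans (Θ.toAddEquiv.trans (e2.toAddEquiv.trans ψ.symm))
  have hΦ : ∀ (b : R ⧸ Ideal.span {a})
      (h : QuotSMulTop a K →ₗ[R ⧸ Ideal.span {a}] ↥(LocCoh.torsionBy (Ideal.span {a}) E)),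
      Φ (b • h) = b • Φ h := by
    intro b h
    obtain ⟨r, rfl⟩ := Ideal.Quotient.mk_surjective b
    show ψ.symm (e2 (Θ (homQuotAddEquiv a K E (Ideal.Quotient.mk _ r • h)))) =
      Ideal.Quotient.mk _ r • ψ.symm (e2 (Θ (homQuotAddEquiv a K E h)))
    rw [homQuotAddEquiv_smul, map_smul, map_smul, AddEquiv.symm_apply_eq]
    have := hψ r (ψ.symm (e2 (Θ (homQuotAddEquiv a K E h))))
    rw [AddEquiv.apply_symm_apply] at this
    exact this.symm
  exact ⟨Φ.toLinearEquiv hΦ⟩

end RingChange

end Groth.Agent.Lib.Helper2.CanonQuot
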