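import Mathlib

/-!
# Reduction modulo a maximal ideal commutes with localisation at it (helper2)

For a maximal ideal `P` of `R`, `A = R_P`, `K = C_P`: `length_A (K / P A K) = dim_{R/P} (R/P ⊗ C)`.
-/

set_option autoImplicit false
universe u

namespace Groth.Agent.Lib.Helper2.LocResidue

open IsLocalRing TensorProduct

/-- Length does not change under restriction of scalars when every scalar acts like one from the
smaller ring. -/
theorem length_restrictScalars_eq {R A T : Type*} [CommRing R] [CommRing A] [Algebra R A]
    [AddCommGroup T] [Module A T] [Module R T] [IsScalarTower R A T]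
    (h : ∀ a : A, ∃ r : R, ∀ t : T, a • t = r • t) :
    Module.length A T = Module.length R T := by
  let iso : Submodule A T ≃o Submodule R T :=
    { toFun := fun N => N.restrictScalars R
      invFun := fun N =>
        { carrier := N
          add_mem' := fun ha hb => N.add_mem ha hb
          zero_mem' := N.zero_mem
          smul_mem' := fun a t ht => by
            obtain ⟨r, hr⟩ := h a
            rw [hr t]
            exact N.smul_mem r ht }
      left_inv := fun N => Submodule.ext fun _ => Iff.rfl
      right_inv := fun N => Submodule.ext fun _ => Iff.rfl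
      map_rel_iff' := Iff.rfl }
  apply WithBot.coe_injective
  rw [Module.coe_length, Module.coe_length]
  exact Order.krullDim_eq_of_orderIso iso

theorem smul_eq_zero_of_mem {A K : Type*} [CommRing A] [AddCommGroup K] [Module A K] (I : Ideal A)
    (b : A) (hb : b ∈ I) (t : K ⧸ (I • ⊤ : Submodule A K)) : b • t = 0 := by
  obtain ⟨k, rfl⟩ := Submodule.Quotient.mk_surjective _ t
  rw [← Submodule.Quotient.mk_smul, Submodule.Quotient.mk_eq_zero]
  exact Submodule.smul_mem_smul hb Submodule.mem_top

section

variable {R : Type u} [CommRing R] (P : Ideal R) [hP : P.IsMaximal]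
  (C : Type u) [AddCommGroup C] [Module R C]

theorem exists_add_mem (a : Localization.AtPrime P) :
    ∃ r : R, ∃ b ∈ maximalIdeal (Localization.AtPrime P),
      a = algebraMap R (Localization.AtPrime P) r + b := by
  obtain ⟨x, s, rfl⟩ := IsLocalization.exists_mk'_eq P.primeCompl a
  obtain ⟨t, i, hi, hst⟩ := hP.exists_inv s.2
  refine ⟨x * t, algebraMap R _ i * IsLocalization.mk' _ x s, Ideal.mul_mem_right _ _ ?_, ?_⟩
  · exact (IsLocalization.AtPrime.to_map_mem_maximal_iff (Localization.AtPrime P) P i).mpr hi
  · have ha : IsLocalization.mk' (Localization.AtPrime P) x s *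
        algebraMap R (Localization.AtPrime P) (s : R) = algebraMap R (Localization.AtPrime P) x :=
      IsLocalization.mk'_spec _ x s
    calc IsLocalization.mk' (Localization.AtPrime P) x s
        = IsLocalization.mk' (Localization.AtPrime P) x s *
            algebraMap R (Localization.AtPrime P) (t * s + i) := by
          rw [hst, map_one, mul_one]
      _ = algebraMap R (Localization.AtPrime P) (x * t) +
            algebraMap R (Localization.AtPrime P) i *
              IsLocalization.mk' (Localization.AtPrime P) x s := by
          rw [map_add, map_mul, map_mul, ← ha]; ring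

theorem length_quot_eq :
    Module.length (Localization.AtPrime P)
      (LocalizedModule P.primeCompl C ⧸ (maximalIdeal (Localization.AtPrime P) •
        (⊤ : Submodule (Localization.AtPrime P) (LocalizedModule P.primeCompl C)))) =
    Module.length R
      (LocalizedModule P.primeCompl C ⧸ (maximalIdeal (Localization.AtPrime P) •
        (⊤ : Submodule (Localization.AtPrime P) (LocalizedModule P.primeCompl C)))) := by
  apply length_restrictScalars_eq
  intro a
  obtain ⟨r, b, hb, rfl⟩ := exists_add_mem P a
  refine ⟨r, fun t => ?_⟩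
  rw [add_smul, smul_eq_zero_of_mem _ b hb t, add_zero, algebraMap_smul]

/-- the reduction map `C → K / M K` -/
noncomputable def q : C →ₗ[R]
    (LocalizedModule P.primeCompl C ⧸ (maximalIdeal (Localization.AtPrime P) •
      (⊤ : Submodule (Localization.AtPrime P) (LocalizedModule P.primeCompl C)))) :=
  ((maximalIdeal (Localization.AtPrime P) •
      (⊤ : Submodule (Localization.AtPrime P) (LocalizedModule P.primeCompl C))).mkQ.restrictScalars
        R) ∘ₗ LocalizedModule.mkLinearMap P.primeCompl C

theorem q_apply (c : C) :
    q P C c = Submodule.Quotient.mk (LocalizedModule.mk c (1 : P.primeCompl)) := rfl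

theorem mk_one_eq (c : C) (s : P.primeCompl) (t : R) :
    LocalizedModule.mk (t • c) (1 : P.primeCompl) = (t * (s : R)) • LocalizedModule.mk c s := by
  rw [LocalizedModule.smul'_mk, LocalizedModule.mk_eq]
  refine ⟨1, ?_⟩
  simp only [one_smul, Submonoid.smul_def, mul_smul]
  rw [smul_comm]

theorem q_surjective : Function.Surjective (q P C) := by
  intro t
  obtain ⟨k, rfl⟩ := Submodule.Quotient.mk_surjective _ t
  induction k using LocalizedModule.induction_on with
  | h c s =>
    obtain ⟨t', i, hi, hst⟩ := hP.exists_inv s.2
    refine ⟨t' • c, ?_⟩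
    rw [q_apply, Submodule.Quotient.eq]
    have e2 : LocalizedModule.mk (t' • c) (1 : P.primeCompl) - LocalizedModule.mk c s =
        -(i • LocalizedModule.mk c s) := by
      rw [mk_one_eq P C c s t', eq_sub_of_add_eq hst, sub_smul, one_smul]; abel
    rw [e2]
    refine Submodule.neg_mem _ ?_
    rw [← algebraMap_smul (Localization.AtPrime P) i]
    exact Submodule.smul_mem_smul
      ((IsLocalization.AtPrime.to_map_mem_maximal_iff (Localization.AtPrime P) P i).mpr hi)
      Submodule.mem_top

theorem key (y : LocalizedModule P.primeCompl C)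
    (hy : y ∈ (maximalIdeal (Localization.AtPrime P) •
      (⊤ : Submodule (Localization.AtPrime P) (LocalizedModule P.primeCompl C)))) :
    ∃ c' ∈ (P • ⊤ : Submodule R C), ∃ s : P.primeCompl, y = LocalizedModule.mk c' s := by
  refine Submodule.smul_induction_on hy ?_ ?_
  · intro a ha k _
    obtain ⟨x, s, rfl⟩ := IsLocalization.exists_mk'_eq P.primeCompl a
    have hx : x ∈ P :=
      (IsLocalization.AtPrime.mk'_mem_maximal_iff (Localization.AtPrime P) P x s).mp ha
    induction k using LocalizedModule.induction_on with
    | h c s' =>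
      refine ⟨x • c, Submodule.smul_mem_smul hx Submodule.mem_top, s * s', ?_⟩
      rw [← Localization.mk_eq_mk', LocalizedModule.mk_smul_mk]
  · rintro y₁ y₂ ⟨c₁, hc₁, s₁, rfl⟩ ⟨c₂, hc₂, s₂, rfl⟩
    refine ⟨s₂ • c₁ + s₁ • c₂, ?_, s₁ * s₂, LocalizedModule.mk_add_mk⟩
    refine Submodule.add_mem _ ?_ ?_
    · rw [Submonoid.smul_def]; exact Submodule.smul_mem _ _ hc₁
    · rw [Submonoid.smul_def]; exact Submodule.smul_mem _ _ hc₂

theorem ker_q : LinearMap.ker (q P C) = (P • ⊤ : Submodule R C) := by
  apply le_antisymm
  · intro c hc
    rw [LinearMap.mem_ker, q_apply, Submodule.Quotient.mk_eq_zero] at hc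
    obtain ⟨c', hc', s, hs⟩ := key P C _ hc
    rw [LocalizedModule.mk_eq] at hs
    obtain ⟨u, hu⟩ := hs
    have h1 : (((u * s : P.primeCompl) : R)) • c ∈ (P • ⊤ : Submodule R C) := by
      have h2 : (((u * s : P.primeCompl) : R)) • c = (u : R) • c' := by
        simpa [Submonoid.smul_def, mul_smul] using hu
      rw [h2]; exact Submodule.smul_mem _ _ hc'
    obtain ⟨t', i, hi, hst⟩ := hP.exists_inv (u * s).2
    have h3 : c = t' • ((((u * s : P.primeCompl) : R)) • c) + i • c := by
      rw [← mul_smul, ← add_smul, hst, one_smul]
    rw [h3]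
    exact Submodule.add_mem _ (Submodule.smul_mem _ _ h1)
      (Submodule.smul_mem_smul hi Submodule.mem_top)
  · rw [Submodule.smul_le]
    intro p hp c _
    rw [LinearMap.mem_ker, map_smul, ← algebraMap_smul (Localization.AtPrime P) p (q P C c)]
    exact smul_eq_zero_of_mem _ _
      ((IsLocalization.AtPrime.to_map_mem_maximal_iff (Localization.AtPrime P) P p).mpr hp) _

/-- `C / P C ≃ K / M K`. -/
noncomputable def quotEquiv : (C ⧸ (P • ⊤ : Submodule R C)) ≃ₗ[R]
    (LocalizedModule P.primeCompl C ⧸ (maximalIdeal (Localization.AtPrime P) •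
      (⊤ : Submodule (Localization.AtPrime P) (LocalizedModule P.primeCompl C)))) :=
  (Submodule.quotEquivOfEq _ _ (ker_q P C).symm).trans
    ((q P C).quotKerEquivOfSurjective (q_surjective P C))

theorem length_eq_finrank [Module.Finite R C] :
    Module.length (Localization.AtPrime P)
      (LocalizedModule P.primeCompl C ⧸ (maximalIdeal (Localization.AtPrime P) •
        (⊤ : Submodule (Localization.AtPrime P) (LocalizedModule P.primeCompl C)))) =
      (Module.finrank (R ⧸ P) ((R ⧸ P) ⊗[R] C) : ℕ∞) := by
  letI : Field (R ⧸ P) := Ideal.Quotient.field P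
  rw [length_quot_eq P C, ← (quotEquiv P C).length_eq,
    ← (TensorProduct.quotTensorEquivQuotSMul C P).length_eq,
    Module.length_eq_of_surjective (S := R) (R := R ⧸ P) (M := (R ⧸ P) ⊗[R] C)
      Ideal.Quotient.mk_surjective,
    Module.length_eq_finrank]

end

end Groth.Agent.Lib.Helper2.LocResidue
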