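import Mathlib.Algebra.Category.ModuleCat.Basic
import Mathlib.Algebra.Homology.ShortComplex.ModuleCat
import Mathlib.LinearAlgebra.TensorProduct.RightExactness
import Mathlib.CategoryTheory.Linear.LinearFunctor
import Mathlib.RingTheory.Noetherian.Basic
import Mathlib.RingTheory.Finiteness.Cardinality

/-!
# Eilenberg–Watts for right exact linear functors on finite modules

For an additive `R`-linear functor `Φ : ModuleCat R ⥤ ModuleCat R` there is a natural map
`M ⊗ Φ(R) → Φ(M)`, `m ⊗ y ↦ Φ(μ_m)(y)`.  It is bijective for `M = R^b`, and for every finite module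
over a Noetherian ring when `Φ` is right exact.
-/

set_option autoImplicit false
universe u

open Function CategoryTheory TensorProduct

namespace Groth.Agent.Lib.Helper2.EW

variable {R : Type u} [CommRing R] (Φ : ModuleCat.{u} R ⥤ ModuleCat.{u} R) [Φ.Additive]
  [Φ.Linear R]

/-- `Φ` applied to a linear map, as a linear map. -/
noncomputable def fmap {M N : Type u} [AddCommGroup M] [Module R M] [AddCommGroup N] [Module R N]
    (g : M →ₗ[R] N) : Φ.obj (ModuleCat.of R M) →ₗ[R] Φ.obj (ModuleCat.of R N) :=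
  (Φ.map (ModuleCat.ofHom g)).hom

section Basic

variable {M N P : Type u} [AddCommGroup M] [Module R M] [AddCommGroup N] [Module R N]
  [AddCommGroup P] [Module R P]

theorem fmap_id : fmap Φ (LinearMap.id : M →ₗ[R] M) = LinearMap.id := by
  show (Φ.map (ModuleCat.ofHom LinearMap.id)).hom = LinearMap.id
  rw [ModuleCat.ofHom_id, Φ.map_id]
  rfl

theorem fmap_comp (g : N →ₗ[R] P) (f : M →ₗ[R] N) : fmap Φ (g ∘ₗ f) = fmap Φ g ∘ₗ fmap Φ f := by
  show (Φ.map (ModuleCat.ofHom (g ∘ₗ f))).hom = _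
  rw [ModuleCat.ofHom_comp, Φ.map_comp]
  rfl

theorem fmap_comp_apply (g : N →ₗ[R] P) (f : M →ₗ[R] N) (y : Φ.obj (ModuleCat.of R M)) :
    fmap Φ g (fmap Φ f y) = fmap Φ (g ∘ₗ f) y := by
  rw [fmap_comp]; rfl

theorem fmap_add (f g : M →ₗ[R] N) : fmap Φ (f + g) = fmap Φ f + fmap Φ g := by
  show (Φ.map (ModuleCat.ofHom (f + g))).hom = _
  rw [ModuleCat.ofHom_add, Φ.map_add]
  rfl

theorem fmap_zero : fmap Φ (0 : M →ₗ[R] N) = 0 := by
  show (Φ.map (ModuleCat.ofHom (0 : M →ₗ[R] N))).hom = 0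
  have : ModuleCat.ofHom (0 : M →ₗ[R] N) = 0 := rfl
  rw [this, Φ.map_zero]
  rfl

theorem fmap_smul (r : R) (f : M →ₗ[R] N) : fmap Φ (r • f) = r • fmap Φ f := by
  show (Φ.map (ModuleCat.ofHom (r • f))).hom = _
  have : ModuleCat.ofHom (r • f) = r • ModuleCat.ofHom f := rfl
  rw [this, Φ.map_smul]
  rfl

theorem fmap_sum {ι : Type*} (s : Finset ι) (f : ι → (M →ₗ[R] N)) :
    fmap Φ (∑ i ∈ s, f i) = ∑ i ∈ s, fmap Φ (f i) := by
  classical
  induction s using Finset.induction_on with
  | empty => simp [fmap_zero]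
  | insert a s ha ih => rw [Finset.sum_insert ha, Finset.sum_insert ha, fmap_add, ih]

end Basic

section Map

variable (M : Type u) [AddCommGroup M] [Module R M]

/-- The Eilenberg–Watts comparison map. -/
noncomputable def ewMap : M ⊗[R] (Φ.obj (ModuleCat.of R R)) →ₗ[R] Φ.obj (ModuleCat.of R M) :=
  TensorProduct.lift
    { toFun := fun m => fmap Φ (LinearMap.toSpanSingleton R M m)
      map_add' := fun m m' => by rw [LinearMap.toSpanSingleton_add, fmap_add]
      map_smul' := fun r m => by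
        rw [LinearMap.toSpanSingleton_smul, fmap_smul]; rfl }

@[simp]
theorem ewMap_tmul (m : M) (y : Φ.obj (ModuleCat.of R R)) :
    ewMap Φ M (m ⊗ₜ y) = fmap Φ (LinearMap.toSpanSingleton R M m) y := rfl

variable {M} in
theorem ewMap_naturality {N : Type u} [AddCommGroup N] [Module R N] (g : M →ₗ[R] N) :
    fmap Φ g ∘ₗ ewMap Φ M = ewMap Φ N ∘ₗ g.rTensor _ := by
  apply TensorProduct.ext'
  intro m y
  simp only [LinearMap.comp_apply, ewMap_tmul, LinearMap.rTensor_tmul]
  rw [fmap_comp_apply]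
  congr 2
  apply LinearMap.ext_ring
  simp

variable {M} in
theorem ewMap_naturality_apply {N : Type u} [AddCommGroup N] [Module R N] (g : M →ₗ[R] N)
    (t : M ⊗[R] (Φ.obj (ModuleCat.of R R))) :
    fmap Φ g (ewMap Φ M t) = ewMap Φ N (g.rTensor _ t) :=
  LinearMap.congr_fun (ewMap_naturality Φ g) t

end Map

section Free

variable (b : ℕ)

/-- The inverse of the comparison map for `R^b`. -/
noncomputable def ewInvPi : Φ.obj (ModuleCat.of R (Fin b → R)) →ₗ[R]
    (Fin b → R) ⊗[R] (Φ.obj (ModuleCat.of R R)) :=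
  ∑ k : Fin b, (TensorProduct.mk R (Fin b → R) _ (Pi.single k 1)) ∘ₗ
    fmap Φ (LinearMap.proj k : (Fin b → R) →ₗ[R] R)

theorem ewMap_ewInvPi (z : Φ.obj (ModuleCat.of R (Fin b → R))) :
    ewMap Φ (Fin b → R) (ewInvPi Φ b z) = z := by
  unfold ewInvPi
  rw [LinearMap.sum_apply, map_sum]
  simp only [LinearMap.comp_apply, TensorProduct.mk_apply, ewMap_tmul, fmap_comp_apply]
  rw [← LinearMap.sum_apply, ← fmap_sum]
  have : (∑ k : Fin b, LinearMap.toSpanSingleton R (Fin b → R) (Pi.single k 1) ∘ₗ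
      (LinearMap.proj k : (Fin b → R) →ₗ[R] R)) = LinearMap.id := by
    refine LinearMap.ext fun x => funext fun j => ?_
    simp [LinearMap.sum_apply, Finset.sum_apply, Pi.single_apply]
  rw [this, fmap_id]
  rfl

theorem ewInvPi_ewMap (t : (Fin b → R) ⊗[R] (Φ.obj (ModuleCat.of R R))) :
    ewInvPi Φ b (ewMap Φ (Fin b → R) t) = t := by
  have : ewInvPi Φ b ∘ₗ ewMap Φ (Fin b → R) = LinearMap.id := by
    apply TensorProduct.ext'
    intro m y
    simp only [LinearMap.comp_apply, ewMap_tmul, LinearMap.id_apply]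
    unfold ewInvPi
    rw [LinearMap.sum_apply]
    simp only [LinearMap.comp_apply, TensorProduct.mk_apply, fmap_comp_apply]
    have h1 : ∀ k : Fin b, (LinearMap.proj k : (Fin b → R) →ₗ[R] R) ∘ₗ
        LinearMap.toSpanSingleton R (Fin b → R) m = m k • LinearMap.id := by
      intro k
      apply LinearMap.ext_ring
      show (LinearMap.toSpanSingleton R (Fin b → R) m 1) k = (m k • LinearMap.id) (1 : R)
      rw [LinearMap.toSpanSingleton_apply, one_smul, LinearMap.smul_apply, LinearMap.id_apply,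
        smul_eq_mul, mul_one]
    simp_rw [h1, fmap_smul, fmap_id, LinearMap.smul_apply, LinearMap.id_apply,
      TensorProduct.tmul_smul, TensorProduct.smul_tmul']
    rw [← TensorProduct.sum_tmul]
    congr 1
    funext j
    simp [Finset.sum_apply, Pi.single_apply]
  exact LinearMap.congr_fun this t

theorem ewMap_bijective_pi : Bijective (ewMap Φ (Fin b → R)) :=
  ⟨fun t t' h => by rw [← ewInvPi_ewMap Φ b t, h, ewInvPi_ewMap],
    fun z => ⟨_, ewMap_ewInvPi Φ b z⟩⟩

end Free

/-- Right exactness on short exact sequences. -/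
def RightExact : Prop :=
  ∀ (S : ShortComplex (ModuleCat.{u} R)), S.ShortExact →
    Surjective (Φ.map S.g).hom ∧ Function.Exact (Φ.map S.f).hom (Φ.map S.g).hom

section Finite

variable {Φ}

/-- Right exactness for linear maps. -/
theorem RightExact.of_linearMap (hΦ : RightExact Φ) {M' M M'' : Type u} [AddCommGroup M']
    [Module R M'] [AddCommGroup M] [Module R M] [AddCommGroup M''] [Module R M'']
    (f : M' →ₗ[R] M) (g : M →ₗ[R] M'') (hf : Injective f) (hg : Surjective g)
    (hfg : Function.Exact f g) :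
    Surjective (fmap Φ g) ∧ Function.Exact (fmap Φ f) (fmap Φ g) := by
  have hS : (ModuleCat.shortComplexOfCompEqZero f g hfg.linearMap_comp_eq_zero).ShortExact :=
    { exact := ModuleCat.shortComplex_exact _ hfg
      mono_f := (ModuleCat.mono_iff_injective _).mpr hf
      epi_g := (ModuleCat.epi_iff_surjective _).mpr hg }
  exact hΦ _ hS

variable [IsNoetherianRing R]

/-- **Eilenberg–Watts** on finite modules. -/
theorem ewMap_bijective_of_finite (hΦ : RightExact Φ) (M : Type u) [AddCommGroup M] [Module R M]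
    [Module.Finite R M] : Bijective (ewMap Φ M) := by
  obtain ⟨b, π, hπ⟩ := Module.Finite.exists_fin' R M
  let K₁ : Submodule R (Fin b → R) := LinearMap.ker π
  haveI : Module.Finite R K₁ := Module.IsNoetherian.finite R K₁
  obtain ⟨a, ρ, hρ⟩ := Module.Finite.exists_fin' R K₁
  -- exactness on the `Φ` side
  obtain ⟨hπs, hπe⟩ := hΦ.of_linearMap K₁.subtype π K₁.injective_subtype hπ
    (LinearMap.exact_subtype_ker_map π)
  obtain ⟨hρs, -⟩ := hΦ.of_linearMap (LinearMap.ker ρ).subtype ρ (Submodule.injective_subtype _) hρ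
    (LinearMap.exact_subtype_ker_map ρ)
  set σ : (Fin a → R) →ₗ[R] (Fin b → R) := K₁.subtype ∘ₗ ρ with hσ
  have hσπ : Function.Exact σ π := by
    intro x
    constructor
    · intro hx
      obtain ⟨y, hy⟩ := hρ ⟨x, hx⟩
      exact ⟨y, by rw [hσ, LinearMap.comp_apply, hy]; rfl⟩
    · rintro ⟨y, rfl⟩
      exact (ρ y).2
  have htens := rTensor_exact (Φ.obj (ModuleCat.of R R)) hσπ hπ
  have hsurjT : Surjective (π.rTensor (Φ.obj (ModuleCat.of R R))) :=
    LinearMap.rTensor_surjective _ hπ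
  constructor
  · rw [injective_iff_map_eq_zero]
    intro t ht
    obtain ⟨t', rfl⟩ := hsurjT t
    rw [← ewMap_naturality_apply] at ht
    obtain ⟨w, hw⟩ := (hπe _).mp ht
    obtain ⟨w', rfl⟩ := hρs w
    obtain ⟨t'', ht''⟩ := (ewMap_bijective_pi Φ a).2 w'
    have h1 : ewMap Φ (Fin b → R) (σ.rTensor _ t'') = ewMap Φ (Fin b → R) t' := by
      rw [← ewMap_naturality_apply, ht'', hσ, ← fmap_comp_apply]
      exact hw
    have h2 := (ewMap_bijective_pi Φ b).1 h1
    rw [← h2]
    exact (htens _).mpr ⟨t'', rfl⟩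
  · intro z
    obtain ⟨w, rfl⟩ := hπs z
    obtain ⟨t, rfl⟩ := (ewMap_bijective_pi Φ b).2 w
    exact ⟨π.rTensor _ t, (ewMap_naturality_apply Φ π t).symm⟩

/-- The Eilenberg–Watts equivalence on a finite module. -/
noncomputable def ewEquiv (hΦ : RightExact Φ) (M : Type u) [AddCommGroup M] [Module R M]
    [Module.Finite R M] : M ⊗[R] (Φ.obj (ModuleCat.of R R)) ≃ₗ[R] Φ.obj (ModuleCat.of R M) :=
  LinearEquiv.ofBijective (ewMap Φ M) (ewMap_bijective_of_finite hΦ M)

theorem ewEquiv_apply (hΦ : RightExact Φ) (M : Type u) [AddCommGroup M] [Module R M]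
    [Module.Finite R M] (t : M ⊗[R] (Φ.obj (ModuleCat.of R R))) :
    ewEquiv hΦ M t = ewMap Φ M t := rfl

variable {Ψ : ModuleCat.{u} R ⥤ ModuleCat.{u} R} [Ψ.Additive] [Ψ.Linear R]

/-- Two right exact linear functors agreeing on `R` agree on every finite module. -/
noncomputable def compareEquiv (hΦ : RightExact Φ) (hΨ : RightExact Ψ)
    (c : Φ.obj (ModuleCat.of R R) ≃ₗ[R] Ψ.obj (ModuleCat.of R R))
    (M : Type u) [AddCommGroup M] [Module R M] [Module.Finite R M] :
    Φ.obj (ModuleCat.of R M) ≃ₗ[R] Ψ.obj (ModuleCat.of R M) :=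
  (ewEquiv hΦ M).symm.trans ((TensorProduct.congr (LinearEquiv.refl R M) c).trans (ewEquiv hΨ M))

theorem compareEquiv_ewMap (hΦ : RightExact Φ) (hΨ : RightExact Ψ)
    (c : Φ.obj (ModuleCat.of R R) ≃ₗ[R] Ψ.obj (ModuleCat.of R R))
    (M : Type u) [AddCommGroup M] [Module R M] [Module.Finite R M]
    (t : M ⊗[R] (Φ.obj (ModuleCat.of R R))) :
    compareEquiv hΦ hΨ c M (ewMap Φ M t) =
      ewMap Ψ M (TensorProduct.congr (LinearEquiv.refl R M) c t) := by
  unfold compareEquiv
  rw [LinearEquiv.trans_apply, LinearEquiv.trans_apply, ← ewEquiv_apply hΦ M t,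
    LinearEquiv.symm_apply_apply, ewEquiv_apply]

/-- Naturality of `compareEquiv`. -/
theorem compareEquiv_naturality (hΦ : RightExact Φ) (hΨ : RightExact Ψ)
    (c : Φ.obj (ModuleCat.of R R) ≃ₗ[R] Ψ.obj (ModuleCat.of R R))
    {M N : Type u} [AddCommGroup M] [Module R M] [Module.Finite R M]
    [AddCommGroup N] [Module R N] [Module.Finite R N] (g : M →ₗ[R] N)
    (x : Φ.obj (ModuleCat.of R M)) :
    compareEquiv hΦ hΨ c N (fmap Φ g x) = fmap Ψ g (compareEquiv hΦ hΨ c M x) := by
  obtain ⟨t, rfl⟩ := (ewMap_bijective_of_finite hΦ M).2 x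
  rw [ewMap_naturality_apply, compareEquiv_ewMap, compareEquiv_ewMap, ewMap_naturality_apply]
  congr 1
  induction t using TensorProduct.induction_on with
  | zero => simp
  | tmul m y => simp
  | add a b ha hb => simp only [map_add, ha, hb]

end Finite

end Groth.Agent.Lib.Helper2.EW
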