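import Groth.Agent.Lib.Helper2.LDCM
import Groth.Agent.Lib.Helper2.CanonQuot
import Groth.Agent.Lib.Helper2.LocResidue
import Groth.Agent.Lib.Helper29.ExtRegSeq
import Groth.Agent.Lib.Helper83.HomLenB
import Groth.Agent.Lib.Helper41.LC0
import Groth.Agent.S0323
import Groth.Agent.S5170
import Groth.Agent.S5156

/-!
# Type of a Cohen–Macaulay local ring and of its canonical module (helper2)

For a CM local ring `A` of dimension `n` with canonical module `K` (`Hom(K,E) ≅ H^n_m(A)`):
* `length Ext^n(k, K) = 1` (`length_ext_canon`);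
* `length Ext^n(k, A) = length (K / m K)` (`length_ext_self`).
Plus: linear Rees isomorphism `Hom(X, M/(xs)M) ≃ₗ Ext^{|xs|}(X, M)` and `Ext` congruence.
-/

set_option autoImplicit false
universe u

namespace Groth.Agent.Lib.Helper2.CanonType

open CategoryTheory RingTheory.Sequence Pointwise IsLocalRing TensorProduct

section General

variable {A : Type u} [CommRing A]

/-- `Ext` is invariant under isomorphism in the second variable (linear version). -/
noncomputable def extCongrRight (X : ModuleCat.{u} A) {M M' : Type u} [AddCommGroup M]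
    [Module A M] [AddCommGroup M'] [Module A M'] (e : M ≃ₗ[A] M') (i : ℕ) :
    Abelian.Ext.{u} X (ModuleCat.of A M) i ≃ₗ[A] Abelian.Ext.{u} X (ModuleCat.of A M') i :=
  LinearEquiv.ofLinear
    (Abelian.Ext.postcompOfLinear (Abelian.Ext.mk₀ e.toModuleIso.hom) A X (add_zero i))
    (Abelian.Ext.postcompOfLinear (Abelian.Ext.mk₀ e.toModuleIso.inv) A X (add_zero i))
    (by
      refine LinearMap.ext fun x => ?_
      show (x.comp (Abelian.Ext.mk₀ e.toModuleIso.inv) (add_zero i)).comp
        (Abelian.Ext.mk₀ e.toModuleIso.hom) (add_zero i) = x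
      rw [Abelian.Ext.comp_assoc_of_third_deg_zero, Abelian.Ext.mk₀_comp_mk₀, Iso.inv_hom_id,
        Abelian.Ext.comp_mk₀_id])
    (by
      refine LinearMap.ext fun x => ?_
      show (x.comp (Abelian.Ext.mk₀ e.toModuleIso.hom) (add_zero i)).comp
        (Abelian.Ext.mk₀ e.toModuleIso.inv) (add_zero i) = x
      rw [Abelian.Ext.comp_assoc_of_third_deg_zero, Abelian.Ext.mk₀_comp_mk₀, Iso.hom_inv_id,
        Abelian.Ext.comp_mk₀_id])

/-- **Rees**, linear version: `Hom(X, M/(xs)M) ≃ₗ Ext^{|xs|}(X, M)` for an `M`-regular sequence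
`xs` killing `X`. -/
theorem ext_linearEquiv (X : Type u) [AddCommGroup X] [Module A X] :
    ∀ (xs : List A) (M : Type u) [AddCommGroup M] [Module A M],
    (∀ x ∈ xs, x ∈ Module.annihilator A X) → IsWeaklyRegular M xs →
    Nonempty ((X →ₗ[A] (M ⧸ (Ideal.ofList xs • (⊤ : Submodule A M)))) ≃ₗ[A]
      Abelian.Ext.{u} (ModuleCat.of A X) (ModuleCat.of A M) xs.length) := by
  intro xs
  induction xs with
  | nil =>
    intro M _ _ _ _
    have e1 : (M ⧸ (Ideal.ofList ([] : List A) • (⊤ : Submodule A M))) ≃ₗ[A] M :=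
      Submodule.quotEquivOfEqBot _ (by rw [Ideal.ofList_nil, Submodule.bot_smul])
    exact ⟨(LinearEquiv.congrRight e1).trans (Groth.Agent.Lib.Helper2.LD.e0 X M)⟩
  | cons x xs ih =>
    intro M _ _ hmem hreg
    have hreg0 := hreg
    rw [isWeaklyRegular_cons_iff] at hreg
    have hxK : x ∈ Module.annihilator A (ModuleCat.of A X) := hmem x List.mem_cons_self
    have hS : (ModuleCat.smulShortComplex (ModuleCat.of A M) x).ShortExact :=
      IsSMulRegular.smulShortComplex_shortExact (M := ModuleCat.of A M) hreg.1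
    obtain ⟨e₁⟩ := ih (QuotSMulTop x M)
      (fun y hy => hmem y (List.mem_cons_of_mem _ hy)) hreg.2
    have e₀ : (X →ₗ[A] (M ⧸ (Ideal.ofList (x :: xs) • (⊤ : Submodule A M)))) ≃ₗ[A]
        (X →ₗ[A] (QuotSMulTop x M ⧸
          (Ideal.ofList xs • (⊤ : Submodule A (QuotSMulTop x M))))) :=
      LinearEquiv.congrRight
        (Submodule.quotOfListConsSMulTopEquivQuotSMulTopInner M x xs)
    let φ : Abelian.Ext.{u} (ModuleCat.of A X) (ModuleCat.of A (QuotSMulTop x M)) xs.length →ₗ[A]
        Abelian.Ext.{u} (ModuleCat.of A X) (ModuleCat.of A M) (xs.length + 1) :=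
      Abelian.Ext.postcompOfLinear hS.extClass A (ModuleCat.of A X) rfl
    have hφ_apply : ∀ e, φ e = e.comp hS.extClass rfl := fun e => rfl
    have hφ : Function.Bijective φ := by
      constructor
      · rw [injective_iff_map_eq_zero]
        intro e₃ he₃
        rw [hφ_apply] at he₃
        obtain ⟨e₂, rfl⟩ := Abelian.Ext.covariant_sequence_exact₃ (ModuleCat.of A X) hS e₃ rfl he₃
        have h0 : e₂ = 0 := Groth.Agent.Lib.Helper29.ExtRegSeq.ext_vanish (ModuleCat.of A X)
          (x :: xs) M hmem hreg0 xs.length (by simp) e₂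
        rw [h0, Abelian.Ext.zero_comp]
        rfl
      · intro e
        obtain ⟨e₃, he₃⟩ := Abelian.Ext.covariant_sequence_exact₁ (ModuleCat.of A X) hS e
          (Groth.Agent.Lib.Helper29.ExtRegSeq.comp_smul_eq_zero (ModuleCat.of A X) hxK _ e)
          (n₀ := xs.length) rfl
        exact ⟨e₃, he₃⟩
    exact ⟨(e₀.trans e₁).trans (LinearEquiv.ofBijective φ hφ)⟩

end General

section Local

variable {A : Type u} [CommRing A] [IsLocalRing A] [IsNoetherianRing A]

theorem isSimpleModule_residueField : IsSimpleModule A (ResidueField A) :=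
  isSimpleModule_iff_quot_maximal.mpr ⟨maximalIdeal A, inferInstance, ⟨LinearEquiv.refl A _⟩⟩

theorem length_residueField : Module.length A (ResidueField A) = 1 :=
  Module.length_eq_one_iff.mpr isSimpleModule_residueField

theorem isFiniteLength_residueField : IsFiniteLength A (ResidueField A) :=
  Module.length_ne_top_iff.mp (by rw [length_residueField]; exact ENat.one_ne_top)

theorem smul_residueField (a : A) (ha : a ∈ maximalIdeal A) (z : ResidueField A) : a • z = 0 := by
  rw [Algebra.smul_def, ResidueField.algebraMap_eq, (residue_eq_zero_iff a).mpr ha, zero_mul]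

theorem isPowerTorsion_residueField :
    LocCoh.IsPowerTorsion (maximalIdeal A) (ResidueField A) := by
  intro z
  refine ⟨1, fun a ha => ?_⟩
  rw [pow_one] at ha
  exact smul_residueField a ha z

theorem exists_regular_eq (n : ℕ) (hdepth : (n : ℕ∞) ≤ LocCoh.depth A A) :
    ∃ xs : List A, IsWeaklyRegular A xs ∧ (∀ x ∈ xs, x ∈ maximalIdeal A) ∧ xs.length = n := by
  have hIM : maximalIdeal A • (⊤ : Submodule A A) ≠ ⊤ := by
    rw [smul_eq_mul, Ideal.mul_top]
    exact (maximalIdeal.isMaximal A).ne_top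
  obtain ⟨rs, hreg, hmem, hlen⟩ :=
    Groth.Agent.Lib.Helper93.ReflexiveDepth.exists_regular_of_le_idealDepth (maximalIdeal A) A n
      hdepth hIM
  refine ⟨rs.take n, ?_, fun x hx => hmem x (List.mem_of_mem_take hx),
    List.length_take_of_le hlen⟩
  have h := hreg
  rw [← List.take_append_drop n rs, isWeaklyRegular_append_iff] at h
  exact h.1

variable {E : Type u} [AddCommGroup E] [Module A E] (f : ResidueField A →ₗ[A] E)
  (hf : InjHull.IsInjectiveHull f)
  {K : Type u} [AddCommGroup K] [Module A K] [Module.Finite A K]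

include hf in
/-- The canonical module has type one. -/
theorem length_ext_canon (n : ℕ) (hn : ringKrullDim A ≤ n)
    (hvan : ∀ j < n, Subsingleton ((localCohomology (maximalIdeal A) j).obj (ModuleCat.of A A)))
    (eK : (K →ₗ[A] E) ≃ₗ[A] (localCohomology (maximalIdeal A) n).obj (ModuleCat.of A A)) :
    Module.length A
      (Abelian.Ext.{u} (ModuleCat.of A (ResidueField A)) (ModuleCat.of A K) n) = 1 := by
  obtain ⟨e⟩ := Groth.Agent.Lib.Helper2.LD.duality_ext (maximalIdeal A) n hn hvan hf.isInjective eK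
    n le_rfl (ResidueField A)
  rw [Nat.sub_self] at e
  obtain ⟨e0⟩ := (Groth.Agent.S0323.result A (maximalIdeal A) (ResidueField A)
    isPowerTorsion_residueField).1
  have hfl : IsFiniteLength A
      (Abelian.Ext.{u} (ModuleCat.of A (ResidueField A)) (ModuleCat.of A K) n) :=
    Groth.Agent.Lib.Helper83.HomLenB.isFiniteLength_ext (ResidueField A) K
      isFiniteLength_residueField n
  have h1 := Groth.Agent.S5170.result A E f hf _ hfl
  exact h1.symm.trans (e.length_eq.symm.trans (e0.length_eq.trans length_residueField))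

include hf in
/-- The type of a CM local ring is the minimal number of generators of its canonical module. -/
theorem length_ext_self (n : ℕ) (hn : ringKrullDim A ≤ n)
    (hvan : ∀ j < n, Subsingleton ((localCohomology (maximalIdeal A) j).obj (ModuleCat.of A A)))
    (eK : (K →ₗ[A] E) ≃ₗ[A] (localCohomology (maximalIdeal A) n).obj (ModuleCat.of A A))
    (hdepth : (n : ℕ∞) ≤ LocCoh.depth A A) :
    Module.length A
      (Abelian.Ext.{u} (ModuleCat.of A (ResidueField A)) (ModuleCat.of A A) n) =
      Module.length A (K ⧸ (maximalIdeal A • (⊤ : Submodule A K))) := by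
  obtain ⟨xs, hxs, hmem, hlen⟩ := exists_regular_eq n hdepth
  subst hlen
  have hann : ∀ x ∈ xs, x ∈ Module.annihilator A (ResidueField A) := fun x hx =>
    Module.mem_annihilator.mpr (fun z => smul_residueField x (hmem x hx) z)
  obtain ⟨ρ⟩ := ext_linearEquiv (ResidueField A) xs A hann hxs
  obtain ⟨Θ⟩ := Groth.Agent.Lib.Helper2.CanonQuot.nonempty_dual_quot_list (maximalIdeal A) E xs A K
    xs.length hxs le_rfl hvan eK
  rw [Nat.sub_self] at Θ
  have hT : Function.Injective (Groth.Agent.Lib.Helper41.LC.toMod (maximalIdeal A)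
      (ModuleCat.of A (A ⧸ (Ideal.ofList xs • (⊤ : Submodule A A))))) :=
    Groth.Agent.Lib.Helper41.LC.toMod_injective _ _
  let β : (ResidueField A →ₗ[A] ((localCohomology (maximalIdeal A) 0).obj
        (ModuleCat.of A (A ⧸ (Ideal.ofList xs • (⊤ : Submodule A A)))))) →ₗ[A]
      (ResidueField A →ₗ[A] (A ⧸ (Ideal.ofList xs • (⊤ : Submodule A A)))) :=
    LinearMap.compRight A (Groth.Agent.Lib.Helper41.LC.toMod (maximalIdeal A)
      (ModuleCat.of A (A ⧸ (Ideal.ofList xs • (⊤ : Submodule A A)))))
  have hβinj : Function.Injective β := by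
    intro g g' h
    refine LinearMap.ext fun z => hT ?_
    exact LinearMap.congr_fun h z
  have hβsurj : Function.Surjective β := by
    intro φ
    have hmemT : ∀ z, φ z ∈ LinearMap.range (Groth.Agent.Lib.Helper41.LC.toMod (maximalIdeal A)
        (ModuleCat.of A (A ⧸ (Ideal.ofList xs • (⊤ : Submodule A A))))) := by
      intro z
      refine (Groth.Agent.Lib.Helper41.LC.mem_range_toMod_iff (maximalIdeal A)
        (ModuleCat.of A (A ⧸ (Ideal.ofList xs • (⊤ : Submodule A A)))) (φ z)).mpr
        ⟨1, fun a ha => ?_⟩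
      rw [pow_one] at ha
      have h1 : a • φ z = φ (a • z) := (map_smul φ a z).symm
      rw [smul_residueField a ha z, map_zero] at h1
      exact h1
    refine ⟨(LinearEquiv.ofInjective _ hT).symm.toLinearMap ∘ₗ
      (LinearMap.codRestrict _ φ hmemT), LinearMap.ext fun z => ?_⟩
    show (Groth.Agent.Lib.Helper41.LC.toMod (maximalIdeal A)
        (ModuleCat.of A (A ⧸ (Ideal.ofList xs • (⊤ : Submodule A A)))))
      ((LinearEquiv.ofInjective _ hT).symm ⟨φ z, hmemT z⟩) = φ z
    have h1 := (LinearEquiv.ofInjective _ hT).apply_symm_apply ⟨φ z, hmemT z⟩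
    have h2 := congrArg Subtype.val h1
    rw [LinearEquiv.ofInjective_apply] at h2
    exact h2
  let βe := LinearEquiv.ofBijective β ⟨hβinj, hβsurj⟩
  let γ : (ResidueField A →ₗ[A] ((K ⧸ (Ideal.ofList xs • (⊤ : Submodule A K))) →ₗ[A] E)) ≃ₗ[A]
      (ResidueField A →ₗ[A] ((localCohomology (maximalIdeal A) 0).obj
        (ModuleCat.of A (A ⧸ (Ideal.ofList xs • (⊤ : Submodule A A)))))) :=
    LinearEquiv.congrRight Θ
  let δ := TensorProduct.lift.equiv (RingHom.id A) (ResidueField A)
    (K ⧸ (Ideal.ofList xs • (⊤ : Submodule A K))) E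
  let ε : ResidueField A ⊗[A] (K ⧸ (Ideal.ofList xs • (⊤ : Submodule A K))) ≃ₗ[A]
      ((K ⧸ (Ideal.ofList xs • (⊤ : Submodule A K))) ⧸ (maximalIdeal A •
        (⊤ : Submodule A (K ⧸ (Ideal.ofList xs • (⊤ : Submodule A K)))))) :=
    TensorProduct.quotTensorEquivQuotSMul (K ⧸ (Ideal.ofList xs • (⊤ : Submodule A K)))
      (maximalIdeal A)
  have hle : Ideal.ofList xs ≤ maximalIdeal A :=
    Ideal.span_le.2 (fun x hx => hmem x hx)
  have hNP : (Ideal.ofList xs • (⊤ : Submodule A K)) ≤ (maximalIdeal A • (⊤ : Submodule A K)) :=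
    Submodule.smul_mono_left hle
  have hmap : (maximalIdeal A •
      (⊤ : Submodule A (K ⧸ (Ideal.ofList xs • (⊤ : Submodule A K))))) =
      (maximalIdeal A • (⊤ : Submodule A K)).map
        (Ideal.ofList xs • (⊤ : Submodule A K)).mkQ := by
    rw [Submodule.map_smul'', Submodule.map_top, Submodule.range_mkQ]
  let ζ := (Submodule.quotEquivOfEq _ _ hmap).trans
    (Submodule.quotientQuotientEquivQuotient (Ideal.ofList xs • (⊤ : Submodule A K))
      (maximalIdeal A • (⊤ : Submodule A K)) hNP)
  have hflK : IsFiniteLength A (K ⧸ (maximalIdeal A • (⊤ : Submodule A K))) :=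
    Groth.Agent.S5156.isFiniteLength_of_kill _ (fun a ha t =>
      Groth.Agent.Lib.Helper2.LocResidue.smul_eq_zero_of_mem (maximalIdeal A) a ha t)
  have hfl : IsFiniteLength A
      (ResidueField A ⊗[A] (K ⧸ (Ideal.ofList xs • (⊤ : Submodule A K)))) :=
    Module.length_ne_top_iff.mp (by
      rw [ε.length_eq.trans ζ.length_eq]; exact Module.length_ne_top_iff.mpr hflK)
  have h5 := Groth.Agent.S5170.result A E f hf _ hfl
  exact ρ.length_eq.symm.trans (βe.length_eq.symm.trans (γ.length_eq.symm.trans
    (δ.length_eq.trans (h5.trans (ε.length_eq.trans ζ.length_eq)))))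

end Local

end Groth.Agent.Lib.Helper2.CanonType
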