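import Groth.Agent.Lib.Helper2.EW
import Groth.Agent.Lib.Helper41.LCCompare
import Groth.Agent.Lib.Helper41.LCTorsion
import Groth.Agent.Lib.Helper41.LCVanish

/-!
# `localCohomology I i` as an additive, linear functor; right exactness in top degree
-/

set_option autoImplicit false
universe u

open Function CategoryTheory CategoryTheory.Abelian

namespace Groth.Agent.Lib.Helper2

open Groth.Agent.Lib.Helper41.LC

variable {R : Type u} [CommRing R] (I : Ideal R) (i : ℕ)

instance localCohomology_additive : (localCohomology I i).Additive where
  map_add := by
    intro M N f g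
    apply ModuleCat.hom_ext
    apply LinearMap.ext
    intro x
    obtain ⟨n, e, rfl⟩ := exists_rep x
    rw [ModuleCat.hom_add, LinearMap.add_apply, map_ιH, map_ιH, map_ιH, Ext.mk₀_add, Ext.comp_add,
      map_add]

instance localCohomology_linear : (localCohomology I i).Linear R where
  map_smul := by
    intro M N f r
    apply ModuleCat.hom_ext
    apply LinearMap.ext
    intro x
    obtain ⟨n, e, rfl⟩ := exists_rep x
    rw [ModuleCat.hom_smul, LinearMap.smul_apply, map_ιH, map_ιH, Ext.mk₀_smul, Ext.comp_smul,
      map_smul]

/-- If `H^{i+1}_I` vanishes on all modules then `H^i_I` is right exact. -/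
theorem localCohomology_rightExact
    (hvan : ∀ M : ModuleCat.{u} R, Subsingleton ((localCohomology I (i + 1)).obj M)) :
    EW.RightExact (localCohomology I i) := by
  intro S hS
  refine ⟨map_g_surjective_of_subsingleton I hS i (hvan _), ?_⟩
  intro y
  constructor
  · intro hy
    exact exact₂ I hS i y hy
  · rintro ⟨x, rfl⟩
    exact map_map_eq_zero I (S := S) i x

/-- Right exactness of the top local cohomology `H^n_I` when `dim R ≤ n`. -/
theorem localCohomology_rightExact_of_dim [IsNoetherianRing R] (n : ℕ)
    (hn : ringKrullDim R ≤ n) : EW.RightExact (localCohomology I n) := by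
  apply localCohomology_rightExact
  intro M
  apply subsingleton_of_supportDim_lt I M (n + 1)
  refine lt_of_le_of_lt ((Module.supportDim_le_ringKrullDim R M).trans hn) ?_
  exact_mod_cast Nat.lt_succ_self n

end Groth.Agent.Lib.Helper2
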