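import Groth.Agent.Lib.Helper2.MatlisLC
import Groth.Agent.Lib.Helper2.LCFunctor

/-!
# Top local cohomology of `M/PM` (helper2)

* `ker_map_mkQ`: for a finite module `M` with `dim M ≤ n`, `H^n_I(M) → H^n_I(M/PM)` is surjective
  with kernel inside `P • H^n_I(M)`.
* `assoc_dual_of_surjective`, `assoc_dual_of_ker_le`: transfer of associated primes of `Hom(-, E)`
  along a surjection `g : T → T'` with `ker g ≤ P • T`.
-/

set_option autoImplicit false
universe u

open CategoryTheory IsLocalRing Function

namespace Groth.Agent.Lib.Helper2.CoAss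

open Groth.Agent.Lib.Helper2 Groth.Agent.Lib.Helper41 Groth.Agent.Lib.Helper41.LC

section RightExact

variable {R : Type u} [CommRing R] [IsNoetherianRing R]

theorem supportDim_pi_le (M : Type u) [AddCommGroup M] [Module R M] [Module.Finite R M] (k : ℕ) :
    Module.supportDim R (Fin k → M) ≤ Module.supportDim R M := by
  rw [Module.supportDim_eq_ringKrullDim_quotient_annihilator,
    Module.supportDim_eq_ringKrullDim_quotient_annihilator]
  have hle : Module.annihilator R M ≤ Module.annihilator R (Fin k → M) := by
    intro a ha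
    rw [Module.mem_annihilator] at ha ⊢
    intro v
    ext j
    simp [ha (v j)]
  exact ringKrullDim_le_of_surjective (Ideal.Quotient.factor hle)
    (Ideal.Quotient.factor_surjective hle)

/-- For a finite module `M` with `dim M ≤ n`, the map `H^n_I(M) → H^n_I(M/PM)` is surjective and
its kernel is contained in `P • H^n_I(M)`. -/
theorem ker_map_mkQ (I : Ideal R) (M : Type u) [AddCommGroup M] [Module R M] [Module.Finite R M]
    (n : ℕ) (hn : Module.supportDim R M ≤ n) (P : Ideal R) :
    Function.Surjective
      ((localCohomology I n).map (ModuleCat.ofHom (P • (⊤ : Submodule R M)).mkQ)).hom ∧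
    ∀ y : (localCohomology I n).obj (ModuleCat.of R M),
      ((localCohomology I n).map (ModuleCat.ofHom (P • (⊤ : Submodule R M)).mkQ)).hom y = 0 →
      y ∈ P • (⊤ : Submodule R ((localCohomology I n).obj (ModuleCat.of R M))) := by
  classical
  have hS2 := subQuotSC_shortExact (P • (⊤ : Submodule R M))
  have hvanPM : Subsingleton ((localCohomology I (n + 1)).obj
      (ModuleCat.of R (P • (⊤ : Submodule R M) : Submodule R M))) := by
    apply subsingleton_of_supportDim_lt I ↥(P • (⊤ : Submodule R M)) (n + 1)
    refine lt_of_le_of_lt ((Module.supportDim_le_of_injective (P • (⊤ : Submodule R M)).subtype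
      (P • (⊤ : Submodule R M)).injective_subtype).trans hn) ?_
    exact_mod_cast Nat.lt_succ_self n
  refine ⟨map_g_surjective_of_subsingleton I hS2 n hvanPM, ?_⟩
  intro y hy
  obtain ⟨x₁, hx₁⟩ := exact₂ I hS2 n y hy
  obtain ⟨k, a, ha⟩ := Submodule.fg_iff_exists_fin_generating_family.mp
    (IsNoetherian.noetherian P)
  have haP : ∀ j, a j ∈ P := fun j => ha ▸ Submodule.subset_span ⟨j, rfl⟩
  let σ' : (Fin k → M) →ₗ[R] M := ∑ j, a j • LinearMap.proj j
  have hσ'_apply : ∀ v, σ' v = ∑ j, a j • v j := by
    intro v
    simp [σ']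
  have hσ'mem : ∀ v, σ' v ∈ P • (⊤ : Submodule R M) := by
    intro v
    rw [hσ'_apply]
    exact Submodule.sum_mem _ fun j _ => Submodule.smul_mem_smul (haP j) Submodule.mem_top
  let σ : (Fin k → M) →ₗ[R] ↥(P • (⊤ : Submodule R M)) :=
    σ'.codRestrict (P • (⊤ : Submodule R M)) hσ'mem
  have hσsurj : Function.Surjective σ := by
    rintro ⟨z, hz⟩
    have hzr : z ∈ LinearMap.range σ' := by
      refine Submodule.smul_induction_on hz ?_ ?_
      · intro r hr m _
        rw [← ha] at hr
        obtain ⟨c, rfl⟩ := Ideal.mem_span_range_iff_exists_fun.1 hr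
        refine ⟨fun j => c j • m, ?_⟩
        rw [hσ'_apply, Finset.sum_smul]
        refine Finset.sum_congr rfl fun j _ => ?_
        rw [smul_smul, mul_comm]
      · intro x y hx hy
        exact Submodule.add_mem _ hx hy
    obtain ⟨v, hv⟩ := hzr
    exact ⟨v, Subtype.ext hv⟩
  have hex : Function.Exact (LinearMap.ker σ).subtype σ := by
    intro v
    constructor
    · intro hv
      exact ⟨⟨v, hv⟩, rfl⟩
    · rintro ⟨w, rfl⟩
      exact w.2
  have hS1 := shortExact_of_linearMaps (LinearMap.ker σ).subtype σ
    (LinearMap.ker σ).injective_subtype hσsurj hex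
  have hvanK : Subsingleton ((localCohomology I (n + 1)).obj
      (ModuleCat.of R (LinearMap.ker σ))) := by
    apply subsingleton_of_supportDim_lt I ↥(LinearMap.ker σ) (n + 1)
    refine lt_of_le_of_lt ((Module.supportDim_le_of_injective (LinearMap.ker σ).subtype
      (LinearMap.ker σ).injective_subtype).trans ((supportDim_pi_le M k).trans hn)) ?_
    exact_mod_cast Nat.lt_succ_self n
  obtain ⟨w, hw⟩ := map_g_surjective_of_subsingleton I hS1 n hvanK x₁
  have hcomp : ModuleCat.ofHom σ ≫ ModuleCat.ofHom (P • (⊤ : Submodule R M)).subtype =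
      ∑ j, a j • ModuleCat.ofHom (LinearMap.proj (R := R) (φ := fun _ : Fin k => M) j) := by
    apply ModuleCat.hom_ext
    apply LinearMap.ext
    intro v
    rw [ModuleCat.hom_sum, LinearMap.sum_apply]
    change σ' v = _
    rw [hσ'_apply]
    rfl
  have hy' : y = ((localCohomology I n).map (ModuleCat.ofHom σ ≫
      ModuleCat.ofHom (P • (⊤ : Submodule R M)).subtype)).hom w := by
    rw [Functor.map_comp]
    change y = ((localCohomology I n).map (ModuleCat.ofHom (P • (⊤ : Submodule R M)).subtype)).hom
      (((localCohomology I n).map (ModuleCat.ofHom σ)).hom w)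
    rw [← hx₁]
    congr 1
    exact hw.symm
  rw [hy', hcomp, Functor.map_sum, ModuleCat.hom_sum, LinearMap.sum_apply]
  refine Submodule.sum_mem _ fun j _ => ?_
  rw [Functor.map_smul, ModuleCat.hom_smul, LinearMap.smul_apply]
  exact Submodule.smul_mem_smul (haP j) Submodule.mem_top

end RightExact

section Dual

variable {R : Type u} [CommRing R] [IsNoetherianRing R] {T T' E : Type u} [AddCommGroup T]
  [Module R T] [AddCommGroup T'] [Module R T'] [AddCommGroup E] [Module R E]

theorem assoc_dual_of_surjective (g : T →ₗ[R] T') (hg : Function.Surjective g) :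
    associatedPrimes R (T' →ₗ[R] E) ⊆ associatedPrimes R (T →ₗ[R] E) := by
  apply associatedPrimes.subset_of_injective (f := LinearMap.lcomp R E g)
  intro x x' h
  apply LinearMap.ext
  intro t'
  obtain ⟨t, rfl⟩ := hg t'
  exact LinearMap.congr_fun h t

theorem assoc_dual_of_ker_le (g : T →ₗ[R] T') (hg : Function.Surjective g) (P : Ideal R)
    (hker : LinearMap.ker g ≤ P • (⊤ : Submodule R T))
    (hP : P ∈ associatedPrimes R (T →ₗ[R] E)) : P ∈ associatedPrimes R (T' →ₗ[R] E) := by
  obtain ⟨hPp, x, hx⟩ := isAssociatedPrime_iff.1 hP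
  have hmem : ∀ r : R, r ∈ P ↔ r • x = 0 := by
    intro r
    rw [hx, Submodule.mem_colon_singleton, Submodule.mem_bot]
  have hkill : LinearMap.ker g ≤ LinearMap.ker x := by
    intro t ht
    have ht' := hker ht
    rw [LinearMap.mem_ker]
    refine Submodule.smul_induction_on ht' ?_ ?_
    · intro r hr t _
      have := (hmem r).1 hr
      rw [map_smul, ← LinearMap.smul_apply, this, LinearMap.zero_apply]
    · intro a b ha hb
      rw [map_add, ha, hb, add_zero]
  -- factor x through g
  let e := LinearMap.quotKerEquivOfSurjective g hg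
  let x' : T' →ₗ[R] E := ((LinearMap.ker g).liftQ x hkill) ∘ₗ e.symm.toLinearMap
  have hx' : ∀ t, x' (g t) = x t := by
    intro t
    have : e.symm (g t) = Submodule.Quotient.mk t := by
      rw [LinearEquiv.symm_apply_eq]
      rfl
    change ((LinearMap.ker g).liftQ x hkill) (e.symm (g t)) = x t
    rw [this]
    rfl
  refine isAssociatedPrime_iff.2 ⟨hPp, x', ?_⟩
  ext r
  rw [hmem r, Submodule.mem_colon_singleton, Submodule.mem_bot]
  constructor
  · intro h
    apply LinearMap.ext
    intro t'
    obtain ⟨t, rfl⟩ := hg t'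
    rw [LinearMap.smul_apply, hx', ← LinearMap.smul_apply, h, LinearMap.zero_apply,
      LinearMap.zero_apply]
  · intro h
    apply LinearMap.ext
    intro t
    rw [LinearMap.smul_apply, ← hx', ← LinearMap.smul_apply, h, LinearMap.zero_apply,
      LinearMap.zero_apply]

end Dual

end Groth.Agent.Lib.Helper2.CoAss
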