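import Groth.Agent.Lib.Helper2.CoAss1
import Groth.Agent.Lib.Helper2.HLVT3
import Groth.Agent.S0333
import Groth.Agent.S11614

/-!
# Coassociated primes of the top local cohomology module (helper2)

`coass_top`: over a complete Noetherian local ring, for a finite module `M` of dimension `n`,
`Ass Hom(H^n_I(M), E) = {p ⊇ Ann M prime | dim R/p = n, rad(I + p) = m}`.
-/

set_option autoImplicit false
universe u

open CategoryTheory IsLocalRing Function

namespace Groth.Agent.Lib.Helper2.CoAss

open Groth.Agent.Lib.Helper2 Groth.Agent.Lib.Helper41 Groth.Agent.Lib.Helper41.LC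

section Local

variable {R : Type u} [CommRing R] [IsLocalRing R]

theorem one_le_dim_quotient (a : Ideal R)
    (x : PrimeSpectrum R) (hax : a ≤ x.asIdeal) (hxm : x.asIdeal ≠ maximalIdeal R) :
    1 ≤ ringKrullDim (R ⧸ a) := by
  rw [ringKrullDim_quotient]
  have hlt : x.asIdeal < maximalIdeal R :=
    lt_of_le_of_ne (IsLocalRing.le_maximalIdeal x.2.ne_top) hxm
  have hx : x ∈ PrimeSpectrum.zeroLocus (a : Set R) := hax
  have hm : closedPoint R ∈ PrimeSpectrum.zeroLocus (a : Set R) := le_trans hax hlt.le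
  let s : LTSeries (PrimeSpectrum.zeroLocus (a : Set R)) :=
    (RelSeries.singleton _ ⟨x, hx⟩).snoc ⟨closedPoint R, hm⟩ (by
      show (⟨x, hx⟩ : PrimeSpectrum.zeroLocus (a : Set R)) < ⟨closedPoint R, hm⟩
      rw [Subtype.mk_lt_mk, ← PrimeSpectrum.asIdeal_lt_asIdeal]
      exact hlt)
  have := Order.LTSeries.length_le_krullDim s
  simpa [s] using this

theorem exists_prime_ne_maximal (J : Ideal R) (hJ : J ≠ ⊤)
    (hrad : J.radical ≠ maximalIdeal R) :
    ∃ Q : PrimeSpectrum R, J ≤ Q.asIdeal ∧ Q.asIdeal ≠ maximalIdeal R := by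
  by_contra hcon
  push Not at hcon
  apply hrad
  apply le_antisymm
  · rw [← (Ideal.IsMaximal.isPrime' (maximalIdeal R)).radical]
    exact Ideal.radical_mono (IsLocalRing.le_maximalIdeal hJ)
  · rw [Ideal.radical_eq_sInf, le_sInf_iff]
    rintro Q ⟨hJQ, hQ⟩
    exact (hcon ⟨Q, hQ⟩ hJQ).ge

variable [IsNoetherianRing R]

/-- Vanishing of `H^n_I(N)` for an `R/P`-module `N`, `n = dim R/P`, when `rad(I + P) ≠ m`. -/
theorem subsingleton_of_radical_ne [IsAdicComplete (maximalIdeal R) R] (I P : Ideal R)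
    [hP : P.IsPrime] (n : ℕ) (hn : ringKrullDim (R ⧸ P) = n)
    (hrad : (I ⊔ P).radical ≠ maximalIdeal R)
    (N : Type u) [AddCommGroup N] [Module R N] [Module (R ⧸ P) N] [IsScalarTower R (R ⧸ P) N] :
    Subsingleton (LocCoh.H I n N) := by
  by_cases htop : I ⊔ P = ⊤
  · have key : ∀ z : LocCoh.H I n N, z = 0 := by
      intro z
      obtain ⟨k, e, rfl⟩ := Groth.Agent.Lib.Helper41.LC.exists_rep z
      have h1 : I ^ k ⊔ P = ⊤ := Ideal.pow_sup_eq_top htop
      obtain ⟨a, ha, b, hb, hab⟩ := Submodule.mem_sup.1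
        (h1 ▸ Submodule.mem_top : (1 : R) ∈ I ^ k ⊔ P)
      have hbN : b ∈ Module.annihilator R N := by
        rw [Module.mem_annihilator]
        intro x
        rw [← algebraMap_smul (R ⧸ P) b x, Ideal.Quotient.algebraMap_eq,
          Ideal.Quotient.eq_zero_iff_mem.2 hb, zero_smul]
      rw [← one_smul R (ιH I n (ModuleCat.of R N) k e), ← hab, add_smul,
        smul_ιH_eq_zero I n _ k e a ha, MatlisLC.smul_H_eq_zero I n N b hbN, add_zero]
    exact ⟨fun a b => by rw [key a, key b]⟩
  · obtain ⟨Q, hQ, hQm⟩ := exists_prime_ne_maximal (I ⊔ P) htop hrad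
    have hdim1 : 1 ≤ ringKrullDim (R ⧸ (I ⊔ P)) := one_le_dim_quotient _ Q hQ hQm
    have hPne : P ≠ ⊤ := hP.ne_top
    haveI := Groth.Agent.Lib.Helper64.isLocalRing_quotient P hPne
    haveI := Groth.Agent.Lib.Helper64.isAdicComplete_quotient P hPne
    haveI : IsDomain (R ⧸ P) := Ideal.Quotient.isDomain P
    have hdim2 : 1 ≤ ringKrullDim ((R ⧸ P) ⧸ I.map (algebraMap R (R ⧸ P))) := by
      rw [Ideal.Quotient.algebraMap_eq,
        ringKrullDim_eq_of_ringEquiv (DoubleQuot.quotQuotEquivQuotSup P I), sup_comm]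
      exact hdim1
    have hvan := HLVT.hlvt_domain (R ⧸ P) n hn (I.map (algebraMap R (R ⧸ P))) hdim2
    have hsupp : ∀ p ∈ minimalPrimes (R ⧸ P), ringKrullDim ((R ⧸ P) ⧸ p) = n →
        ∀ hp : p.IsPrime,
          (⟨p, hp⟩ : PrimeSpectrum (R ⧸ P)) ∈ Module.support (R ⧸ P) (R ⧸ P) := by
      intro p _ _ hp
      rw [Module.support_eq_zeroLocus, Module.annihilator_eq_bot.2 inferInstance]
      simp
    haveI h1 : Subsingleton (LocCoh.H (I.map (algebraMap R (R ⧸ P))) n N) :=
      Groth.Agent.S0333.result (R ⧸ P) _ n hn (R ⧸ P) hsupp hvan N n le_rfl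
    obtain ⟨φ, -⟩ := Groth.Agent.S11614.result R (R ⧸ P) I N n
    exact φ.toEquiv.symm.subsingleton

/-- `H^n_I(N) ≃ H^n_m(N)` for an `R/P`-module `N` when `rad(I + P) = m`. -/
theorem nonempty_linearEquiv_H_maximal (I P : Ideal R)
    (hrad : (I ⊔ P).radical = maximalIdeal R) (n : ℕ)
    (N : Type u) [AddCommGroup N] [Module R N] [Module (R ⧸ P) N] [IsScalarTower R (R ⧸ P) N] :
    Nonempty (LocCoh.H I n N ≃ₗ[R] LocCoh.H (maximalIdeal R) n N) := by
  obtain ⟨φ₁, hφ₁⟩ := Groth.Agent.S11614.result R (R ⧸ P) I N n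
  have hmap : (I ⊔ P).map (algebraMap R (R ⧸ P)) = I.map (algebraMap R (R ⧸ P)) := by
    rw [Ideal.map_sup, Ideal.Quotient.algebraMap_eq, Ideal.map_quotient_self, sup_bot_eq]
  obtain ⟨φ₂, hφ₂⟩ : ∃ φ : LocCoh.H (I.map (algebraMap R (R ⧸ P))) n N ≃+ LocCoh.H (I ⊔ P) n N,
      ∀ (r : R) (x : LocCoh.H (I.map (algebraMap R (R ⧸ P))) n N),
        φ (algebraMap R (R ⧸ P) r • x) = r • φ x := by
    have := Groth.Agent.S11614.result R (R ⧸ P) (I ⊔ P) N n
    rwa [hmap] at this
  let ψ : LocCoh.H I n N ≃ₗ[R] LocCoh.H (I ⊔ P) n N :=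
    (φ₁.symm.trans φ₂).toLinearEquiv (by
      intro r x
      obtain ⟨y, rfl⟩ := φ₁.surjective x
      rw [AddEquiv.trans_apply, AddEquiv.trans_apply, ← hφ₁, AddEquiv.symm_apply_apply,
        AddEquiv.symm_apply_apply, hφ₂])
  have hrad' : (I ⊔ P).radical = (maximalIdeal R).radical := by
    rw [hrad, (Ideal.IsMaximal.isPrime' (maximalIdeal R)).radical]
  have e := (localCohomology.isoOfSameRadical hrad' n).app (ModuleCat.of R N)
  exact ⟨ψ.trans e.toLinearEquiv⟩

/-- Support facts for `M/PM` when `P ⊇ Ann M` is prime. -/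
theorem support_facts (M : Type u) [AddCommGroup M] [Module R M] [Module.Finite R M]
    (P : Ideal R) [hP : P.IsPrime] (hPM : Module.annihilator R M ≤ P) :
    P ∈ associatedPrimes R (M ⧸ P • (⊤ : Submodule R M)) ∧
      Module.supportDim R (M ⧸ P • (⊤ : Submodule R M)) = ringKrullDim (R ⧸ P) := by
  have hsupp : Module.support R (M ⧸ P • (⊤ : Submodule R M)) =
      PrimeSpectrum.zeroLocus (P : Set R) := by
    rw [Module.support_quotient]
    apply Set.inter_eq_right.2
    intro q hq
    rw [Module.mem_support_iff_of_finite]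
    exact hPM.trans hq
  constructor
  · apply Module.associatedPrimes.minimalPrimes_annihilator_subset_associatedPrimes
    have hmem : (⟨P, hP⟩ : PrimeSpectrum R) ∈
        Module.support R (M ⧸ P • (⊤ : Submodule R M)) := by
      rw [hsupp]
      exact (le_refl P : P ≤ P)
    have hAnn : Module.annihilator R (M ⧸ P • (⊤ : Submodule R M)) ≤ P :=
      Module.mem_support_iff_of_finite.1 hmem
    have hPAnn : P ≤ Module.annihilator R (M ⧸ P • (⊤ : Submodule R M)) := by
      intro a ha
      rw [Module.mem_annihilator]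
      intro x
      obtain ⟨m, rfl⟩ := Submodule.Quotient.mk_surjective _ x
      rw [← Submodule.Quotient.mk_smul, Submodule.Quotient.mk_eq_zero]
      exact Submodule.smul_mem_smul ha Submodule.mem_top
    exact ⟨⟨hP, hAnn⟩, fun q hq _ => hPAnn.trans hq.2⟩
  · simp only [Module.supportDim]
    rw [hsupp, ringKrullDim_quotient]

variable {E : Type u} [AddCommGroup E] [Module R E]
  (f : ResidueField R →ₗ[R] E) (hf : InjHull.IsInjectiveHull f)

include f hf in
theorem coass_top [IsAdicComplete (maximalIdeal R) R] (I : Ideal R) (M : Type u) [AddCommGroup M]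
    [Module R M] [Module.Finite R M] (n : ℕ) (hn : Module.supportDim R M = n) :
    associatedPrimes R (LocCoh.H I n M →ₗ[R] E) =
      {p : Ideal R | p.IsPrime ∧ Module.annihilator R M ≤ p ∧ ringKrullDim (R ⧸ p) = n ∧
        (I ⊔ p).radical = maximalIdeal R} := by
  ext P
  constructor
  · intro hP
    have hPp : P.IsPrime := (isAssociatedPrime_iff.1 hP).1
    haveI := hPp
    obtain ⟨hsurj, hker⟩ := ker_map_mkQ I M n hn.le P
    have hker' : LinearMap.ker
        ((localCohomology I n).map (ModuleCat.ofHom (P • (⊤ : Submodule R M)).mkQ)).hom ≤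
        P • (⊤ : Submodule R ((localCohomology I n).obj (ModuleCat.of R M))) :=
      fun y hy => hker y (LinearMap.mem_ker.1 hy)
    have hPN := assoc_dual_of_ker_le (E := E) _ hsurj P hker' hP
    have hAnn : Module.annihilator R M ≤ P := by
      obtain ⟨_, x, hx⟩ := isAssociatedPrime_iff.1 hP
      intro a ha
      rw [hx, Submodule.mem_colon_singleton, Submodule.mem_bot]
      apply LinearMap.ext
      intro t
      rw [LinearMap.smul_apply, ← map_smul, MatlisLC.smul_H_eq_zero I n M a ha t, map_zero,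
        LinearMap.zero_apply]
    have hNnt : ¬ Subsingleton (LocCoh.H I n (M ⧸ P • (⊤ : Submodule R M))) := by
      intro hss
      haveI : Subsingleton (LocCoh.H I n (M ⧸ P • (⊤ : Submodule R M)) →ₗ[R] E) :=
        ⟨fun a b => LinearMap.ext fun t => by rw [Subsingleton.elim t 0, map_zero, map_zero]⟩
      have hempty := associatedPrimes.eq_empty_of_subsingleton (R := R)
        (M := LocCoh.H I n (M ⧸ P • (⊤ : Submodule R M)) →ₗ[R] E)
      rw [hempty] at hPN
      exact hPN
    have hdimP : ringKrullDim (R ⧸ P) = n := by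
      obtain ⟨_, hsd⟩ := support_facts M P hAnn
      apply le_antisymm
      · rw [← hn, Module.supportDim_eq_ringKrullDim_quotient_annihilator]
        exact ringKrullDim_le_of_surjective (Ideal.Quotient.factor hAnn)
          (Ideal.Quotient.factor_surjective hAnn)
      · rw [← hsd]
        by_contra hlt
        push Not at hlt
        exact hNnt (subsingleton_of_supportDim_lt I _ n hlt)
    refine ⟨hPp, hAnn, hdimP, ?_⟩
    by_contra hrad
    exact hNnt (subsingleton_of_radical_ne I P n hdimP hrad (M ⧸ P • (⊤ : Submodule R M)))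
  · rintro ⟨hPp, hAnn, hdimP, hrad⟩
    haveI := hPp
    obtain ⟨hsurj, -⟩ := ker_map_mkQ I M n hn.le P
    apply assoc_dual_of_surjective (E := E) _ hsurj
    obtain ⟨ψ⟩ := nonempty_linearEquiv_H_maximal I P hrad n (M ⧸ P • (⊤ : Submodule R M))
    obtain ⟨hass, hsd⟩ := support_facts M P hAnn
    have hmain := (MatlisLC.main f hf (M ⧸ P • (⊤ : Submodule R M)) n (hsd.trans hdimP)).2.2
    have hmem : P ∈ associatedPrimes R
        (LocCoh.H (maximalIdeal R) n (M ⧸ P • (⊤ : Submodule R M)) →ₗ[R] E) := by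
      rw [hmain]
      exact ⟨hass, hdimP⟩
    exact assoc_dual_of_surjective (E := E) ψ.toLinearMap ψ.surjective hmem

end Local

end Groth.Agent.Lib.Helper2.CoAss
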