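import Groth.Agent.Lib.Helper2.CoAss2
import Groth.Agent.Lib.Helper2.CanonReg
import Groth.Agent.Lib.Helper2.CanonLoc
import Groth.Agent.Lib.Helper41.LCArtinian
import Groth.Agent.Lib.Helper88.CohenStruct2
import Groth.Agent.Lib.Helper29.GorCM
import Mathlib.Algebra.Category.ModuleCat.Ext.Finite

/-!
# Cofiniteness of top local cohomology, part 1 (helper2)

* `isArtinian_ext`: `Ext^i(N, M)` is Artinian for `N` finite and `M` Artinian.
* `isFiniteLength_of_isArtinian_of_pow_smul`: an Artinian module killed by `m^k` has finite length.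
* `killIdeal`: for an `R`-algebra `S` acting on an `R`-module `T'`, the ideal of `S` acting as zero on
  `Ext^i_R(R/I, T')`; it contains `I S + Ann_S T'`.
* `exists_pow_le_sup_annihilator`: over a complete local ring, `m^k ≤ J + Ann H^n_J(M)` for
  `dim M ≤ n`.
-/

set_option autoImplicit false
universe u

open CategoryTheory IsLocalRing Function CategoryTheory.Abelian

namespace Groth.Agent.Lib.Helper2.Cofin

open Groth.Agent.Lib.Helper2 Groth.Agent.Lib.Helper41 Groth.Agent.Lib.Helper41.LC

section Art

variable {R : Type u} [CommRing R]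

theorem isArtinian_hom (N M : Type u) [AddCommGroup N] [Module R N] [Module.Finite R N]
    [AddCommGroup M] [Module R M] [IsArtinian R M] : IsArtinian R (N →ₗ[R] M) := by
  obtain ⟨r, g, hg⟩ := Module.Finite.exists_fin' R N
  let Ψ : (N →ₗ[R] M) →ₗ[R] (Fin r → M) :=
    LinearMap.pi (fun j => LinearMap.applyₗ (g (Pi.single j 1)))
  refine isArtinian_of_injective Ψ ?_
  intro φ ψ h
  have h2 : φ ∘ₗ g = ψ ∘ₗ g := by
    apply LinearMap.pi_ext'
    intro j
    apply LinearMap.ext_ring
    have := congrFun h j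
    simpa [Ψ] using this
  apply LinearMap.ext
  intro y
  obtain ⟨v, rfl⟩ := hg y
  exact LinearMap.congr_fun h2 v

theorem isArtinian_ext [IsNoetherianRing R] (N M : ModuleCat.{u} R) [Module.Finite R N]
    [IsArtinian R M] (i : ℕ) : IsArtinian R (Ext.{u} N M i) := by
  induction i generalizing N with
  | zero =>
    haveI := isArtinian_hom (R := R) N M
    exact isArtinian_of_linearEquiv (Ext.linearEquiv₀.trans ModuleCat.homLinearEquiv).symm
  | succ n ih =>
    obtain ⟨N', _, _, _, _, f, surjf⟩ := Module.exists_finite_presentation R N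
    let exac := LinearMap.shortExact_shortComplexKer surjf
    exact isArtinian_of_surjective _ (exac.extClass.precompOfLinear R M (add_comm 1 n))
      (precomp_extClass_surjective_of_projective_X₂ M exac n)

variable [IsLocalRing R] [IsNoetherianRing R]

theorem isFiniteLength_of_isArtinian_of_pow_smul (X : Type u) [AddCommGroup X] [Module R X]
    [IsArtinian R X] (k : ℕ) (hk : ∀ r ∈ maximalIdeal R ^ k, ∀ x : X, r • x = 0) :
    IsFiniteLength R X := by
  rw [isFiniteLength_iff_isNoetherian_isArtinian]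
  refine ⟨?_, inferInstance⟩
  have htors : Module.IsTorsionBySet R X ((maximalIdeal R ^ k : Ideal R) : Set R) :=
    fun x a => hk a.1 a.2 x
  letI : Module (R ⧸ maximalIdeal R ^ k) X := htors.module
  haveI : IsScalarTower R (R ⧸ maximalIdeal R ^ k) X := htors.isScalarTower
  haveI : IsArtinianRing (R ⧸ maximalIdeal R ^ k) := by
    have h1 : IsFiniteLength R (R ⧸ maximalIdeal R ^ k) := isFiniteLength_quotient_pow k
    have h2 : IsArtinian R (R ⧸ maximalIdeal R ^ k) :=
      (isFiniteLength_iff_isNoetherian_isArtinian.1 h1).2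
    exact isArtinian_of_tower R h2
  have hA : IsArtinian (R ⧸ maximalIdeal R ^ k) X :=
    isArtinian_of_tower R (inferInstance : IsArtinian R X)
  have hfin : Module.Finite (R ⧸ maximalIdeal R ^ k) X :=
    ((IsArtinianRing.tfae (R := R ⧸ maximalIdeal R ^ k) (M := X)).out 0 2).mpr hA
  haveI : Module.Finite R X := Module.Finite.trans (R ⧸ maximalIdeal R ^ k) X
  infer_instance

end Art

section Kill

variable (R : Type u) [CommRing R] (S : Type u) [CommRing S] [Algebra R S] (I : Ideal R)
  (T' : Type u) [AddCommGroup T'] [Module R T'] [Module S T'] [IsScalarTower R S T'] (i : ℕ)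

/-- Multiplication by `a : S` as an endomorphism of `T'` in `ModuleCat R`. -/
noncomputable def μ (a : S) : ModuleCat.of R T' ⟶ ModuleCat.of R T' :=
  ModuleCat.ofHom ((LinearMap.lsmul S T' a).restrictScalars R)

theorem μ_apply (a : S) (t : T') : (μ R S T' a).hom t = a • t := rfl

theorem comp_mk₀_comp {X Y Z W : ModuleCat.{u} R} (y : Ext.{u} X Y i) (f : Y ⟶ Z) (g : Z ⟶ W) :
    y.comp (Ext.mk₀ (f ≫ g)) (add_zero i) =
      (y.comp (Ext.mk₀ f) (add_zero i)).comp (Ext.mk₀ g) (add_zero i) := by
  rw [Ext.comp_assoc_of_third_deg_zero, Ext.mk₀_comp_mk₀]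

/-- The ideal of scalars of `S` acting as zero on `Ext^i_R(R/I, T')`. -/
def killIdeal : Ideal S where
  carrier := {a | ∀ y : Ext.{u} (ModuleCat.of R (R ⧸ I)) (ModuleCat.of R T') i,
    y.comp (Ext.mk₀ (μ R S T' a)) (add_zero i) = 0}
  add_mem' := by
    intro a b ha hb y
    have h : μ R S T' (a + b) = μ R S T' a + μ R S T' b := by
      ext t
      exact add_smul a b t
    rw [h, Ext.mk₀_add, Ext.comp_add, ha y, hb y, add_zero]
  zero_mem' := by
    intro y
    have h : μ R S T' 0 = 0 := by
      ext t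
      exact zero_smul S t
    rw [h, Ext.mk₀_zero, Ext.comp_zero]
  smul_mem' := by
    intro c a ha y
    have h : μ R S T' (c • a) = μ R S T' a ≫ μ R S T' c := by
      ext t
      exact mul_smul c a t
    rw [h, comp_mk₀_comp, ha y, Ext.zero_comp]

theorem mem_killIdeal (a : S) : a ∈ killIdeal R S I T' i ↔
    ∀ y : Ext.{u} (ModuleCat.of R (R ⧸ I)) (ModuleCat.of R T') i,
      y.comp (Ext.mk₀ (μ R S T' a)) (add_zero i) = 0 := Iff.rfl

theorem μ_algebraMap (r : R) : μ R S T' (algebraMap R S r) = r • 𝟙 (ModuleCat.of R T') := by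
  ext t
  exact algebraMap_smul S r t

theorem comp_μ_algebraMap (r : R)
    (y : Ext.{u} (ModuleCat.of R (R ⧸ I)) (ModuleCat.of R T') i) :
    y.comp (Ext.mk₀ (μ R S T' (algebraMap R S r))) (add_zero i) = r • y := by
  rw [μ_algebraMap, Ext.mk₀_smul, Ext.comp_smul, Ext.comp_mk₀_id]

theorem map_sup_annihilator_le_killIdeal :
    I.map (algebraMap R S) ⊔ Module.annihilator S T' ≤ killIdeal R S I T' i := by
  apply sup_le
  · rw [Ideal.map_le_iff_le_comap]
    intro r hr
    rw [Ideal.mem_comap, mem_killIdeal]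
    intro y
    rw [comp_μ_algebraMap]
    apply Groth.Agent.Lib.Helper29.GorCM.smul_ext_eq_zero_of_mem_annihilator (R ⧸ I) T'
    rw [Ideal.annihilator_quotient]
    exact hr
  · intro b hb
    rw [mem_killIdeal]
    intro y
    have h : μ R S T' b = 0 := by
      ext t
      exact Module.mem_annihilator.1 hb t
    rw [h, Ext.mk₀_zero, Ext.comp_zero]

theorem smul_eq_zero_of_mem_killIdeal (r : R) (hr : algebraMap R S r ∈ killIdeal R S I T' i)
    (y : Ext.{u} (ModuleCat.of R (R ⧸ I)) (ModuleCat.of R T') i) : r • y = 0 := by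
  rw [← comp_μ_algebraMap R S I T' i r y]
  exact (mem_killIdeal R S I T' i _).1 hr y

end Kill

section Complete

variable (S : Type u) [CommRing S] [IsLocalRing S] [IsNoetherianRing S]
  [IsAdicComplete (maximalIdeal S) S]

theorem exists_pow_le_sup_annihilator (J : Ideal S) (M' : Type u) [AddCommGroup M'] [Module S M']
    [Module.Finite S M'] (n : ℕ) (hn : Module.supportDim S M' ≤ n) :
    ∃ k : ℕ, maximalIdeal S ^ k ≤ J ⊔ Module.annihilator S (LocCoh.H J n M') := by
  by_cases hss : Subsingleton (LocCoh.H J n M')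
  · refine ⟨0, ?_⟩
    rw [Module.annihilator_eq_top_iff.2 hss, sup_top_eq]
    exact le_top
  have hn' : Module.supportDim S M' = n := by
    apply le_antisymm hn
    by_contra hlt
    push Not at hlt
    exact hss (subsingleton_of_supportDim_lt J M' n hlt)
  obtain ⟨E, _, _, f, hf⟩ := exists_injectiveHull S (ResidueField S)
  haveI hart : IsArtinian S (LocCoh.H J n M') := isArtinian_top J n M' hn
  haveI hfin : Module.Finite S (LocCoh.H J n M' →ₗ[S] E) :=
    (finite_dual_and_applyₗ_bijective_of_isArtinian f hf (LocCoh.H J n M')).1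
  have hann : Module.annihilator S (LocCoh.H J n M' →ₗ[S] E) ≤
      Module.annihilator S (LocCoh.H J n M') := by
    intro a ha
    rw [Module.mem_annihilator] at ha ⊢
    intro t
    by_contra hne
    obtain ⟨g, hg⟩ := exists_linearMap_apply_ne_zero f hf (a • t) hne
    apply hg
    rw [map_smul, ← LinearMap.smul_apply, ha g, LinearMap.zero_apply]
  have hcoass := CoAss.coass_top f hf J M' n hn'
  have hrad : maximalIdeal S ≤
      (J ⊔ Module.annihilator S (LocCoh.H J n M' →ₗ[S] E)).radical := by
    rw [Ideal.radical_eq_sInf, le_sInf_iff]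
    rintro Q ⟨hQ, hQp⟩
    haveI := hQp
    obtain ⟨P, hP, hPQ⟩ := Ideal.exists_minimalPrimes_le
      (I := Module.annihilator S (LocCoh.H J n M' →ₗ[S] E)) (J := Q) (le_sup_right.trans hQ)
    have hPass : P ∈ associatedPrimes S (LocCoh.H J n M' →ₗ[S] E) :=
      Module.associatedPrimes.minimalPrimes_annihilator_subset_associatedPrimes S _ hP
    rw [hcoass] at hPass
    obtain ⟨_, _, _, hPrad⟩ := hPass
    rw [← hPrad]
    exact (Ideal.IsPrime.radical_le_iff hQp).2 (sup_le (le_sup_left.trans hQ) hPQ)
  obtain ⟨k, hk⟩ := Ideal.exists_pow_le_of_le_radical_of_fg hrad (IsNoetherian.noetherian _)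
  exact ⟨k, hk.trans (sup_le_sup le_rfl hann)⟩

end Complete

end Groth.Agent.Lib.Helper2.Cofin
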