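import Groth.Agent.Lib.Helper2.Cofin1
import Groth.Agent.Lib.Helper41.OldExt
import Groth.Agent.S11617
import Groth.Agent.S5158
import Groth.Agent.S0543

/-!
# Cofiniteness of top local cohomology, part 2 (helper2)

`isFiniteLength_ext_top`: for a Noetherian local ring `R`, an ideal `I` and a finite module `M` of
dimension `n`, `Ext^i_R(R/I, H^n_I(M))` has finite length for every `i`.
-/

set_option autoImplicit false
universe u

open CategoryTheory IsLocalRing Function CategoryTheory.Abelian

namespace Groth.Agent.Lib.Helper2.Cofin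

open Groth.Agent.Lib.Helper2 Groth.Agent.Lib.Helper41 Groth.Agent.Lib.Helper41.LC

variable (R : Type u) [CommRing R] [IsLocalRing R] [IsNoetherianRing R]

theorem supportDim_tensor_completion_le (M : Type u) [AddCommGroup M] [Module R M]
    [Module.Finite R M] (n : ℕ) (hn : Module.supportDim R M ≤ n) :
    Module.supportDim (AdicCompletion (maximalIdeal R) R)
      (TensorProduct R (AdicCompletion (maximalIdeal R) R) M) ≤ n := by
  classical
  haveI : IsNoetherianRing (AdicCompletion (maximalIdeal R) R) := Groth.Agent.S0543.result R _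
  have hle : (Module.annihilator R M).map (algebraMap R (AdicCompletion (maximalIdeal R) R)) ≤
      Module.annihilator (AdicCompletion (maximalIdeal R) R)
        (TensorProduct R (AdicCompletion (maximalIdeal R) R) M) := by
    rw [Ideal.map_le_iff_le_comap]
    intro r hr
    rw [Ideal.mem_comap, Module.mem_annihilator]
    intro t
    induction t using TensorProduct.induction_on with
    | zero => rw [smul_zero]
    | tmul c x =>
      rw [TensorProduct.smul_tmul', smul_eq_mul, ← Algebra.smul_def, TensorProduct.smul_tmul,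
        Module.mem_annihilator.1 hr x, TensorProduct.tmul_zero]
    | add x y hx hy => rw [smul_add, hx, hy, add_zero]
  rw [Module.supportDim_eq_ringKrullDim_quotient_annihilator]
  refine (CanonReg.dim_quotient_mono hle).trans ?_
  by_cases hat : Module.annihilator R M = ⊤
  · rw [hat, Ideal.map_top]
    haveI : Subsingleton (AdicCompletion (maximalIdeal R) R ⧸
        (⊤ : Ideal (AdicCompletion (maximalIdeal R) R))) :=
      Ideal.Quotient.subsingleton_iff.2 rfl
    rw [ringKrullDim_eq_bot_of_subsingleton]
    exact bot_le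
  obtain ⟨n₀, b, hbm, hn₀, N, hN⟩ :=
    Groth.Agent.Lib.Helper88.CohenStruct2.exists_sop_mod R (Module.annihilator R M) hat
  have hn₀' : n₀ ≤ n := by
    have h1 : ((n₀ : ℕ) : WithBot ℕ∞) ≤ n := by
      rw [hn₀, ← Module.supportDim_eq_ringKrullDim_quotient_annihilator]
      exact hn
    exact_mod_cast h1
  apply CanonReg.dim_quotient_le_of_card
    ((Module.annihilator R M).map (algebraMap R (AdicCompletion (maximalIdeal R) R)))
    (Finset.univ.image (fun j => algebraMap R (AdicCompletion (maximalIdeal R) R) (b j)))
  · intro x hx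
    obtain ⟨j, -, rfl⟩ := Finset.mem_image.1 hx
    rw [AdicCompletion.maximalIdeal_eq_map]
    exact Ideal.mem_map_of_mem _ (hbm j)
  · exact (Finset.card_image_le.trans (by simp)).trans hn₀'
  · apply CanonReg.dim_quotient_le_zero_of_le_radical
    have h1 : maximalIdeal (AdicCompletion (maximalIdeal R) R) ^ N ≤
        (Module.annihilator R M).map (algebraMap R (AdicCompletion (maximalIdeal R) R)) ⊔
          Ideal.span ((Finset.univ.image
            (fun j => algebraMap R (AdicCompletion (maximalIdeal R) R) (b j)) :
              Finset (AdicCompletion (maximalIdeal R) R)) :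
              Set (AdicCompletion (maximalIdeal R) R)) := by
      rw [AdicCompletion.maximalIdeal_eq_map, ← Ideal.map_pow]
      refine (Ideal.map_mono hN).trans ?_
      rw [Ideal.map_sup, Ideal.map_span]
      apply sup_le_sup le_rfl
      apply Ideal.span_mono
      rintro _ ⟨x, ⟨j, rfl⟩, rfl⟩
      simp
    intro x hx
    exact ⟨N, h1 (Ideal.pow_mem_pow hx N)⟩

theorem isFiniteLength_ext_top (I : Ideal R) (M : Type u) [AddCommGroup M] [Module R M]
    [Module.Finite R M] (n : ℕ) (hn : Module.supportDim R M = n) (i : ℕ) :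
    IsFiniteLength R (Ext.{u} (ModuleCat.of R (R ⧸ I)) (ModuleCat.of R (LocCoh.H I n M)) i) := by
  haveI hTart : IsArtinian R (LocCoh.H I n M) := isArtinian_top I n M hn.le
  haveI : IsNoetherianRing (AdicCompletion (maximalIdeal R) R) := Groth.Agent.S0543.result R _
  have hbij := Groth.Agent.S5158.ML.main R (LocCoh.H I n M) isPowerTorsion_of_isArtinian
  let ε : LocCoh.H I n M ≃ₗ[R]
      TensorProduct R (AdicCompletion (maximalIdeal R) R) (LocCoh.H I n M) :=
    LinearEquiv.ofBijective (TensorProduct.mk R (AdicCompletion (maximalIdeal R) R)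
      (LocCoh.H I n M) 1) hbij
  haveI hT'art : IsArtinian R
      (TensorProduct R (AdicCompletion (maximalIdeal R) R) (LocCoh.H I n M)) :=
    isArtinian_of_linearEquiv ε
  haveI hXart : IsArtinian R (Ext.{u} (ModuleCat.of R (R ⧸ I))
      (ModuleCat.of R (TensorProduct R (AdicCompletion (maximalIdeal R) R) (LocCoh.H I n M))) i) :=
    isArtinian_ext _ _ i
  obtain ⟨e⟩ := Groth.Agent.S11617.result R (AdicCompletion (maximalIdeal R) R) I M n
  have hdim := supportDim_tensor_completion_le R M n hn.le
  obtain ⟨k, hk⟩ := exists_pow_le_sup_annihilator (AdicCompletion (maximalIdeal R) R)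
    (I.map (algebraMap R (AdicCompletion (maximalIdeal R) R)))
    (TensorProduct R (AdicCompletion (maximalIdeal R) R) M) n hdim
  rw [← e.annihilator_eq] at hk
  have hkill : ∀ r ∈ maximalIdeal R ^ k, ∀ y : Ext.{u} (ModuleCat.of R (R ⧸ I))
      (ModuleCat.of R (TensorProduct R (AdicCompletion (maximalIdeal R) R) (LocCoh.H I n M))) i,
      r • y = 0 := by
    intro r hr y
    apply smul_eq_zero_of_mem_killIdeal R (AdicCompletion (maximalIdeal R) R) I _ i r _ y
    apply map_sup_annihilator_le_killIdeal R (AdicCompletion (maximalIdeal R) R) I _ i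
    apply hk
    rw [AdicCompletion.maximalIdeal_eq_map, ← Ideal.map_pow]
    exact Ideal.mem_map_of_mem _ hr
  have hfl := isFiniteLength_of_isArtinian_of_pow_smul _ k hkill
  exact (CanonLoc.extLinearEquivOfIso (Iso.refl (ModuleCat.of R (R ⧸ I))) ε.toModuleIso
    i).symm.isFiniteLength hfl

theorem isFiniteLength_oldExt_top (I : Ideal R) (M : Type u) [AddCommGroup M] [Module R M]
    [Module.Finite R M] (n : ℕ) (hn : Module.supportDim R M = n) (i : ℕ) :
    IsFiniteLength R (((_root_.Ext R (ModuleCat.{u} R) i).obj
      (Opposite.op (ModuleCat.of R (R ⧸ I)))).obj (ModuleCat.of R (LocCoh.H I n M))) :=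
  (Groth.Agent.Lib.Helper41.OldExt.oldNew i (ModuleCat.of R (R ⧸ I))
    (ModuleCat.of R (LocCoh.H I n M))).symm.isFiniteLength (isFiniteLength_ext_top R I M n hn i)

end Groth.Agent.Lib.Helper2.Cofin
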