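import Mathlib
import Groth.Prelude.Def_GrLC
import Groth.Agent.Lib.Helper66.GradedInj

/-!
# The coinduced module of a graded ring (helper2)

For a `ι`-graded ring `R = ⊕ 𝒜 h` and an `R`-module `N`, `Coind 𝒜 N` is the module of all functions
`ι → N` with `(r_h • f)(n) = r_h • f (n + h)`.  It satisfies
`Hom_R(X, Coind 𝒜 N) = Hom_R(Cofree 𝒜 X, N)`, so it is injective when `N` is.
Also: maps out of / between helper66's `Cofree` modules (`lift`, `cmap`).
-/

set_option autoImplicit false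
set_option linter.unusedSectionVars false
universe u

namespace Groth.Agent.Lib.Helper2.Coind

open DirectSum Groth.Agent.Lib.Helper66.GradedInj

variable {ι : Type} [AddCommGroup ι] [DecidableEq ι]
variable {R : Type u} [CommRing R] (𝒜 : ι → AddSubgroup R) [GradedRing 𝒜]
variable (N : Type u) [AddCommGroup N] [Module R N]

/-- The coinduced module on `N`: all functions `ι → N`. -/
@[nolint unusedArguments]
def Coind (_𝒜 : ι → AddSubgroup R) (N : Type u) [AddCommGroup N] : Type u := ι → N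

noncomputable instance : AddCommGroup (Coind 𝒜 N) := inferInstanceAs (AddCommGroup (ι → N))

/-- evaluation -/
def ev (f : Coind 𝒜 N) (n : ι) : N := (show ι → N from f) n

/-- constructor -/
def mk (f : ι → N) : Coind 𝒜 N := f

theorem ev_mk (f : ι → N) (n : ι) : ev 𝒜 N (mk 𝒜 N f) n = f n := rfl

theorem coind_ext {f f' : Coind 𝒜 N} (h : ∀ n, ev 𝒜 N f n = ev 𝒜 N f' n) : f = f' := funext h

theorem ev_add (f f' : Coind 𝒜 N) (n : ι) : ev 𝒜 N (f + f') n = ev 𝒜 N f n + ev 𝒜 N f' n := rfl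

theorem ev_zero (n : ι) : ev 𝒜 N (0 : Coind 𝒜 N) n = 0 := rfl

/-- action of a homogeneous element of degree `h` -/
noncomputable def phi (h : ι) : 𝒜 h →+ (Coind 𝒜 N →+ Coind 𝒜 N) where
  toFun a :=
    { toFun := fun f => mk 𝒜 N (fun n => (a : R) • ev 𝒜 N f (n + h))
      map_zero' := by
        refine coind_ext 𝒜 N fun n => ?_
        change (a : R) • ev 𝒜 N (0 : Coind 𝒜 N) (n + h) = 0
        rw [ev_zero, smul_zero]
      map_add' := fun f f' => by
        refine coind_ext 𝒜 N fun n => ?_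
        change (a : R) • ev 𝒜 N (f + f') (n + h) =
          (a : R) • ev 𝒜 N f (n + h) + (a : R) • ev 𝒜 N f' (n + h)
        rw [ev_add, smul_add] }
  map_zero' := by
    refine AddMonoidHom.ext fun f => coind_ext 𝒜 N fun n => ?_
    change ((0 : 𝒜 h) : R) • ev 𝒜 N f (n + h) = 0
    rw [ZeroMemClass.coe_zero, zero_smul]
  map_add' a b := by
    refine AddMonoidHom.ext fun f => coind_ext 𝒜 N fun n => ?_
    change ((a + b : 𝒜 h) : R) • ev 𝒜 N f (n + h) =
      (a : R) • ev 𝒜 N f (n + h) + (b : R) • ev 𝒜 N f (n + h)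
    rw [AddSubgroup.coe_add, add_smul]

/-- the scalar action as a biadditive map -/
noncomputable def mu : R →+ (Coind 𝒜 N →+ Coind 𝒜 N) :=
  (DirectSum.toAddMonoid (phi 𝒜 N)).comp (DirectSum.decomposeAddEquiv 𝒜).toAddMonoidHom

theorem mu_homog {h : ι} {a : R} (ha : a ∈ 𝒜 h) (f : Coind 𝒜 N) (n : ι) :
    ev 𝒜 N (mu 𝒜 N a f) n = a • ev 𝒜 N f (n + h) := by
  unfold mu
  rw [AddMonoidHom.comp_apply]
  change ev 𝒜 N ((DirectSum.toAddMonoid (phi 𝒜 N)) (DirectSum.decompose 𝒜 a) f) n = _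
  rw [DirectSum.decompose_of_mem 𝒜 ha, DirectSum.toAddMonoid_of]
  rfl

theorem mu_one (f : Coind 𝒜 N) : mu 𝒜 N 1 f = f := by
  refine coind_ext 𝒜 N fun n => ?_
  rw [mu_homog 𝒜 N (SetLike.GradedOne.one_mem) f n, add_zero, one_smul]

theorem mu_mul (a b : R) (f : Coind 𝒜 N) : mu 𝒜 N (a * b) f = mu 𝒜 N a (mu 𝒜 N b f) := by
  induction a using DirectSum.Decomposition.inductionOn 𝒜 with
  | zero => simp
  | @homogeneous h a =>
    obtain ⟨a, ha⟩ := a
    induction b using DirectSum.Decomposition.inductionOn 𝒜 with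
    | zero => simp
    | @homogeneous h' b =>
      obtain ⟨b, hb⟩ := b
      refine coind_ext 𝒜 N fun n => ?_
      rw [mu_homog 𝒜 N (SetLike.GradedMul.mul_mem ha hb), mu_homog 𝒜 N ha, mu_homog 𝒜 N hb,
        mul_smul, add_assoc]
    | add b b' hb hb' =>
      rw [mul_add, map_add, AddMonoidHom.add_apply, hb, hb', map_add, AddMonoidHom.add_apply,
        map_add]
  | add a a' ha ha' =>
    rw [add_mul, map_add, AddMonoidHom.add_apply, ha, ha', map_add, AddMonoidHom.add_apply]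

noncomputable instance : Module R (Coind 𝒜 N) where
  smul r x := mu 𝒜 N r x
  one_smul := mu_one 𝒜 N
  mul_smul := mu_mul 𝒜 N
  smul_zero r := map_zero _
  smul_add r := map_add _
  add_smul r s x := by
    change mu 𝒜 N (r + s) x = mu 𝒜 N r x + mu 𝒜 N s x
    rw [map_add, AddMonoidHom.add_apply]
  zero_smul x := by
    change mu 𝒜 N 0 x = 0
    rw [map_zero, AddMonoidHom.zero_apply]

theorem ev_smul_homog {h : ι} {a : R} (ha : a ∈ 𝒜 h) (f : Coind 𝒜 N) (n : ι) :
    ev 𝒜 N (a • f) n = a • ev 𝒜 N f (n + h) := mu_homog 𝒜 N ha f n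

/-! ### Maps out of and between `Cofree` modules -/

section lift

variable {X : Type u} [AddCommGroup X] [Module R X]

/-- additive map out of `Cofree 𝒜 X` given on the `csingle`s -/
noncomputable def liftAdd (F : ι → X →+ N) : Cofree 𝒜 X →+ N :=
  (Finsupp.liftAddHom F).comp (toF 𝒜 X).toAddMonoidHom

theorem liftAdd_csingle (F : ι → X →+ N) (k : ι) (x : X) :
    liftAdd 𝒜 N F (csingle 𝒜 X k x) = F k x := by
  unfold liftAdd
  rw [AddMonoidHom.comp_apply]
  change Finsupp.liftAddHom F (toF 𝒜 X (csingle 𝒜 X k x)) = _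
  rw [toF_csingle, Finsupp.liftAddHom_apply_single]

theorem liftAdd_smul (F : ι → X →+ N)
    (hF : ∀ (h : ι) (a : R), a ∈ 𝒜 h → ∀ (k : ι) (x : X), F (h + k) (a • x) = a • F k x)
    (r : R) (c : Cofree 𝒜 X) : liftAdd 𝒜 N F (r • c) = r • liftAdd 𝒜 N F c := by
  induction r using DirectSum.Decomposition.inductionOn 𝒜 with
  | zero => simp
  | @homogeneous h a =>
    obtain ⟨a, ha⟩ := a
    induction c using cofree_induction 𝒜 X with
    | h0 => simp
    | hs g x => rw [smul_csingle 𝒜 X ha, liftAdd_csingle, liftAdd_csingle, hF h a ha]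
    | hadd x y hx hy => rw [smul_add, map_add, map_add, hx, hy, smul_add]
  | add a a' ha ha' => rw [add_smul, map_add, ha, ha', add_smul]

/-- linear map out of `Cofree 𝒜 X` given on the `csingle`s -/
noncomputable def lift (F : ι → X →+ N)
    (hF : ∀ (h : ι) (a : R), a ∈ 𝒜 h → ∀ (k : ι) (x : X), F (h + k) (a • x) = a • F k x) :
    Cofree 𝒜 X →ₗ[R] N where
  toFun := liftAdd 𝒜 N F
  map_add' := map_add _
  map_smul' := liftAdd_smul 𝒜 N F hF

theorem lift_csingle (F : ι → X →+ N)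
    (hF : ∀ (h : ι) (a : R), a ∈ 𝒜 h → ∀ (k : ι) (x : X), F (h + k) (a • x) = a • F k x)
    (k : ι) (x : X) : lift 𝒜 N F hF (csingle 𝒜 X k x) = F k x := liftAdd_csingle 𝒜 N F k x

variable {Y : Type u} [AddCommGroup Y] [Module R Y]

/-- functoriality of `Cofree` -/
noncomputable def cmap (f : X →ₗ[R] Y) : Cofree 𝒜 X →ₗ[R] Cofree 𝒜 Y :=
  sharp 𝒜 (piece 𝒜 X) (f ∘ₗ eps 𝒜 X)

theorem cmap_csingle (f : X →ₗ[R] Y) (k : ι) (x : X) :
    cmap 𝒜 f (csingle 𝒜 X k x) = csingle 𝒜 Y k (f x) := by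
  unfold cmap
  rw [sharp_of_mem 𝒜 (piece 𝒜 X) _ (csingle_mem_piece 𝒜 X k x), LinearMap.comp_apply, eps_csingle]

theorem coeff_cmap (f : X →ₗ[R] Y) (c : Cofree 𝒜 X) (k : ι) :
    coeff 𝒜 Y (cmap 𝒜 f c) k = f (coeff 𝒜 X c k) := by
  induction c using cofree_induction 𝒜 X with
  | h0 => rw [map_zero, coeff_zero, coeff_zero, map_zero]
  | hs g x =>
    rw [cmap_csingle, coeff_csingle, coeff_csingle]
    split_ifs
    · rfl
    · rw [map_zero]
  | hadd x y hx hy => rw [map_add, coeff_add, coeff_add, hx, hy, map_add]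

theorem cmap_injective (f : X →ₗ[R] Y) (hf : Function.Injective f) :
    Function.Injective (cmap 𝒜 f) := by
  intro c c' h
  apply cofree_ext
  intro k
  apply hf
  rw [← coeff_cmap, ← coeff_cmap, h]

end lift

/-! ### Injectivity -/

theorem injective_coind [Module.Injective R N] : Module.Injective R (Coind 𝒜 N) := by
  refine ⟨fun X Y _ _ _ _ f hf g => ?_⟩
  let F : ι → X →+ N := fun k =>
    { toFun := fun x => ev 𝒜 N (g x) (-k)
      map_zero' := by rw [map_zero]; rfl
      map_add' := fun x y => by rw [map_add]; rfl }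
  have hF : ∀ (h : ι) (a : R), a ∈ 𝒜 h → ∀ (k : ι) (x : X), F (h + k) (a • x) = a • F k x := by
    intro h a ha k x
    change ev 𝒜 N (g (a • x)) (-(h + k)) = a • ev 𝒜 N (g x) (-k)
    have e : -(h + k) + h = -k := by abel
    rw [map_smul, ev_smul_homog 𝒜 N ha, e]
  obtain ⟨H, hH⟩ := Module.Injective.out (R := R) (Q := N) (cmap 𝒜 f) (cmap_injective 𝒜 f hf)
    (lift 𝒜 N F hF)
  let g'Add : Y →+ Coind 𝒜 N :=
    { toFun := fun y => mk 𝒜 N (fun n => H (csingle 𝒜 Y (-n) y))
      map_zero' := by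
        refine coind_ext 𝒜 N fun n => ?_
        change H (csingle 𝒜 Y (-n) 0) = 0
        rw [map_zero, map_zero]
      map_add' := fun y y' => by
        refine coind_ext 𝒜 N fun n => ?_
        change H (csingle 𝒜 Y (-n) (y + y')) =
          H (csingle 𝒜 Y (-n) y) + H (csingle 𝒜 Y (-n) y')
        rw [map_add, map_add] }
  have hsm : ∀ (r : R) (y : Y), g'Add (r • y) = r • g'Add y := by
    intro r y
    induction r using DirectSum.Decomposition.inductionOn 𝒜 with
    | zero => rw [zero_smul, zero_smul, map_zero]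
    | @homogeneous h a =>
      obtain ⟨a, ha⟩ := a
      refine coind_ext 𝒜 N fun n => ?_
      rw [ev_smul_homog 𝒜 N ha]
      change H (csingle 𝒜 Y (-n) (a • y)) = a • H (csingle 𝒜 Y (-(n + h)) y)
      have e : h + -(n + h) = -n := by abel
      rw [← H.map_smul, smul_csingle 𝒜 Y ha, e]
    | add a a' ha ha' => rw [add_smul, map_add, ha, ha', add_smul]
  refine ⟨{ toFun := g'Add, map_add' := map_add _, map_smul' := hsm }, fun x => ?_⟩
  refine coind_ext 𝒜 N fun n => ?_
  change H (csingle 𝒜 Y (-n) (f x)) = ev 𝒜 N (g x) n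
  rw [← cmap_csingle 𝒜 f, hH, lift_csingle]
  change ev 𝒜 N (g x) (- -n) = _
  rw [neg_neg]

end Groth.Agent.Lib.Helper2.Coind
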