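import Mathlib

/-!
# Localization of `Ext`

For a Noetherian ring `R`, a multiplicative set `S`, a finite module `M` and any module `N`, the map
`Ext^i_R(M, N) → Ext^i_{S⁻¹R}(S⁻¹M, S⁻¹N)` induced by the exact localization functor exhibits the
target as the localization of the source.
-/

set_option autoImplicit false
universe u
open CategoryTheory CategoryTheory.Limits CategoryTheory.Abelian

namespace Groth.Agent.Lib.Helper2.ExtLocIso

variable {R : Type u} [CommRing R] (S : Submonoid R)

/-- The localization functor. -/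
noncomputable abbrev LF : ModuleCat.{u} R ⥤ ModuleCat.{u} (Localization S) :=
  ModuleCat.localizedModuleFunctor.{u} S

theorem map_hom {M N : ModuleCat.{u} R} (φ : M ⟶ N) :
    ((LF S).map φ).hom = IsLocalizedModule.mapExtendScalars S (M.localizedModuleMkLinearMap S)
      (N.localizedModuleMkLinearMap S) (Localization S) φ.hom := rfl

/-- `F.map (r • φ) = algebraMap r • F.map φ`. -/
theorem map_smul' (r : R) {M N : ModuleCat.{u} R} (φ : M ⟶ N) :
    (LF S).map (r • φ) = algebraMap R (Localization S) r • (LF S).map φ := by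
  apply ModuleCat.hom_ext
  apply LinearMap.ext
  intro x
  change (IsLocalizedModule.mapExtendScalars S (M.localizedModuleMkLinearMap S)
      (N.localizedModuleMkLinearMap S) (Localization S) (r • φ.hom)) x =
    algebraMap R (Localization S) r • (IsLocalizedModule.mapExtendScalars S
      (M.localizedModuleMkLinearMap S) (N.localizedModuleMkLinearMap S) (Localization S) φ.hom) x
  rw [map_smul, LinearMap.smul_apply, algebraMap_smul]

theorem mapExt_smul (r : R) {M N : ModuleCat.{u} R} {i : ℕ} (e : Ext.{u} M N i) :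
    (r • e).mapExactFunctor (LF S) =
      algebraMap R (Localization S) r • e.mapExactFunctor (LF S) := by
  rw [Ext.smul_eq_comp_mk₀, Ext.mapExactFunctor_comp, Ext.mapExactFunctor_mk₀, map_smul',
    CategoryTheory.Functor.map_id, ← Ext.smul_eq_comp_mk₀]

section Base

variable [IsNoetherianRing R] (M N : ModuleCat.{u} R) [Module.Finite R M]

theorem surj_zero (y : Ext.{u} ((LF S).obj M) ((LF S).obj N) 0) :
    ∃ (e : Ext.{u} M N 0) (s : S),
      algebraMap R (Localization S) (s : R) • y = e.mapExactFunctor (LF S) := by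
  obtain ⟨ψ, rfl⟩ := (Ext.mk₀_bijective _ _).2 y
  haveI : Module.FinitePresentation R M := Module.finitePresentation_of_finite R M
  obtain ⟨⟨φ, s⟩, hφ⟩ := IsLocalizedModule.surj S
    (IsLocalizedModule.mapExtendScalars S (M.localizedModuleMkLinearMap S)
      (N.localizedModuleMkLinearMap S) (Localization S)) ψ.hom
  refine ⟨Ext.mk₀ (ModuleCat.ofHom φ), s, ?_⟩
  rw [Ext.mapExactFunctor_mk₀, ← Ext.mk₀_smul]
  congr 1
  apply ModuleCat.hom_ext
  apply LinearMap.ext
  intro x
  have h1 := LinearMap.congr_fun hφ x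
  refine Eq.trans ?_ h1
  exact algebraMap_smul (Localization S) (s : R) (show ↑(N.localizedModule S) from ψ.hom x)

theorem inj_zero (e : Ext.{u} M N 0) (he : e.mapExactFunctor (LF S) = 0) :
    ∃ s : S, (s : R) • e = 0 := by
  obtain ⟨φ, rfl⟩ := (Ext.mk₀_bijective _ _).2 e
  haveI : Module.FinitePresentation R M := Module.finitePresentation_of_finite R M
  rw [Ext.mapExactFunctor_mk₀] at he
  have h0 : (LF S).map φ = 0 := (Ext.mk₀_bijective _ _).1 (he.trans (Ext.mk₀_zero _ _).symm)
  have h1 : IsLocalizedModule.mapExtendScalars S (M.localizedModuleMkLinearMap S)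
      (N.localizedModuleMkLinearMap S) (Localization S) φ.hom = 0 :=
    congrArg ModuleCat.Hom.hom h0
  obtain ⟨s, hs⟩ := (IsLocalizedModule.eq_zero_iff S _).mp h1
  refine ⟨s, ?_⟩
  rw [← Ext.mk₀_smul]
  have h2 : (s : R) • φ = 0 := by
    apply ModuleCat.hom_ext
    exact hs
  rw [h2, Ext.mk₀_zero]

end Base

/-- **Localization of `Ext`**: surjectivity up to denominators and `S`-torsion kernel. -/
theorem main [IsNoetherianRing R] (N : ModuleCat.{u} R) :
    ∀ (i : ℕ) (M : ModuleCat.{u} R) [Module.Finite R M],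
      (∀ y : Ext.{u} ((LF S).obj M) ((LF S).obj N) i, ∃ (e : Ext.{u} M N i) (s : S),
        algebraMap R (Localization S) (s : R) • y = e.mapExactFunctor (LF S)) ∧
      (∀ e : Ext.{u} M N i, e.mapExactFunctor (LF S) = 0 → ∃ s : S, (s : R) • e = 0) := by
  intro i
  induction i with
  | zero =>
    intro M _
    exact ⟨surj_zero S M N, inj_zero S M N⟩
  | succ i ih =>
    intro M _
    obtain ⟨k, g, hg⟩ := Module.Finite.exists_fin' R M
    have hS := LinearMap.shortExact_shortComplexKer hg
    have hS' := hS.map_of_exact (LF S)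
    haveI : Module.Finite R (LinearMap.ker g) := inferInstance
    haveI hproj : Projective (ModuleCat.of R (Fin k → R)) := inferInstance
    haveI hproj' : Projective ((LF S).obj (ModuleCat.of R (Fin k → R))) :=
      (LF S).projective_obj _
    haveI hproj'' : Projective (g.shortComplexKer.map (LF S)).X₂ := hproj'
    obtain ⟨ihKs, ihKi⟩ := ih (ModuleCat.of R (LinearMap.ker g))
    obtain ⟨ihPs, -⟩ := ih (ModuleCat.of R (Fin k → R))
    have hcl : hS.extClass.mapExactFunctor (LF S) = hS'.extClass :=
      Ext.mapExactFunctor_extClass (LF S) hS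
    constructor
    · intro y
      have h0 : (Ext.mk₀ (g.shortComplexKer.map (LF S)).g).comp y (zero_add (i + 1)) = 0 :=
        Ext.eq_zero_of_projective _
      obtain ⟨y₁, rfl⟩ := Ext.contravariant_sequence_exact₃ hS' _ y h0
        (show 1 + i = i + 1 by omega)
      obtain ⟨e₁, s, hs⟩ := ihKs y₁
      refine ⟨hS.extClass.comp e₁ (show 1 + i = i + 1 by omega), s, ?_⟩
      rw [Ext.mapExactFunctor_comp, hcl, ← hs, Ext.comp_smul]
      rfl
    · intro e he
      have h0 : (Ext.mk₀ g.shortComplexKer.g).comp e (zero_add (i + 1)) = 0 :=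
        Ext.eq_zero_of_projective _
      obtain ⟨e₁, rfl⟩ := Ext.contravariant_sequence_exact₃ hS N e h0
        (show 1 + i = i + 1 by omega)
      rw [Ext.mapExactFunctor_comp, hcl] at he
      obtain ⟨x₂, hx₂⟩ := Ext.contravariant_sequence_exact₁ hS' _ (e₁.mapExactFunctor (LF S))
        (show 1 + i = i + 1 by omega) he
      obtain ⟨v, t, hv⟩ := ihPs x₂
      have he₁' : ((t : R) • e₁ - (Ext.mk₀ g.shortComplexKer.f).comp v
          (zero_add i)).mapExactFunctor (LF S) = 0 := by
        have hsub := map_sub ((LF S).mapExtAddHom _ _ i) ((t : R) • e₁)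
          ((Ext.mk₀ g.shortComplexKer.f).comp v (zero_add i))
        rw [Functor.mapExtAddHom_apply, Functor.mapExtAddHom_apply,
          Functor.mapExtAddHom_apply] at hsub
        rw [hsub, mapExt_smul, Ext.mapExactFunctor_comp, Ext.mapExactFunctor_mk₀, ← hv,
          Ext.comp_smul, ← hx₂]
        exact sub_self _
      obtain ⟨s, hs⟩ := ihKi _ he₁'
      refine ⟨s * t, ?_⟩
      rw [smul_sub, sub_eq_zero, smul_smul] at hs
      rw [Submonoid.coe_mul, ← Ext.comp_smul, hs, Ext.comp_smul, hS.extClass_comp_assoc,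
        smul_zero]

end Groth.Agent.Lib.Helper2.ExtLocIso
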