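import Groth.Agent.Lib.Helper2.HullCrit
import Mathlib.RingTheory.TensorProduct.Quotient
import Mathlib.RingTheory.Flat.Basic
import Mathlib.LinearAlgebra.TensorProduct.Pi

/-!
# Flat local base change with `m_A B = m_B`: lengths and torsion

* `length_baseChange_of_isFiniteLength`: `length_B (B ⊗ N) = length_A N` for `N` of finite length.
* `mem_range_baseChange_torsion`: `(B ⊗ E)[s] = B ⊗ E[s]` for finite `s ⊆ A` and `B` flat.
* `homQuotEquivTorsion`: `Hom(R ⧸ J, T) ≃ T[J]`.
-/

set_option autoImplicit false
universe u

open Function IsLocalRing TensorProduct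

namespace Groth.Agent.Lib.Helper2

section HomQuot

variable {R : Type u} [CommRing R] (J : Ideal R) (T : Type u) [AddCommGroup T] [Module R T]

/-- Evaluation at `1`: `Hom(R ⧸ J, T) → T[J]`. -/
noncomputable def homQuotToTorsion :
    ((R ⧸ J) →ₗ[R] T) →ₗ[R] Submodule.torsionBySet R T (J : Set R) :=
  LinearMap.codRestrict _ (LinearMap.applyₗ (Ideal.Quotient.mk J 1)) (fun ψ => by
    rw [Submodule.mem_torsionBySet_iff]
    rintro ⟨r, hr⟩
    show r • ψ (Ideal.Quotient.mk J 1) = 0
    rw [← map_smul]
    have : r • (Ideal.Quotient.mk J 1 : R ⧸ J) = 0 := by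
      rw [Algebra.smul_def, map_one, mul_one]
      exact Ideal.Quotient.eq_zero_iff_mem.mpr hr
    rw [this, map_zero])

theorem homQuotToTorsion_bijective : Bijective (homQuotToTorsion J T) := by
  constructor
  · intro ψ₁ ψ₂ h
    have h1 : ψ₁ (Ideal.Quotient.mk J 1) = ψ₂ (Ideal.Quotient.mk J 1) := congrArg Subtype.val h
    refine LinearMap.ext fun y => ?_
    obtain ⟨r, rfl⟩ := Ideal.Quotient.mk_surjective y
    have : (Ideal.Quotient.mk J r : R ⧸ J) = r • (Ideal.Quotient.mk J 1) := by
      rw [Algebra.smul_def, map_one, mul_one]; rfl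
    rw [this, map_smul, map_smul, h1]
  · rintro ⟨x, hx⟩
    have hk : ∀ r ∈ J, r • x = 0 := fun r hr =>
      (Submodule.mem_torsionBySet_iff _ _).mp hx ⟨r, hr⟩
    have hle : J ≤ LinearMap.ker (LinearMap.toSpanSingleton R T x) := fun r hr => by
      rw [LinearMap.mem_ker, LinearMap.toSpanSingleton_apply]; exact hk r hr
    refine ⟨Submodule.liftQ J (LinearMap.toSpanSingleton R T x) hle, ?_⟩
    apply Subtype.ext
    show Submodule.liftQ J (LinearMap.toSpanSingleton R T x) hle (Submodule.Quotient.mk 1) = x
    rw [Submodule.liftQ_apply, LinearMap.toSpanSingleton_apply, one_smul]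

/-- `Hom(R ⧸ J, T) ≃ T[J]`. -/
noncomputable def homQuotEquivTorsion :
    ((R ⧸ J) →ₗ[R] T) ≃ₗ[R] Submodule.torsionBySet R T (J : Set R) :=
  LinearEquiv.ofBijective _ (homQuotToTorsion_bijective J T)

end HomQuot

section FlatKernel

variable {A : Type u} [CommRing A] (B : Type u) [CommRing B] [Algebra A B] [Module.Flat A B]

/-- Flat base change commutes with torsion by a finite set. -/
theorem mem_range_baseChange_torsion (E : Type u) [AddCommGroup E] [Module A E] (s : Finset A)
    (x : B ⊗[A] E) (hx : ∀ r ∈ s, (algebraMap A B r) • x = 0) :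
    x ∈ LinearMap.range ((Submodule.torsionBySet A E (s : Set A)).subtype.baseChange B) := by
  classical
  let ρ : E →ₗ[A] ({i : A // i ∈ s} → E) := LinearMap.pi (fun i => LinearMap.lsmul A E i.1)
  have hex : Function.Exact (Submodule.torsionBySet A E (s : Set A)).subtype ρ := by
    intro e
    constructor
    · intro he
      refine ⟨⟨e, ?_⟩, rfl⟩
      rw [Submodule.mem_torsionBySet_iff]
      rintro ⟨i, hi⟩
      exact congrFun he ⟨i, hi⟩
    · rintro ⟨⟨e', he'⟩, rfl⟩
      funext i
      exact (Submodule.mem_torsionBySet_iff _ _).mp he' ⟨i.1, i.2⟩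
  have hex' := Module.Flat.lTensor_exact B hex
  have hkey : ∀ y : B ⊗[A] E, TensorProduct.piRight A A B (fun _ : {i : A // i ∈ s} => E)
      (ρ.lTensor B y) = fun i => (algebraMap A B i.1) • y := by
    intro y
    induction y using TensorProduct.induction_on with
    | zero =>
      rw [map_zero, map_zero]
      funext i
      simp
    | tmul b e =>
      funext i
      rw [LinearMap.lTensor_tmul, TensorProduct.piRight_apply, TensorProduct.piRightHom_tmul]
      show b ⊗ₜ[A] (i.1 • e) = _
      rw [TensorProduct.tmul_smul, algebraMap_smul]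
    | add y₁ y₂ h₁ h₂ =>
      rw [map_add, map_add, h₁, h₂]
      funext i
      simp [smul_add]
  have h0 : ρ.lTensor B x = 0 := by
    apply (TensorProduct.piRight A A B (fun _ : {i : A // i ∈ s} => E)).injective
    rw [hkey, map_zero]
    funext i
    exact hx i.1 i.2
  obtain ⟨z, hz⟩ := (hex' x).mp h0
  exact ⟨z, hz⟩

end FlatKernel

section Length

variable {A : Type u} [CommRing A] [IsLocalRing A] (B : Type u) [CommRing B] [IsLocalRing B]
  [Algebra A B] [Module.Flat A B]
  (hm : (maximalIdeal A).map (algebraMap A B) = maximalIdeal B)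

include hm in
theorem length_baseChange_residue :
    Module.length B (B ⊗[A] (A ⧸ maximalIdeal A)) = 1 := by
  have e := (Algebra.TensorProduct.quotIdealMapEquivTensorQuot B (maximalIdeal A)).toLinearEquiv
  rw [← e.length_eq, hm]
  haveI : IsSimpleModule B (B ⧸ maximalIdeal B) :=
    isSimpleModule_iff_isCoatom.mpr (Ideal.isMaximal_def.mp inferInstance)
  exact Module.length_eq_one B _

include hm in
/-- For a flat local map with `m_A B = m_B`, base change preserves lengths. -/
theorem length_baseChange_of_isFiniteLength (N : Type u) [AddCommGroup N] [Module A N]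
    (hN : IsFiniteLength A N) : Module.length B (B ⊗[A] N) = Module.length A N := by
  induction hN with
  | of_subsingleton =>
    rename_i M _ _ _
    rw [Module.length_eq_zero, Module.length_eq_zero]
  | of_simple_quotient _ ih =>
    rename_i M _ _ N' _ hsimple
    have h1 : Module.length A M = Module.length A N' + Module.length A (M ⧸ N') :=
      Module.length_eq_add_of_exact N'.subtype N'.mkQ N'.injective_subtype N'.mkQ_surjective
        (LinearMap.exact_subtype_mkQ N')
    have h2 : Module.length B (B ⊗[A] M) =
        Module.length B (B ⊗[A] N') + Module.length B (B ⊗[A] (M ⧸ N')) := by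
      refine Module.length_eq_add_of_exact (N'.subtype.baseChange B) (N'.mkQ.baseChange B) ?_ ?_ ?_
      · rw [LinearMap.baseChange_eq_ltensor]
        exact Module.Flat.lTensor_preserves_injective_linearMap _ N'.injective_subtype
      · rw [LinearMap.baseChange_eq_ltensor]
        exact LinearMap.lTensor_surjective B N'.mkQ_surjective
      · rw [LinearMap.baseChange_eq_ltensor, LinearMap.baseChange_eq_ltensor]
        exact Module.Flat.lTensor_exact B (LinearMap.exact_subtype_mkQ N')
    have h3 : Module.length A (M ⧸ N') = 1 := Module.length_eq_one A _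
    have h4 : Module.length B (B ⊗[A] (M ⧸ N')) = 1 := by
      obtain ⟨I, hI, ⟨e⟩⟩ := isSimpleModule_iff_quot_maximal.mp (inferInstance : IsSimpleModule A (M ⧸ N'))
      have hIm : I = maximalIdeal A := IsLocalRing.eq_maximalIdeal hI
      subst hIm
      have e2 : B ⊗[A] (M ⧸ N') ≃ₗ[B] B ⊗[A] (A ⧸ maximalIdeal A) :=
        TensorProduct.AlgebraTensorModule.congr (LinearEquiv.refl B B) e
      rw [e2.length_eq]
      exact length_baseChange_residue B hm
    rw [h2, ih, h4, h1, h3]

end Length

end Groth.Agent.Lib.Helper2
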