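import Mathlib
import Groth.Prelude.Def_GrLC

/-!
# From a grading by submodules to the same grading by additive subgroups

All the `GrLC` structures attached to a `ℤ`-grading `𝒜' : ℤ → Submodule k R` are carried over to the
grading `toAdd 𝒜' : ℤ → AddSubgroup R` with the same pieces.
-/

set_option autoImplicit false
set_option linter.unusedSectionVars false
set_option linter.style.haveILetI false
set_option linter.deprecated false
universe u v

namespace Groth.Agent.Lib.Helper2.GrConv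

open DirectSum GrLC

section

variable {k : Type v} [CommRing k] {R : Type u} [CommRing R] [Algebra k R]
  (𝒜' : ℤ → Submodule k R) [GradedRing 𝒜']

/-- the same pieces, as additive subgroups -/
def toAdd (n : ℤ) : AddSubgroup R := (𝒜' n).toAddSubgroup

theorem mem_toAdd {n : ℤ} {x : R} : x ∈ toAdd 𝒜' n ↔ x ∈ 𝒜' n := Iff.rfl

noncomputable instance instGradedRing : GradedRing (toAdd 𝒜') where
  one_mem := SetLike.GradedOne.one_mem (A := 𝒜')
  mul_mem := by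
    intro i j gi gj hi hj
    exact SetLike.GradedMul.mul_mem (A := 𝒜') hi hj
  decompose' := DirectSum.decompose 𝒜'
  left_inv := fun x => (DirectSum.decompose 𝒜').left_inv x
  right_inv := fun x => (DirectSum.decompose 𝒜').right_inv x

theorem decompose_toAdd (r : R) (i : ℤ) :
    ((DirectSum.decompose (toAdd 𝒜') r i : toAdd 𝒜' i) : R) =
      ((DirectSum.decompose 𝒜' r i : 𝒜' i) : R) := rfl

/-- a homogeneous ideal for `𝒜'` is one for `toAdd 𝒜'` -/
noncomputable def toAddIdeal (m : HomogeneousIdeal 𝒜') : HomogeneousIdeal (toAdd 𝒜') :=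
  ⟨m.toIdeal, fun i _ hr => m.isHomogeneous i hr⟩

/-- and conversely -/
noncomputable def ofAddIdeal (J : HomogeneousIdeal (toAdd 𝒜')) : HomogeneousIdeal 𝒜' :=
  ⟨J.toIdeal, fun i _ hr => J.isHomogeneous i hr⟩

theorem toIdeal_toAddIdeal (m : HomogeneousIdeal 𝒜') : (toAddIdeal 𝒜' m).toIdeal = m.toIdeal := rfl

theorem toIdeal_ofAddIdeal (J : HomogeneousIdeal (toAdd 𝒜')) :
    (ofAddIdeal 𝒜' J).toIdeal = J.toIdeal := rfl

theorem isCoatom_toAddIdeal (J : HomogeneousIdeal 𝒜') (hJ : IsCoatom J) :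
    IsCoatom (toAddIdeal 𝒜' J) := by
  refine ⟨fun h => hJ.1 ?_, fun b hb => ?_⟩
  · apply HomogeneousIdeal.toIdeal_injective
    have h1 := congrArg HomogeneousIdeal.toIdeal h
    rw [toIdeal_toAddIdeal, HomogeneousIdeal.toIdeal_top] at h1
    rw [h1, HomogeneousIdeal.toIdeal_top]
  · have hb' : J < ofAddIdeal 𝒜' b := hb
    have h1 := hJ.2 _ hb'
    apply HomogeneousIdeal.toIdeal_injective
    have h2 := congrArg HomogeneousIdeal.toIdeal h1
    rw [toIdeal_ofAddIdeal, HomogeneousIdeal.toIdeal_top] at h2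
    rw [h2, HomogeneousIdeal.toIdeal_top]

theorem isCoatom_ofAddIdeal (J : HomogeneousIdeal (toAdd 𝒜')) (hJ : IsCoatom J) :
    IsCoatom (ofAddIdeal 𝒜' J) := by
  refine ⟨fun h => hJ.1 ?_, fun b hb => ?_⟩
  · apply HomogeneousIdeal.toIdeal_injective
    have h1 := congrArg HomogeneousIdeal.toIdeal h
    rw [toIdeal_ofAddIdeal, HomogeneousIdeal.toIdeal_top] at h1
    rw [h1, HomogeneousIdeal.toIdeal_top]
  · have hb' : J < toAddIdeal 𝒜' b := hb
    have h1 := hJ.2 _ hb'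
    apply HomogeneousIdeal.toIdeal_injective
    have h2 := congrArg HomogeneousIdeal.toIdeal h1
    rw [toIdeal_toAddIdeal, HomogeneousIdeal.toIdeal_top] at h2
    rw [h2, HomogeneousIdeal.toIdeal_top]

theorem isStarLocal_toAdd (m : HomogeneousIdeal 𝒜') (hm : GrLC.IsStarLocal 𝒜' m) :
    GrLC.IsStarLocal (toAdd 𝒜') (toAddIdeal 𝒜' m) := by
  refine ⟨isCoatom_toAddIdeal 𝒜' m hm.1, fun J hJ => ?_⟩
  have h1 := hm.2 _ (isCoatom_ofAddIdeal 𝒜' J hJ)
  apply HomogeneousIdeal.toIdeal_injective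
  have h2 := congrArg HomogeneousIdeal.toIdeal h1
  rw [toIdeal_ofAddIdeal] at h2
  rw [h2, toIdeal_toAddIdeal]

/-- graded scalar multiplication carries over -/
@[reducible] def gsmulToAdd {M : Type u} [AddCommGroup M] [Module R M] (ℳ : ℤ → AddSubgroup M)
    [h : SetLike.GradedSMul 𝒜' ℳ] : SetLike.GradedSMul (toAdd 𝒜') ℳ :=
  ⟨by
    intro i j ai bj hi hj
    exact h.smul_mem hi hj⟩

/-- and back -/
@[reducible] def gsmulOfAdd {M : Type u} [AddCommGroup M] [Module R M] (ℳ : ℤ → AddSubgroup M)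
    [h : SetLike.GradedSMul (toAdd 𝒜') ℳ] : SetLike.GradedSMul 𝒜' ℳ :=
  ⟨by
    intro i j ai bj hi hj
    exact h.smul_mem hi hj⟩

/-- bundled graded modules carry over -/
noncomputable def gmodToAdd (X : GMod.{u} 𝒜') : GMod.{u} (toAdd 𝒜') :=
  { carrier := X.carrier
    acg := X.acg
    mod := X.mod
    gr := X.gr
    dec := X.dec
    gsmul := gsmulToAdd 𝒜' X.gr }

/-- and back -/
noncomputable def gmodOfAdd (X : GMod.{u} (toAdd 𝒜')) : GMod.{u} 𝒜' :=
  { carrier := X.carrier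
    acg := X.acg
    mod := X.mod
    gr := X.gr
    dec := X.dec
    gsmul := gsmulOfAdd 𝒜' X.gr }

theorem isStarInj_gmodToAdd (X : GMod.{u} 𝒜') (h : GrLC.IsStarInj 𝒜' X.gr) :
    GrLC.IsStarInj (toAdd 𝒜') (gmodToAdd 𝒜' X).gr := by
  intro A B f hf hinj g hg
  exact h (gmodOfAdd 𝒜' A) (gmodOfAdd 𝒜' B) f hf hinj g hg

/-- a *injective resolution carries over -/
noncomputable def resToAdd (I : GrLC.StarInjRes 𝒜' 𝒜') : GrLC.StarInjRes (toAdd 𝒜') (toAdd 𝒜') where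
  X := fun n => gmodToAdd 𝒜' (I.X n)
  d := I.d
  ε := I.ε
  d_grHom := I.d_grHom
  ε_grHom := I.ε_grHom
  ε_injective := I.ε_injective
  exact_zero := I.exact_zero
  exact_succ := I.exact_succ
  starInj := fun n => isStarInj_gmodToAdd 𝒜' (I.X n) (I.starInj n)

variable {E' : Type u} [AddCommGroup E'] [Module R E'] (𝓔 : ℤ → AddSubgroup E')
  [DirectSum.Decomposition 𝓔] [SetLike.GradedSMul 𝒜' 𝓔]

theorem isStarInj_toAdd (h : GrLC.IsStarInj 𝒜' 𝓔) :
    letI := gsmulToAdd 𝒜' 𝓔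
    GrLC.IsStarInj (toAdd 𝒜') 𝓔 := by
  intro A B f hf hinj g hg
  exact h (gmodOfAdd 𝒜' A) (gmodOfAdd 𝒜' B) f hf hinj g hg

theorem isStarInjHull_toAdd (m : HomogeneousIdeal 𝒜') (e : (R ⧸ m.toIdeal) →ₗ[R] E')
    (he : GrLC.IsStarInjHull 𝒜' (GrLC.quotGr 𝒜' m) 𝓔 e) :
    letI := gsmulToAdd 𝒜' 𝓔
    GrLC.IsStarInjHull (toAdd 𝒜') (GrLC.quotGr (toAdd 𝒜') (toAddIdeal 𝒜' m)) 𝓔 e := by
  letI := gsmulToAdd 𝒜' 𝓔
  exact
    { injective := he.injective
      grHom := fun g x hx => he.grHom g x hx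
      essential := he.essential
      starInj := isStarInj_toAdd 𝒜' 𝓔 he.starInj }

variable {C : Type u} [AddCommGroup C] [Module R C] (𝒞 : ℤ → AddSubgroup C)
  [DirectSum.Decomposition 𝒞] [SetLike.GradedSMul 𝒜' 𝒞]

theorem isStarCanonical_toAdd (m : HomogeneousIdeal 𝒜') (n : ℕ) (I : GrLC.StarInjRes 𝒜' 𝒜')
    (hC : GrLC.IsStarCanonical 𝒜' 𝒞 𝓔 m n I) :
    letI := gsmulToAdd 𝒜' 𝓔
    letI := gsmulToAdd 𝒜' 𝒞
    GrLC.IsStarCanonical (toAdd 𝒜') 𝒞 𝓔 (toAddIdeal 𝒜' m) n (resToAdd 𝒜' I) := by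
  letI := gsmulToAdd 𝒜' 𝓔
  letI := gsmulToAdd 𝒜' 𝒞
  obtain ⟨hfin, φ, hφ⟩ := hC
  exact ⟨hfin, φ, fun g x hx => hφ g x hx⟩

end

end Groth.Agent.Lib.Helper2.GrConv
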