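import Groth.Agent.Lib.Helper97.GrHtOne

/-!
# A graded module over a ℤ-graded *local ring whose localisation at the *maximal ideal is free of
rank one is a shift of the ring
-/

set_option autoImplicit false
set_option linter.unusedSectionVars false
set_option linter.style.haveILetI false
set_option linter.deprecated false
universe u

namespace Groth.Agent.Lib.Helper2.GrCyclic

open DirectSum

section

variable {R : Type u} [CommRing R] {𝒜 : ℤ → AddSubgroup R} [GradedRing 𝒜]
  {C : Type u} [AddCommGroup C] [Module R C] {𝒞 : ℤ → AddSubgroup C}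
  [DirectSum.Decomposition 𝒞] [SetLike.GradedSMul 𝒜 𝒞]

theorem decompose_smul_of_mem {x : C} {j : ℤ} (hx : x ∈ 𝒞 j) (r : R) (g : ℤ) :
    (decompose 𝒞 (r • x) g : C) = (decompose 𝒜 r (g - j) : R) • x := by
  classical
  induction r using DirectSum.Decomposition.inductionOn 𝒜 with
  | zero => simp
  | @homogeneous i a =>
    have hmem : (a : R) • x ∈ 𝒞 (i + j) := by
      have h := SetLike.GradedSMul.smul_mem (A := 𝒜) (B := 𝒞) a.2 hx
      rwa [vadd_eq_add] at h
    by_cases h : i + j = g
    · subst h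
      rw [DirectSum.decompose_of_mem_same 𝒞 hmem, add_sub_cancel_right,
        DirectSum.decompose_of_mem_same 𝒜 a.2]
    · rw [DirectSum.decompose_of_mem_ne 𝒞 hmem h,
        DirectSum.decompose_of_mem_ne 𝒜 a.2 (fun h' => h (by rw [h']; ring)), zero_smul]
  | add a b ha hb =>
    rw [add_smul, DirectSum.decompose_add, DirectSum.add_apply, AddSubgroup.coe_add, ha, hb,
      DirectSum.decompose_add, DirectSum.add_apply, AddSubgroup.coe_add, add_smul]

theorem exists_decompose_notMem (m : HomogeneousIdeal 𝒜) {t : R} (ht : t ∉ m.toIdeal) :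
    ∃ i, (decompose 𝒜 t i : R) ∉ m.toIdeal := by
  classical
  by_contra h
  push_neg at h
  apply ht
  rw [← DirectSum.sum_support_decompose 𝒜 t]
  exact Ideal.sum_mem _ fun i _ => h i

variable [IsNoetherianRing R]

theorem exists_mul_eq_one (m : HomogeneousIdeal 𝒜) (hm : GrLC.IsStarLocal 𝒜 m) {x : R} {i : ℤ}
    (hx : x ∈ 𝒜 i) (hxm : x ∉ m.toIdeal) : ∃ v : R, v * x = 1 := by
  have hK : (Ideal.span {x}).IsHomogeneous 𝒜 := by
    apply Ideal.homogeneous_span
    intro w hw
    rw [Set.mem_singleton_iff.1 hw]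
    exact ⟨i, hx⟩
  obtain ⟨K, hKdef⟩ : ∃ K : HomogeneousIdeal 𝒜, K.toIdeal = Ideal.span {x} := ⟨⟨_, hK⟩, rfl⟩
  have hKtop : K = ⊤ := by
    by_contra hne
    apply hxm
    apply Groth.Agent.Lib.Helper97.GrHtOne.le_of_ne_top m hm K hne
    change _ ∈ K.toIdeal
    rw [hKdef]
    exact Ideal.subset_span rfl
  have h1 : (1 : R) ∈ Ideal.span {x} := by
    rw [← hKdef, hKtop, HomogeneousIdeal.toIdeal_top]
    trivial
  exact Ideal.mem_span_singleton'.1 h1

/-- If the localisation of the graded module `C` at the *maximal ideal `m` is free of rank one, then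
`C` is a shift of `R`. -/
theorem exists_bijective_of_localized_equiv (m : HomogeneousIdeal 𝒜) (hm : GrLC.IsStarLocal 𝒜 m)
    [m.toIdeal.IsPrime]
    (ε : LocalizedModule m.toIdeal.primeCompl C ≃ₗ[Localization.AtPrime m.toIdeal]
      Localization.AtPrime m.toIdeal) :
    ∃ (a : ℤ) (f : R →ₗ[R] C), Function.Bijective f ∧ GrLC.IsGrHomDeg 𝒜 𝒞 f a := by
  classical
  let Φ : C →ₗ[R] Localization.AtPrime m.toIdeal :=
    (ε.toLinearMap.restrictScalars R).comp (LocalizedModule.mkLinearMap m.toIdeal.primeCompl C)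
  have hΦ : ∀ y, Φ y = ε (LocalizedModule.mk y (1 : m.toIdeal.primeCompl)) := fun y => rfl
  -- a generator
  obtain ⟨x, s, hxs⟩ : ∃ (x : C) (s : m.toIdeal.primeCompl), LocalizedModule.mk x s = ε.symm 1 :=
    LocalizedModule.induction_on
      (β := fun z => ∃ (x : C) (s : m.toIdeal.primeCompl), LocalizedModule.mk x s = z)
      (fun x s => ⟨x, s, rfl⟩) (ε.symm 1)
  have hux : IsUnit (Φ x) := by
    have h1 : LocalizedModule.mk x (1 : m.toIdeal.primeCompl) =
        (s : R) • LocalizedModule.mk x s := by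
      rw [LocalizedModule.smul'_mk]
      exact (LocalizedModule.mk_cancel s x).symm
    have h2 : Φ x = algebraMap R (Localization.AtPrime m.toIdeal) (s : R) := by
      rw [hΦ, h1, hxs, ← algebraMap_smul (Localization.AtPrime m.toIdeal) (s : R) (ε.symm 1),
        map_smul, LinearEquiv.apply_symm_apply, smul_eq_mul, mul_one]
    rw [h2]
    exact IsLocalization.map_units _ s
  -- a homogeneous generator
  obtain ⟨i, hi⟩ : ∃ i, IsUnit (Φ (decompose 𝒞 x i : C)) := by
    by_contra hcon
    push_neg at hcon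
    have hsum : Φ x = ∑ i ∈ (decompose 𝒞 x).support, Φ (decompose 𝒞 x i : C) := by
      conv_lhs => rw [← DirectSum.sum_support_decompose 𝒞 x]
      rw [map_sum]
    have hmem : Φ x ∈ IsLocalRing.maximalIdeal (Localization.AtPrime m.toIdeal) := by
      rw [hsum]
      exact Ideal.sum_mem _ fun i _ => (IsLocalRing.mem_maximalIdeal _).2 (hcon i)
    exact (IsLocalRing.mem_maximalIdeal _).1 hmem hux
  obtain ⟨c, hcdef⟩ : ∃ c : C, c = (decompose 𝒞 x i : C) := ⟨_, rfl⟩
  have hc : c ∈ 𝒞 i := by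
    rw [hcdef]
    exact (decompose 𝒞 x i).2
  rw [← hcdef] at hi
  have key : ∀ y : C, ∃ t : R, t ∉ m.toIdeal ∧ ∃ r : R, t • y = r • c := by
    intro y
    obtain ⟨w, hw⟩ := hi
    obtain ⟨⟨r, t⟩, hrt⟩ := IsLocalization.mk'_surjective m.toIdeal.primeCompl
      (Φ y * ((w⁻¹ : (Localization.AtPrime m.toIdeal)ˣ) : Localization.AtPrime m.toIdeal))
    have hrt' : IsLocalization.mk' (Localization.AtPrime m.toIdeal) r t =
        Φ y * ((w⁻¹ : (Localization.AtPrime m.toIdeal)ˣ) : Localization.AtPrime m.toIdeal) := hrt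
    have h2 : Φ y = IsLocalization.mk' (Localization.AtPrime m.toIdeal) r t * Φ c := by
      rw [hrt', ← hw, mul_assoc, Units.inv_mul, mul_one]
    have h1 : algebraMap R (Localization.AtPrime m.toIdeal) (t : R) * Φ y =
        algebraMap R (Localization.AtPrime m.toIdeal) r * Φ c := by
      rw [h2, ← mul_assoc, mul_comm (algebraMap R (Localization.AtPrime m.toIdeal) (t : R)),
        IsLocalization.mk'_spec]
    have h3 : Φ ((t : R) • y) = Φ (r • c) := by
      rw [map_smul, map_smul, Algebra.smul_def, Algebra.smul_def, h1]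
    have h3' : ε (LocalizedModule.mk ((t : R) • y) (1 : m.toIdeal.primeCompl)) =
        ε (LocalizedModule.mk (r • c) (1 : m.toIdeal.primeCompl)) := h3
    obtain ⟨u, hu⟩ := LocalizedModule.mk_eq.1 (ε.injective h3')
    refine ⟨(u : R) * (t : R), m.toIdeal.primeCompl.mul_mem u.2 t.2, (u : R) * r, ?_⟩
    simpa [mul_smul, Submonoid.smul_def] using hu
  have hhom : ∀ (g : ℤ) (y : C), y ∈ 𝒞 g → ∃ r : R, r • c = y := by
    intro g y hy
    obtain ⟨t, htm, r, htr⟩ := key y
    obtain ⟨j, hj⟩ := exists_decompose_notMem m htm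
    obtain ⟨v, hv⟩ := exists_mul_eq_one m hm (decompose 𝒜 t j).2 hj
    have h1 : (decompose 𝒞 (t • y) (j + g) : C) = (decompose 𝒞 (r • c) (j + g) : C) := by
      rw [htr]
    rw [decompose_smul_of_mem (𝒜 := 𝒜) hy t (j + g), decompose_smul_of_mem (𝒜 := 𝒜) hc r (j + g),
      add_sub_cancel_right] at h1
    refine ⟨v * (decompose 𝒜 r (j + g - i) : R), ?_⟩
    rw [mul_smul, ← h1, ← mul_smul, hv, one_smul]
  have hsurj' : ∀ y : C, ∃ r : R, r • c = y := by
    intro y
    induction y using DirectSum.Decomposition.inductionOn 𝒞 with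
    | zero => exact ⟨0, zero_smul _ _⟩
    | @homogeneous g y => exact hhom g y y.2
    | add y z hy hz =>
      obtain ⟨a, ha⟩ := hy
      obtain ⟨b, hb⟩ := hz
      exact ⟨a + b, by rw [add_smul, ha, hb]⟩
  have hinjhom : ∀ (g : ℤ) (r : R), r ∈ 𝒜 g → r • c = 0 → r = 0 := by
    intro g r hr hrc
    have h1 : algebraMap R (Localization.AtPrime m.toIdeal) r * Φ c = 0 := by
      rw [← Algebra.smul_def, ← map_smul, hrc, map_zero]
    have h2 : algebraMap R (Localization.AtPrime m.toIdeal) r = 0 := hi.mul_left_eq_zero.1 h1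
    obtain ⟨t, ht⟩ := (IsLocalization.map_eq_zero_iff m.toIdeal.primeCompl
      (Localization.AtPrime m.toIdeal) r).1 h2
    obtain ⟨j, hj⟩ := exists_decompose_notMem m t.2
    obtain ⟨v, hv⟩ := exists_mul_eq_one m hm (decompose 𝒜 (t : R) j).2 hj
    have h3 : r * (decompose 𝒜 (t : R) j : R) = 0 := by
      have h4 := Groth.Agent.Lib.Helper97.GrHtOne.decompose_mul_left hr (t : R) (j + g)
      rw [add_sub_cancel_right, mul_comm r (t : R), ht, DirectSum.decompose_zero,
        DirectSum.zero_apply, ZeroMemClass.coe_zero] at h4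
      exact h4.symm
    calc r = r * (v * (decompose 𝒜 (t : R) j : R)) := by rw [hv, mul_one]
      _ = v * (r * (decompose 𝒜 (t : R) j : R)) := by ring
      _ = 0 := by rw [h3, mul_zero]
  have hinj' : ∀ r : R, r • c = 0 → r = 0 := by
    intro r hrc
    have hcomp : ∀ g, (decompose 𝒜 r g : R) = 0 := by
      intro g
      apply hinjhom g _ (decompose 𝒜 r g).2
      have h1 := decompose_smul_of_mem (𝒜 := 𝒜) hc r (g + i)
      rw [hrc, DirectSum.decompose_zero, DirectSum.zero_apply, ZeroMemClass.coe_zero,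
        add_sub_cancel_right] at h1
      exact h1.symm
    rw [← DirectSum.sum_support_decompose 𝒜 r]
    exact Finset.sum_eq_zero fun g _ => hcomp g
  refine ⟨i, LinearMap.toSpanSingleton R C c, ⟨?_, ?_⟩, ?_⟩
  · refine (injective_iff_map_eq_zero _).2 fun r hr => hinj' r ?_
    rwa [LinearMap.toSpanSingleton_apply] at hr
  · intro y
    obtain ⟨r, hr⟩ := hsurj' y
    exact ⟨r, by rw [LinearMap.toSpanSingleton_apply]; exact hr⟩
  · intro g r hr
    rw [LinearMap.toSpanSingleton_apply]
    have h := SetLike.GradedSMul.smul_mem (A := 𝒜) (B := 𝒞) hr hc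
    rwa [vadd_eq_add] at h

end

end Groth.Agent.Lib.Helper2.GrCyclic
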