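import Groth.Agent.Lib.Helper2.GrCyclic

/-!
# The shift of a free *canonical module is minus the a-invariant
-/

set_option autoImplicit false
set_option linter.unusedSectionVars false
set_option linter.style.haveILetI false
set_option linter.deprecated false
universe u

namespace Groth.Agent.Lib.Helper2.GrDeg

open DirectSum
open Groth.Agent.Lib.Helper2.GrCyclic

section

variable {R : Type u} [CommRing R] {𝒜 : ℤ → AddSubgroup R} [GradedRing 𝒜]
  {E' : Type u} [AddCommGroup E'] [Module R E'] {𝓔 : ℤ → AddSubgroup E'}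
  [DirectSum.Decomposition 𝓔] [SetLike.GradedSMul 𝒜 𝓔]

theorem e_mem_zero (hpos : ∀ n : ℤ, n < 0 → 𝒜 n = ⊥) (m : HomogeneousIdeal 𝒜)
    (hmsp : m.toIdeal = Ideal.span (⋃ n ∈ Set.Ioi (0 : ℤ), (𝒜 n : Set R)))
    (e : (R ⧸ m.toIdeal) →ₗ[R] E') (he : GrLC.IsGrHom (GrLC.quotGr 𝒜 m) 𝓔 e)
    (q : R ⧸ m.toIdeal) : e q ∈ 𝓔 0 := by
  obtain ⟨l, rfl⟩ := Ideal.Quotient.mk_surjective q
  induction l using DirectSum.Decomposition.inductionOn 𝒜 with
  | zero =>
    rw [map_zero, map_zero]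
    exact zero_mem _
  | @homogeneous i x =>
    rcases lt_trichotomy i 0 with hi | hi | hi
    · have hall : ∀ y : R, y ∈ 𝒜 i → y = 0 := by
        intro y hy
        rw [hpos i hi, AddSubgroup.mem_bot] at hy
        exact hy
      have hx : (x : R) = 0 := hall _ x.2
      rw [hx, map_zero, map_zero]
      exact zero_mem _
    · subst hi
      apply he 0
      exact ⟨(x : R), x.2, rfl⟩
    · have hx : (x : R) ∈ m.toIdeal := by
        rw [hmsp]
        apply Ideal.subset_span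
        simp only [Set.mem_iUnion, Set.mem_Ioi]
        exact ⟨i, hi, x.2⟩
      rw [Ideal.Quotient.eq_zero_iff_mem.2 hx, map_zero]
      exact zero_mem _
  | add x y hx hy =>
    rw [map_add, map_add]
    exact add_mem hx hy

theorem piece_pos_eq_zero (hpos : ∀ n : ℤ, n < 0 → 𝒜 n = ⊥) (m : HomogeneousIdeal 𝒜)
    (hmsp : m.toIdeal = Ideal.span (⋃ n ∈ Set.Ioi (0 : ℤ), (𝒜 n : Set R)))
    (e : (R ⧸ m.toIdeal) →ₗ[R] E') (he : GrLC.IsStarInjHull 𝒜 (GrLC.quotGr 𝒜 m) 𝓔 e)
    {j : ℤ} (hj : 0 < j) {x : E'} (hx : x ∈ 𝓔 j) : x = 0 := by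
  classical
  by_contra hx0
  have hP : (Submodule.span R {x}).IsHomogeneous 𝓔 := by
    intro i y hy
    obtain ⟨r, rfl⟩ := Submodule.mem_span_singleton.1 hy
    rw [decompose_smul_of_mem (𝒜 := 𝒜) hx r i]
    exact Submodule.smul_mem _ _ (Submodule.mem_span_singleton_self x)
  have hPne : Submodule.span R {x} ≠ ⊥ := by
    intro h
    apply hx0
    have h1 : x ∈ Submodule.span R {x} := Submodule.mem_span_singleton_self x
    rw [h] at h1
    exact (Submodule.mem_bot R).1 h1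
  have hne := he.essential _ hP hPne
  obtain ⟨y, hy, hy0⟩ := (Submodule.ne_bot_iff _).1 hne
  obtain ⟨hy1, hy2⟩ := Submodule.mem_inf.1 hy
  obtain ⟨r, rfl⟩ := Submodule.mem_span_singleton.1 hy1
  obtain ⟨q, hq⟩ := hy2
  apply hy0
  have h0 : r • x ∈ 𝓔 0 := by
    rw [← hq]
    exact e_mem_zero hpos m hmsp e he.grHom q
  have h1 := DirectSum.decompose_of_mem_same 𝓔 h0
  rw [decompose_smul_of_mem (𝒜 := 𝒜) hx r 0] at h1
  have hall : ∀ y : R, y ∈ 𝒜 (0 - j) → y = 0 := by
    intro y hy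
    rw [hpos (0 - j) (by omega), AddSubgroup.mem_bot] at hy
    exact hy
  have h2 : (decompose 𝒜 r (0 - j) : R) = 0 := hall _ (decompose 𝒜 r (0 - j)).2
  rw [h2, zero_smul] at h1
  exact h1.symm

variable {C : Type u} [AddCommGroup C] [Module R C] {𝒞 : ℤ → AddSubgroup C}
  [DirectSum.Decomposition 𝒞] [SetLike.GradedSMul 𝒜 𝒞]

/-- the map `C = R c → E'` sending `c` to `x` -/
noncomputable def gx (feq : R ≃ₗ[R] C) (x : E') : C →ₗ[R] E' :=
  (LinearMap.toSpanSingleton R E' x) ∘ₗ feq.symm.toLinearMap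

theorem gx_apply (feq : R ≃ₗ[R] C) (x : E') (y : C) : gx feq x y = (feq.symm y) • x := by
  simp [gx, LinearMap.toSpanSingleton_apply]

theorem gx_add (feq : R ≃ₗ[R] C) (x x' : E') : gx feq (x + x') = gx feq x + gx feq x' := by
  ext y
  rw [LinearMap.add_apply, gx_apply, gx_apply, gx_apply, smul_add]

theorem gx_zero (feq : R ≃ₗ[R] C) : gx feq (0 : E') = 0 := by
  ext y
  rw [gx_apply, smul_zero, LinearMap.zero_apply]

/-- If `C` is free on a generator of degree `a` and `Hom(C, E') ≅ H` compatibly with degrees, where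
`H` has top degree `s`, then `a = -s`. -/
theorem shift_eq_neg_end (hpos : ∀ n : ℤ, n < 0 → 𝒜 n = ⊥) (m : HomogeneousIdeal 𝒜)
    (hm : GrLC.IsStarLocal 𝒜 m)
    (hmsp : m.toIdeal = Ideal.span (⋃ n ∈ Set.Ioi (0 : ℤ), (𝒜 n : Set R)))
    (n : ℕ) (I : GrLC.StarInjRes 𝒜 𝒜)
    (e : (R ⧸ m.toIdeal) →ₗ[R] E') (he : GrLC.IsStarInjHull 𝒜 (GrLC.quotGr 𝒜 m) 𝓔 e)
    (φ : (C →ₗ[R] E') ≃ₗ[R] I.H m n)
    (hφ : GrLC.IsGrHom (fun d => (GrLC.homDeg 𝒜 𝒞 𝓔 d).toAddSubgroup) (I.Hgr m n)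
      φ.toLinearMap)
    (hint : DirectSum.IsInternal (I.Hgr m n))
    (a : ℤ) (f : R →ₗ[R] C) (hf : Function.Bijective f) (hdeg : GrLC.IsGrHomDeg 𝒜 𝒞 f a)
    (s : ℤ) (hs1 : ∀ j, s < j → I.Hgr m n j = ⊥) (hs2 : I.Hgr m n s ≠ ⊥) : a = -s := by
  classical
  letI := hint.chooseDecomposition
  obtain ⟨c, hc⟩ : ∃ c : C, c = f 1 := ⟨_, rfl⟩
  have hcmem : c ∈ 𝒞 a := by
    have h := hdeg 0 1 SetLike.GradedOne.one_mem
    rw [zero_add] at h
    rw [hc]
    exact h
  have hfc : ∀ r : R, f r = r • c := by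
    intro r
    rw [hc, ← map_smul, smul_eq_mul, mul_one]
  obtain ⟨feq, hfeq'⟩ : ∃ feq : R ≃ₗ[R] C, ∀ r, feq r = f r :=
    ⟨LinearEquiv.ofBijective f hf, fun r => rfl⟩
  have hfeq : ∀ r, feq r = r • c := fun r => (hfeq' r).trans (hfc r)
  have hsymm_c : feq.symm c = 1 := by
    apply feq.injective
    rw [LinearEquiv.apply_symm_apply, hfeq, one_smul]
  have gx_c : ∀ x : E', gx feq x c = x := by
    intro x
    rw [gx_apply, hsymm_c, one_smul]
  have gx_ev : ∀ g : C →ₗ[R] E', g = gx feq (g c) := by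
    intro g
    ext y
    rw [gx_apply, ← map_smul, ← hfeq, LinearEquiv.apply_symm_apply]
  have hsymm_deg : ∀ (g : ℤ) (y : C), y ∈ 𝒞 g → feq.symm y ∈ 𝒜 (g - a) := by
    intro g y hy
    obtain ⟨r, hr⟩ : ∃ r : R, r = feq.symm y := ⟨_, rfl⟩
    have hry : r • c = y := by rw [← hfeq, hr, LinearEquiv.apply_symm_apply]
    have hy' : r • c ∈ 𝒞 g := by rw [hry]; exact hy
    have h2 := DirectSum.decompose_of_mem_same 𝒞 hy'
    rw [decompose_smul_of_mem (𝒜 := 𝒜) hcmem r g] at h2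
    have h3 : feq ((decompose 𝒜 r (g - a) : R)) = feq r := by
      rw [hfeq, hfeq]
      exact h2
    have h4 := feq.injective h3
    rw [← hr, ← h4]
    exact (decompose 𝒜 r (g - a)).2
  have gx_deg : ∀ (i : ℤ) (x : E'), x ∈ 𝓔 i → GrLC.IsGrHomDeg 𝒞 𝓔 (gx feq x) (i - a) := by
    intro i x hx g y hy
    rw [gx_apply]
    have h := SetLike.GradedSMul.smul_mem (A := 𝒜) (B := 𝓔) (hsymm_deg g y hy) hx
    rw [vadd_eq_add] at h
    have h' : g - a + i = g + (i - a) := by ring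
    rwa [h'] at h
  have hΨmem : ∀ (i : ℤ) (x : E'), x ∈ 𝓔 i → φ (gx feq x) ∈ I.Hgr m n (i - a) :=
    fun i x hx => hφ (i - a) (gx feq x) (gx_deg i x hx)
  have hmne : m.toIdeal ≠ ⊤ := by
    intro h
    apply hm.1.1
    apply HomogeneousIdeal.toIdeal_injective
    rw [h, HomogeneousIdeal.toIdeal_top]
  have h_i : -a ≤ s := by
    by_contra hlt
    push_neg at hlt
    have hbot := hs1 (-a) hlt
    obtain ⟨x0, hx0⟩ : ∃ x0 : E', x0 = e (Ideal.Quotient.mk m.toIdeal 1) := ⟨_, rfl⟩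
    have hx0mem : x0 ∈ 𝓔 0 := by
      rw [hx0]
      exact e_mem_zero hpos m hmsp e he.grHom _
    have hx0ne : x0 ≠ 0 := by
      intro h
      have h1 : Ideal.Quotient.mk m.toIdeal (1 : R) = 0 :=
        he.injective (by rw [← hx0, h, map_zero])
      exact hmne ((Ideal.eq_top_iff_one _).2 (Ideal.Quotient.eq_zero_iff_mem.1 h1))
    have h1 := hΨmem 0 x0 hx0mem
    rw [zero_sub, hbot, AddSubgroup.mem_bot] at h1
    have h2 : gx feq x0 = 0 := φ.injective (h1.trans (map_zero φ).symm)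
    apply hx0ne
    rw [← gx_c x0, h2, LinearMap.zero_apply]
  have h_ii : s ≤ -a := by
    by_contra hlt
    push_neg at hlt
    obtain ⟨h, hh, hh0⟩ : ∃ h ∈ I.Hgr m n s, h ≠ 0 := by
      by_contra hcon
      push_neg at hcon
      apply hs2
      rw [eq_bot_iff]
      intro z hz
      rw [AddSubgroup.mem_bot]
      exact hcon z hz
    have hP : ∀ x : E', ((decompose (I.Hgr m n) (φ (gx feq x))) s : I.H m n) =
        φ (gx feq ((decompose 𝓔 x (s + a) : E'))) := by
      intro x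
      induction x using DirectSum.Decomposition.inductionOn 𝓔 with
      | zero =>
        simp only [gx_zero, map_zero, DirectSum.decompose_zero, DirectSum.zero_apply,
          ZeroMemClass.coe_zero]
      | @homogeneous i x =>
        by_cases hi : i = s + a
        · subst hi
          have h1 := hΨmem (s + a) x x.2
          rw [add_sub_cancel_right] at h1
          rw [DirectSum.decompose_of_mem_same _ h1, DirectSum.decompose_of_mem_same 𝓔 x.2]
        · have h1 := hΨmem i x x.2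
          rw [DirectSum.decompose_of_mem_ne _ h1 (fun h' => hi (by omega)),
            DirectSum.decompose_of_mem_ne 𝓔 x.2 hi, gx_zero, map_zero]
      | add x y hx hy =>
        simp only [gx_add, map_add, DirectSum.decompose_add, DirectSum.add_apply,
          AddSubgroup.coe_add, hx, hy]
    obtain ⟨x, hxdef⟩ : ∃ x : E', x = (φ.symm h) c := ⟨_, rfl⟩
    have hgx : φ (gx feq x) = h := by
      rw [hxdef, ← gx_ev, LinearEquiv.apply_symm_apply]
    have h1 := hP x
    rw [hgx, DirectSum.decompose_of_mem_same _ hh] at h1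
    have h2 : (decompose 𝓔 x (s + a) : E') = 0 :=
      piece_pos_eq_zero hpos m hmsp e he (by omega) (decompose 𝓔 x (s + a)).2
    rw [h2, gx_zero, map_zero] at h1
    exact hh0 h1
  omega

end

end Groth.Agent.Lib.Helper2.GrDeg
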