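import Groth.Agent.Lib.Helper29.ExtRees6
import Groth.Agent.Lib.Helper33.GorFibreRing
import Groth.Agent.Lib.Helper97.GrHtOne

/-!
# A ℤ-graded *local ring is Gorenstein as soon as its localisation at the *maximal ideal is

The proof uses the twisting automorphism `r_d T^i ↦ r_d T^{i - d}` of `R[T;T⁻¹]`: for a prime `P` of
`R`, the prime `P[T;T⁻¹]` is carried to a prime lying over the homogeneous core `P*` of `P`, and the
Gorenstein property passes up and down along `R → R[T;T⁻¹]`.
-/

set_option autoImplicit false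
set_option linter.unusedSectionVars false
set_option linter.style.haveILetI false
set_option linter.deprecated false
universe u

namespace Groth.Agent.Lib.Helper2.GrGor

open LaurentPolynomial DirectSum
open Groth.Agent.Lib.Helper29 Groth.Agent.Lib.Helper29.ExtRees
open Groth.Agent.Lib.Helper33.GorTransfer

section Twist

variable {R : Type u} [CommRing R] (𝒜 : ℤ → AddSubgroup R) [GradedRing 𝒜]

/-- The twist `r ↦ ∑ r_i T^{c i}`. -/
noncomputable def tw (c : ℤ) : R →+* R[T;T⁻¹] :=
  (DirectSum.toSemiring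
    (fun i => ((AddMonoidAlgebra.singleAddHom (c * i) : R →+ R[T;T⁻¹]).comp (𝒜 i).subtype))
    (by
      show AddMonoidAlgebra.single (c * 0)
        ((@GradedMonoid.GOne.one _ (fun i => 𝒜 i) _ _ : 𝒜 0) : R) = 1
      rw [mul_zero, SetLike.coe_gOne, AddMonoidAlgebra.one_def])
    (by
      intro i j ai aj
      show AddMonoidAlgebra.single (c * (i + j))
        ((@GradedMonoid.GMul.mul _ (fun i => 𝒜 i) _ _ _ _ ai aj : 𝒜 (i + j)) : R) =
        AddMonoidAlgebra.single (c * i) (ai : R) * AddMonoidAlgebra.single (c * j) (aj : R)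
      rw [AddMonoidAlgebra.single_mul_single, SetLike.coe_gMul, mul_add])).comp
    (DirectSum.decomposeRingEquiv 𝒜).toRingHom

theorem tw_of_mem (c : ℤ) {i : ℤ} {r : R} (hr : r ∈ 𝒜 i) :
    tw 𝒜 c r = AddMonoidAlgebra.single (c * i) r := by
  unfold tw
  rw [RingHom.comp_apply]
  have h1 : (DirectSum.decomposeRingEquiv 𝒜).toRingHom r =
      DirectSum.of (fun i => 𝒜 i) i ⟨r, hr⟩ := DirectSum.decompose_of_mem 𝒜 hr
  rw [h1, DirectSum.toSemiring_of]
  rfl

theorem coeff_tw_neg (r : R) (n : ℤ) :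
    (tw 𝒜 (-1) r).coeff n = (decompose 𝒜 r (-n) : R) := by
  classical
  induction r using DirectSum.Decomposition.inductionOn 𝒜 with
  | zero => simp
  | @homogeneous i x =>
    rw [tw_of_mem 𝒜 (-1) x.2, AddMonoidAlgebra.coeff_single_apply]
    by_cases h : i = -n
    · subst h
      rw [if_pos (by ring), DirectSum.decompose_of_mem_same 𝒜 x.2]
    · rw [if_neg (fun h' => h (by rw [← h']; ring)), DirectSum.decompose_of_mem_ne 𝒜 x.2 h]
  | add x y hx hy =>
    rw [map_add, AddMonoidAlgebra.coeff_add, Finsupp.add_apply, hx, hy, DirectSum.decompose_add,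
      DirectSum.add_apply, AddSubgroup.coe_add]

/-- The twisting endomorphism of `R[T;T⁻¹]`. -/
noncomputable def sig (c : ℤ) : R[T;T⁻¹] →+* R[T;T⁻¹] :=
  AddMonoidAlgebra.liftNCRingHom (tw 𝒜 c) (AddMonoidAlgebra.of R ℤ) (fun x y => Commute.all _ _)

theorem sig_single_of_mem (c : ℤ) {i : ℤ} {r : R} (hr : r ∈ 𝒜 i) (n : ℤ) :
    sig 𝒜 c (AddMonoidAlgebra.single n r) = AddMonoidAlgebra.single (c * i + n) r := by
  unfold sig
  rw [AddMonoidAlgebra.liftNCRingHom_single, tw_of_mem 𝒜 c hr, AddMonoidAlgebra.of_apply,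
    toAdd_ofAdd, AddMonoidAlgebra.single_mul_single, mul_one]

theorem sig_algebraMap (c : ℤ) (r : R) :
    sig 𝒜 c (algebraMap R R[T;T⁻¹] r) = tw 𝒜 c r := by
  have h : algebraMap R R[T;T⁻¹] r = AddMonoidAlgebra.single 0 r := rfl
  rw [h]
  unfold sig
  rw [AddMonoidAlgebra.liftNCRingHom_single, ofAdd_zero, map_one, mul_one]

theorem sig_comp_sig (c : ℤ) : (sig 𝒜 c).comp (sig 𝒜 (-c)) = RingHom.id _ := by
  apply AddMonoidAlgebra.ringHom_ext
  · intro r
    induction r using DirectSum.Decomposition.inductionOn 𝒜 with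
    | zero => simp
    | @homogeneous i x =>
      rw [RingHom.comp_apply, sig_single_of_mem 𝒜 (-c) x.2, sig_single_of_mem 𝒜 c x.2,
        RingHom.id_apply]
      congr 1
      ring
    | add x y hx hy =>
      rw [AddMonoidAlgebra.single_add, map_add, hx, hy, map_add]
  · intro n
    have h1 : (1 : R) ∈ 𝒜 0 := SetLike.GradedOne.one_mem
    rw [RingHom.comp_apply, sig_single_of_mem 𝒜 (-c) h1, sig_single_of_mem 𝒜 c h1,
      RingHom.id_apply]
    congr 1
    ring

/-- The twisting automorphism of `R[T;T⁻¹]` (forward map `sig (-1)`). -/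
noncomputable def sigEquiv : R[T;T⁻¹] ≃+* R[T;T⁻¹] :=
  RingEquiv.ofRingHom (sig 𝒜 (-1)) (sig 𝒜 1)
    (by
      have h := sig_comp_sig 𝒜 (-1)
      rw [neg_neg] at h
      exact h)
    (sig_comp_sig 𝒜 1)

theorem sigEquiv_apply (x : R[T;T⁻¹]) : sigEquiv 𝒜 x = sig 𝒜 (-1) x := rfl

end Twist

section Gor

variable (A : Type u) [CommRing A] [IsNoetherianRing A]

/-- The fibres of `A → A[T;T⁻¹]` are Gorenstein. -/
theorem isGor_fiber_laurent (p : Ideal A) [p.IsPrime] :
    LocCoh.IsGorensteinRing (p.Fiber A[T;T⁻¹]) := by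
  haveI hk : LocCoh.IsGorensteinLocalRing p.ResidueField := gorenstein_of_field _
  haveI : LocCoh.IsGorensteinRing p.ResidueField :=
    Groth.Agent.Lib.Helper33.GorDescent.isGorensteinRing_of_isGorensteinLocalRing _
  haveI hg : LocCoh.IsGorensteinRing (p.ResidueField[T;T⁻¹]) := isGorensteinRing_laurent _
  exact Groth.Agent.Lib.Helper33.GorRing.isGorensteinRing_of_ringEquiv
    (AddMonoidAlgebra.scalarTensorEquiv A p.ResidueField (M := ℤ)).toRingEquiv.symm

theorem gor_laurent_iff (q : Ideal A[T;T⁻¹]) [q.IsPrime] :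
    LocCoh.IsGorensteinLocalRing (Localization.AtPrime q) ↔
      LocCoh.IsGorensteinLocalRing
        (Localization.AtPrime (q.comap (algebraMap A A[T;T⁻¹]))) := by
  haveI : LocCoh.IsGorensteinRing ((q.comap (algebraMap A A[T;T⁻¹])).Fiber A[T;T⁻¹]) :=
    isGor_fiber_laurent A _
  haveI : IsNoetherianRing (Localization.AtPrime (q.comap (algebraMap A A[T;T⁻¹]))) :=
    IsLocalization.isNoetherianRing (q.comap (algebraMap A A[T;T⁻¹])).primeCompl _ inferInstance
  haveI : IsNoetherianRing (Localization.AtPrime q) :=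
    IsLocalization.isNoetherianRing q.primeCompl _ inferInstance
  exact Groth.Agent.Lib.Helper33.GorFibreRing.gorenstein_localization_iff_of_gorenstein_fiber
    A A[T;T⁻¹] q

end Gor

section Main

variable {R : Type u} [CommRing R] [IsNoetherianRing R] (𝒜 : ℤ → AddSubgroup R) [GradedRing 𝒜]

/-- A ℤ-graded *local Noetherian ring whose localisation at the *maximal ideal is Gorenstein is a
Gorenstein ring. -/
theorem isGorensteinRing_of_localization (m : HomogeneousIdeal 𝒜) (hm : GrLC.IsStarLocal 𝒜 m)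
    [m.toIdeal.IsPrime]
    (hG : LocCoh.IsGorensteinLocalRing (Localization.AtPrime m.toIdeal)) :
    LocCoh.IsGorensteinRing R := by
  classical
  refine ⟨?_⟩
  intro P hP
  obtain ⟨hQ', ⟨ε⟩⟩ := nonempty_ringEquiv_localization_of_ringEquiv (sigEquiv 𝒜) (primeOver P)
  haveI := hQ'
  have hp'le : ((primeOver P).comap ((sigEquiv 𝒜 : R[T;T⁻¹] ≃+* R[T;T⁻¹]) :
      R[T;T⁻¹] →+* R[T;T⁻¹])).comap (algebraMap R R[T;T⁻¹]) ≤ m.toIdeal := by
    intro r hr
    have h1 : sig 𝒜 (-1) (algebraMap R R[T;T⁻¹] r) ∈ primeOver P := hr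
    rw [sig_algebraMap, mem_primeOver_iff] at h1
    have h3 : ∀ i, (decompose 𝒜 r i : R) ∈ P := fun i => by
      have h := h1 (-i)
      rwa [coeff_tw_neg, neg_neg] at h
    have h4 : r ∈ (P.homogeneousCore 𝒜).toIdeal := by
      rw [← DirectSum.sum_support_decompose 𝒜 r]
      exact Ideal.sum_mem _ fun i _ =>
        Ideal.mem_homogeneousCore_of_homogeneous_of_mem ⟨i, (decompose 𝒜 r i).2⟩ (h3 i)
    have hne : P.homogeneousCore 𝒜 ≠ ⊤ := by
      intro htop
      have h1' : (1 : R) ∈ (P.homogeneousCore 𝒜).toIdeal := by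
        rw [htop]
        trivial
      exact hP.ne_top ((Ideal.eq_top_iff_one _).2 (Ideal.toIdeal_homogeneousCore_le 𝒜 P h1'))
    exact Groth.Agent.Lib.Helper97.GrHtOne.le_of_ne_top m hm _ hne h4
  have hG1 := gorLocal_of_le _ m.toIdeal hp'le hG
  have hG2 := (gor_laurent_iff R _).2 hG1
  have hG3 : LocCoh.IsGorensteinLocalRing (Localization.AtPrime (primeOver P)) :=
    gorenstein_of_ringEquiv ε hG2
  have hG4 := (gor_laurent_iff R (primeOver P)).1 hG3
  exact gorLocal_transport _ P (under_primeOver P) hG4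

end Main

end Groth.Agent.Lib.Helper2.GrGor
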