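import Mathlib
import Groth.Prelude.Def_GrLC
import Groth.Agent.Lib.Helper66.Graded
import Groth.Agent.Lib.Helper66.GradedSub

/-!
# ℤ-graded modules: the `(1 - u)`-recursion (helper2)

* `exists_pow_smul_mem`: if `u` is homogeneous of nonzero degree, `x` homogeneous, `Q` a homogeneous
  submodule and `y - u • y - x ∈ Q`, then `u ^ k • x ∈ Q` for some `k`.
* `isHomogeneous_of_forall_mem`: an ideal containing all homogeneous elements of nonzero degree is
  homogeneous.
* `exists_homog_ann_eq`: a homogeneous prime which is the annihilator of an element is the annihilator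
  of a homogeneous element.
* `not_injective_of_core_mem`: a graded module having the graded core of a non-graded prime as an
  associated prime is not injective.
-/

set_option autoImplicit false
set_option linter.unusedSectionVars false
universe u

namespace Groth.Agent.Lib.Helper2.GrRecur

open DirectSum Groth.Agent.Lib.Helper66.Graded Groth.Agent.Lib.Helper66.GradedSub

variable {R : Type u} [CommRing R] (𝒜 : ℤ → AddSubgroup R) [GradedRing 𝒜]
variable {N : Type u} [AddCommGroup N] [Module R N] (𝒩 : ℤ → AddSubgroup N) [Decomposition 𝒩]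
  [SetLike.GradedSMul 𝒜 𝒩]

theorem exists_decompose_eq_zero (y : N) (f : ℕ → ℤ) (hf : Function.Injective f) :
    ∃ j, (decompose 𝒩 y (f j) : N) = 0 := by
  classical
  by_contra hcon
  have h1 : ∀ j, f j ∈ (decompose 𝒩 y).support := by
    intro j
    rw [DFinsupp.mem_support_toFun]
    intro h
    exact hcon ⟨j, by rw [h]; rfl⟩
  have hsub : Set.range f ⊆ ((decompose 𝒩 y).support : Set ℤ) := by
    rintro _ ⟨j, rfl⟩
    exact h1 j
  exact (Set.infinite_range_of_injective hf) ((Finset.finite_toSet _).subset hsub)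

/-- The `(1 - u)`-recursion. -/
theorem exists_pow_smul_mem (Q : Submodule R N) (hQ : Q.IsHomogeneous 𝒩) {d : ℤ} (hd : d ≠ 0)
    {u : R} (hu : u ∈ 𝒜 d) (y : N) {e : ℤ} {x : N} (hx : x ∈ 𝒩 e) (h : y - u • y - x ∈ Q) :
    ∃ k : ℕ, u ^ k • x ∈ Q := by
  have hcomp : ∀ n : ℤ, (decompose 𝒩 y n : N) - u • (decompose 𝒩 y (n - d) : N) -
      (decompose 𝒩 x n : N) ∈ Q := by
    intro n
    have h1 := hQ n h
    rw [decompose_sub, decompose_sub, DirectSum.sub_apply, DirectSum.sub_apply,
      AddSubgroup.coe_sub, AddSubgroup.coe_sub] at h1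
    have h2 := decompose_smul_homog 𝒜 𝒩 hu y (n - d)
    rw [add_sub_cancel] at h2
    rw [h2] at h1
    exact h1
  have R1 : ∀ n : ℤ, n ≠ e → (decompose 𝒩 y n : N) - u • (decompose 𝒩 y (n - d) : N) ∈ Q := by
    intro n hn
    have h1 := hcomp n
    rw [decompose_of_mem_ne 𝒩 hx (Ne.symm hn), sub_zero] at h1
    exact h1
  have R2 : (decompose 𝒩 y e : N) - u • (decompose 𝒩 y (e - d) : N) - x ∈ Q := by
    have h1 := hcomp e
    rw [decompose_of_mem_same 𝒩 hx] at h1
    exact h1
  -- backward recursion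
  have back : ∀ k : ℕ, 1 ≤ k → (decompose 𝒩 y (e - (k : ℤ) * d) : N) ∈ Q := by
    intro k hk
    have step : ∀ j : ℕ, (decompose 𝒩 y (e - (k : ℤ) * d) : N) -
        u ^ j • (decompose 𝒩 y (e - ((k : ℤ) + (j : ℤ)) * d) : N) ∈ Q := by
      intro j
      induction j with
      | zero =>
        rw [pow_zero, one_smul, Nat.cast_zero, add_zero, sub_self]
        exact Q.zero_mem
      | succ j ih =>
        have hne : e - ((k : ℤ) + (j : ℤ)) * d ≠ e := by
          intro h0
          have h00 : ((k : ℤ) + (j : ℤ)) * d = 0 := by linarith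
          rcases mul_eq_zero.mp h00 with h1 | h1
          · omega
          · exact hd h1
        have h1 := R1 _ hne
        have h2 : e - ((k : ℤ) + (j : ℤ)) * d - d = e - ((k : ℤ) + ((j + 1 : ℕ) : ℤ)) * d := by
          push_cast; ring
        rw [h2] at h1
        have h3 := Q.smul_mem (u ^ j) h1
        have h4 := Q.add_mem ih h3
        have e1 : u ^ (j + 1) • (decompose 𝒩 y (e - ((k : ℤ) + ((j + 1 : ℕ) : ℤ)) * d) : N) =
            u ^ j • (u • (decompose 𝒩 y (e - ((k : ℤ) + ((j + 1 : ℕ) : ℤ)) * d) : N)) := by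
          rw [pow_succ, mul_smul]
        rw [e1]
        rw [smul_sub] at h4
        have h5 : (decompose 𝒩 y (e - (k : ℤ) * d) : N) -
            u ^ j • (decompose 𝒩 y (e - ((k : ℤ) + (j : ℤ)) * d) : N) +
            (u ^ j • (decompose 𝒩 y (e - ((k : ℤ) + (j : ℤ)) * d) : N) -
              u ^ j • (u • (decompose 𝒩 y (e - ((k : ℤ) + ((j + 1 : ℕ) : ℤ)) * d) : N))) =
            (decompose 𝒩 y (e - (k : ℤ) * d) : N) -
              u ^ j • (u • (decompose 𝒩 y (e - ((k : ℤ) + ((j + 1 : ℕ) : ℤ)) * d) : N)) := by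
          abel
        rw [h5] at h4
        exact h4
    obtain ⟨j, hj⟩ := exists_decompose_eq_zero 𝒩 y (fun j : ℕ => e - ((k : ℤ) + (j : ℤ)) * d) (by
      intro j j' hjj
      have hjj' : e - ((k : ℤ) + (j : ℤ)) * d = e - ((k : ℤ) + (j' : ℤ)) * d := hjj
      have h2 : ((k : ℤ) + (j : ℤ)) * d = ((k : ℤ) + (j' : ℤ)) * d := by linarith
      have h3 := mul_right_cancel₀ hd h2
      exact_mod_cast add_left_cancel h3)
    have h1 := step j
    have hj' : (decompose 𝒩 y (e - ((k : ℤ) + (j : ℤ)) * d) : N) = 0 := hj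
    rw [hj', smul_zero, sub_zero] at h1
    exact h1
  -- forward recursion
  have fwd : ∀ k : ℕ, (decompose 𝒩 y (e + (k : ℤ) * d) : N) - u ^ k • x ∈ Q := by
    intro k
    induction k with
    | zero =>
      rw [pow_zero, one_smul, Nat.cast_zero, zero_mul, add_zero]
      have hb := back 1 le_rfl
      rw [Nat.cast_one, one_mul] at hb
      have h3 := Q.add_mem R2 (Q.smul_mem u hb)
      have h4 : (decompose 𝒩 y e : N) - u • (decompose 𝒩 y (e - d) : N) - x +
          u • (decompose 𝒩 y (e - d) : N) = (decompose 𝒩 y e : N) - x := by abel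
      rw [h4] at h3
      exact h3
    | succ k ih =>
      have hne : e + ((k + 1 : ℕ) : ℤ) * d ≠ e := by
        intro h0
        have h00 : ((k + 1 : ℕ) : ℤ) * d = 0 := by linarith
        rcases mul_eq_zero.mp h00 with h1 | h1
        · push_cast at h1; omega
        · exact hd h1
      have h1 := R1 _ hne
      have h2 : e + ((k + 1 : ℕ) : ℤ) * d - d = e + (k : ℤ) * d := by push_cast; ring
      rw [h2] at h1
      have h3 := Q.smul_mem u ih
      have h4 := Q.add_mem h1 h3
      have e1 : u ^ (k + 1) • x = u • (u ^ k • x) := by rw [pow_succ', mul_smul]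
      rw [e1]
      rw [smul_sub] at h4
      have h5 : (decompose 𝒩 y (e + ((k + 1 : ℕ) : ℤ) * d) : N) -
          u • (decompose 𝒩 y (e + (k : ℤ) * d) : N) +
          (u • (decompose 𝒩 y (e + (k : ℤ) * d) : N) - u • (u ^ k • x)) =
          (decompose 𝒩 y (e + ((k + 1 : ℕ) : ℤ) * d) : N) - u • (u ^ k • x) := by abel
      rw [h5] at h4
      exact h4
  obtain ⟨k, hk⟩ := exists_decompose_eq_zero 𝒩 y (fun k : ℕ => e + (k : ℤ) * d) (by
    intro k k' hkk
    have hkk' : e + (k : ℤ) * d = e + (k' : ℤ) * d := hkk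
    have h2 : (k : ℤ) * d = (k' : ℤ) * d := by linarith
    have h3 := mul_right_cancel₀ hd h2
    exact_mod_cast h3)
  refine ⟨k, ?_⟩
  have h1 := fwd k
  have hk' : (decompose 𝒩 y (e + (k : ℤ) * d) : N) = 0 := hk
  rw [hk', zero_sub] at h1
  exact (Q.neg_mem_iff).mp h1

/-- An ideal containing all homogeneous elements of nonzero degree is homogeneous. -/
theorem isHomogeneous_of_forall_mem (P : Ideal R)
    (h : ∀ d : ℤ, d ≠ 0 → ∀ u ∈ 𝒜 d, u ∈ P) : P.IsHomogeneous 𝒜 := by
  classical
  intro i r hr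
  by_cases hi : i = 0
  · subst hi
    by_cases h0 : (decompose 𝒜 r 0 : R) = 0
    · rw [h0]; exact P.zero_mem
    · have hmem : (0 : ℤ) ∈ (decompose 𝒜 r).support := by
        rw [DFinsupp.mem_support_toFun]
        intro h'
        exact h0 (by rw [h']; rfl)
      have hsum := DirectSum.sum_support_decompose 𝒜 r
      rw [← Finset.add_sum_erase _ _ hmem] at hsum
      have h1 : ∑ x ∈ (decompose 𝒜 r).support.erase 0, (decompose 𝒜 r x : R) ∈ P :=
        P.sum_mem fun j hj => h j (Finset.ne_of_mem_erase hj) _ (SetLike.coe_mem _)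
      have h2 := eq_sub_of_add_eq hsum
      rw [h2]
      exact P.sub_mem hr h1
  · exact h i hi _ (SetLike.coe_mem _)

variable {M : Type u} [AddCommGroup M] [Module R M] (ℳ : ℤ → AddSubgroup M) [Decomposition ℳ]
  [SetLike.GradedSMul 𝒜 ℳ]

/-- A homogeneous prime which is an annihilator of an element is the annihilator of a homogeneous
element. -/
theorem exists_homog_ann_eq (q : Ideal R) [hq : q.IsPrime] (hqh : q.IsHomogeneous 𝒜) (x : M)
    (hx : ∀ a : R, a • x = 0 ↔ a ∈ q) :
    ∃ (e : ℤ) (x₀ : M), x₀ ∈ ℳ e ∧ ∀ a : R, a • x₀ = 0 ↔ a ∈ q := by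
  classical
  have h1 : ∀ (i : ℤ) (a : R), a ∈ q → a • (decompose ℳ x i : M) = 0 := by
    intro i a ha
    have h2 : ∀ j : ℤ, (decompose 𝒜 a j : R) • (decompose ℳ x i : M) = 0 := by
      intro j
      have h3 : (decompose 𝒜 a j : R) • x = 0 := (hx _).mpr (hqh j ha)
      have h4 := decompose_smul_homog 𝒜 ℳ (SetLike.coe_mem (decompose 𝒜 a j)) x i
      rw [h3, decompose_zero, DirectSum.zero_apply, ZeroMemClass.coe_zero] at h4
      exact h4.symm
    conv_lhs => rw [← DirectSum.sum_support_decompose 𝒜 a]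
    rw [Finset.sum_smul]
    exact Finset.sum_eq_zero fun j _ => h2 j
  have h5 : ∃ i ∈ (decompose ℳ x).support, ∀ a : R, a • (decompose ℳ x i : M) = 0 → a ∈ q := by
    by_contra hcon
    have hc : ∀ i ∈ (decompose ℳ x).support, ∃ a : R, a • (decompose ℳ x i : M) = 0 ∧ a ∉ q := by
      intro i hi
      by_contra h'
      exact hcon ⟨i, hi, fun a ha => by
        by_contra haq
        exact h' ⟨a, ha, haq⟩⟩
    choose! a ha using hc
    have hb : ∏ i ∈ (decompose ℳ x).support, a i ∉ q := by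
      intro hbq
      obtain ⟨i, hi, hiq⟩ := (Ideal.IsPrime.prod_mem_iff).mp hbq
      exact (ha i hi).2 hiq
    have key : ∀ b : R, (∀ i ∈ (decompose ℳ x).support, b • (decompose ℳ x i : M) = 0) →
        b • x = 0 := by
      intro b hb0
      conv_lhs => rw [← DirectSum.sum_support_decompose ℳ x]
      rw [Finset.smul_sum]
      exact Finset.sum_eq_zero hb0
    apply hb
    rw [← hx]
    apply key
    intro i hi
    obtain ⟨c, hc⟩ := Finset.dvd_prod_of_mem a hi
    rw [hc, mul_comm, mul_smul, (ha i hi).1, smul_zero]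
  obtain ⟨i, _, hi⟩ := h5
  exact ⟨i, (decompose ℳ x i : M), SetLike.coe_mem _, fun a => ⟨hi a, h1 i a⟩⟩

/-- Divisibility by elements outside `q` of an element with annihilator `q` in an injective module. -/
theorem exists_smul_eq_of_injective [Module.Injective R M] (q : Ideal R) [hq : q.IsPrime] (x : M)
    (hx : ∀ a : R, a • x = 0 ↔ a ∈ q) (f : R) (hf : f ∉ q) : ∃ y : M, f • y = x := by
  let g : (R ⧸ q) →ₗ[R] M := Submodule.liftQ q (LinearMap.toSpanSingleton R M x) (by
    intro a ha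
    rw [LinearMap.mem_ker, LinearMap.toSpanSingleton_apply]
    exact (hx a).mpr ha)
  let μ : (R ⧸ q) →ₗ[R] (R ⧸ q) := LinearMap.lsmul R (R ⧸ q) f
  have hμ : Function.Injective μ := by
    rw [injective_iff_map_eq_zero]
    intro z hz
    obtain ⟨r, rfl⟩ := Submodule.Quotient.mk_surjective q z
    have hz' : f • (Submodule.Quotient.mk r : R ⧸ q) = 0 := hz
    rw [← Submodule.Quotient.mk_smul, Submodule.Quotient.mk_eq_zero, smul_eq_mul] at hz'
    rw [Submodule.Quotient.mk_eq_zero]
    exact (hq.mem_or_mem hz').resolve_left hf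
  obtain ⟨h, hh⟩ := Module.Injective.out (R := R) (Q := M) μ hμ g
  refine ⟨h (Submodule.Quotient.mk 1), ?_⟩
  rw [← h.map_smul]
  have e1 := hh (Submodule.Quotient.mk 1)
  have e2 : μ (Submodule.Quotient.mk 1) = f • (Submodule.Quotient.mk 1 : R ⧸ q) := rfl
  rw [e2] at e1
  rw [e1]
  change (LinearMap.toSpanSingleton R M x) 1 = x
  rw [LinearMap.toSpanSingleton_apply, one_smul]

include ℳ in
/-- A graded module having the graded core of a non-graded prime as an associated prime is not
injective. -/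
theorem not_injective_of_core_mem [IsNoetherianRing R] (p : Ideal R) [hpp : p.IsPrime]
    (hp : ¬ p.IsHomogeneous 𝒜)
    (hass : (Ideal.homogeneousCore 𝒜 p).toIdeal ∈ associatedPrimes R M) :
    ¬ Module.Injective R M := by
  intro hinj
  obtain ⟨hqp, x, hx⟩ := (isAssociatedPrime_iff).mp hass
  have hqle : (Ideal.homogeneousCore 𝒜 p).toIdeal ≤ p := Ideal.toIdeal_homogeneousCore_le 𝒜 p
  have hqh : (Ideal.homogeneousCore 𝒜 p).toIdeal.IsHomogeneous 𝒜 :=
    (Ideal.homogeneousCore 𝒜 p).isHomogeneous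
  have hx' : ∀ a : R, a • x = 0 ↔ a ∈ (Ideal.homogeneousCore 𝒜 p).toIdeal := by
    intro a
    conv_rhs => rw [hx]
    rw [Submodule.mem_colon_singleton, Submodule.mem_bot]
  obtain ⟨d, hd, u, hu, hup⟩ : ∃ d : ℤ, d ≠ 0 ∧ ∃ u ∈ 𝒜 d, u ∉ p := by
    by_contra hcon
    apply hp
    apply isHomogeneous_of_forall_mem 𝒜 p
    intro d hd u hu
    by_contra hup
    exact hcon ⟨d, hd, u, hu, hup⟩
  obtain ⟨e, x₀, hx₀e, hx₀⟩ := exists_homog_ann_eq 𝒜 ℳ _ hqh x hx'
  have h1u : (1 - u) ∉ (Ideal.homogeneousCore 𝒜 p).toIdeal := by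
    intro h
    have h0 := hqh 0 h
    rw [decompose_sub, DirectSum.sub_apply, AddSubgroup.coe_sub,
      decompose_of_mem_same 𝒜 (SetLike.GradedOne.one_mem), decompose_of_mem_ne 𝒜 hu hd,
      sub_zero] at h0
    exact hqp.ne_top ((Ideal.eq_top_iff_one _).mpr h0)
  obtain ⟨y, hy⟩ := exists_smul_eq_of_injective _ x₀ hx₀ (1 - u) h1u
  obtain ⟨k, hk⟩ := exists_pow_smul_mem 𝒜 ℳ ⊥ (bot_isHomogeneous ℳ) hd hu y hx₀e (by
    rw [Submodule.mem_bot, ← hy, sub_smul, one_smul]
    exact sub_self _)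
  rw [Submodule.mem_bot] at hk
  have hkq : u ^ k ∈ (Ideal.homogeneousCore 𝒜 p).toIdeal := (hx₀ _).mp hk
  exact hup (hqle (hqp.mem_of_pow_mem k hkq))

end Groth.Agent.Lib.Helper2.GrRecur
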