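import Groth.Agent.Lib.Helper64.CRingQuot
import Groth.Agent.Lib.Helper2.CanonAss
import Groth.Agent.Lib.Helper41.LC
import Groth.Agent.Lib.Helper29.Depth
import Groth.Agent.S11642

/-!
# Hartshorne–Lichtenbaum vanishing, part 1: symbolic powers and the Gorenstein case
-/

set_option autoImplicit false
universe u
open IsLocalRing CategoryTheory CategoryTheory.Abelian

namespace Groth.Agent.Lib.Helper2.HLVT

open Groth.Agent.Lib.Helper2 Groth.Agent.Lib.Helper41

section Symb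

variable {B : Type u} [CommRing B] (q : Ideal B) [hq : q.IsPrime]

/-- the `j`-th symbolic power of the prime `q` -/
def symb (j : ℕ) : Ideal B where
  carrier := {x | ∃ s, s ∉ q ∧ s * x ∈ q ^ j}
  add_mem' := by
    rintro x y ⟨s, hs, hsx⟩ ⟨t, ht, hty⟩
    refine ⟨s * t, fun h => (hq.mem_or_mem h).elim hs ht, ?_⟩
    have h1 : s * t * (x + y) = t * (s * x) + s * (t * y) := by ring
    rw [h1]
    exact Ideal.add_mem _ (Ideal.mul_mem_left _ _ hsx) (Ideal.mul_mem_left _ _ hty)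
  zero_mem' := ⟨1, fun h => hq.ne_top ((Ideal.eq_top_iff_one _).2 h), by simp⟩
  smul_mem' := by
    rintro c x ⟨s, hs, hsx⟩
    refine ⟨s, hs, ?_⟩
    have h1 : s * (c • x) = c * (s * x) := by rw [smul_eq_mul]; ring
    rw [h1]
    exact Ideal.mul_mem_left _ _ hsx

theorem mem_symb {j : ℕ} {x : B} : x ∈ symb q j ↔ ∃ s, s ∉ q ∧ s * x ∈ q ^ j := Iff.rfl

theorem pow_le_symb (j : ℕ) : q ^ j ≤ symb q j := fun x hx =>
  ⟨1, fun h => hq.ne_top ((Ideal.eq_top_iff_one _).2 h), by rwa [one_mul]⟩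

theorem symb_antitone : Antitone (symb q) := by
  rintro i j hij x ⟨s, hs, hsx⟩
  exact ⟨s, hs, Ideal.pow_le_pow_right hij hsx⟩

theorem symb_le (j : ℕ) (hj : 1 ≤ j) : symb q j ≤ q := by
  rintro x ⟨s, hs, hsx⟩
  have h1 : s * x ∈ q := Ideal.pow_le_self (by omega) hsx
  exact (hq.mem_or_mem h1).resolve_left hs

theorem mem_symb_of_mul_mem {j : ℕ} {s x : B} (hs : s ∉ q) (h : s * x ∈ symb q j) :
    x ∈ symb q j := by
  obtain ⟨t, ht, htx⟩ := h
  refine ⟨t * s, fun h => (hq.mem_or_mem h).elim ht hs, ?_⟩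
  rwa [mul_assoc]

theorem iInf_symb_eq_bot [IsDomain B] [IsNoetherianRing B] : ⨅ j, symb q j = ⊥ := by
  rw [eq_bot_iff]
  intro x hx
  rw [Ideal.mem_iInf] at hx
  rw [Ideal.mem_bot]
  have hinj : Function.Injective (algebraMap B (Localization.AtPrime q)) :=
    IsLocalization.injective (Localization.AtPrime q) q.primeCompl_le_nonZeroDivisors
  apply hinj
  rw [map_zero]
  haveI : IsNoetherianRing (Localization.AtPrime q) :=
    IsLocalization.isNoetherianRing q.primeCompl _ inferInstance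
  have hkrull : ⨅ i, maximalIdeal (Localization.AtPrime q) ^ i = ⊥ :=
    Ideal.iInf_pow_eq_bot_of_isLocalRing _ (maximalIdeal.isMaximal _).ne_top
  rw [← Ideal.mem_bot, ← hkrull, Ideal.mem_iInf]
  intro j
  obtain ⟨s, hs, hsx⟩ := hx j
  have h1 : algebraMap B (Localization.AtPrime q) (s * x) ∈
      maximalIdeal (Localization.AtPrime q) ^ j := by
    rw [← Localization.AtPrime.map_eq_maximalIdeal, ← Ideal.map_pow]
    exact Ideal.mem_map_of_mem _ hsx
  rw [map_mul] at h1
  have hu : IsUnit (algebraMap B (Localization.AtPrime q) s) :=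
    IsLocalization.map_units (Localization.AtPrime q) (⟨s, hs⟩ : q.primeCompl)
  exact (Ideal.unit_mul_mem_iff_mem _ hu).1 h1

theorem eq_maximalIdeal_of_lt [IsLocalRing B] (hdim : ringKrullDim (B ⧸ q) = 1) (Q : Ideal B)
    [hQ : Q.IsPrime] (hlt : q < Q) : Q = maximalIdeal B := by
  by_contra hne
  have hQm : Q < maximalIdeal B := lt_of_le_of_ne (le_maximalIdeal hQ.ne_top) hne
  have h1 := CanonAss.dim_quotient_add_one_le q Q hlt
  have h2 := CanonAss.dim_quotient_add_one_le Q (maximalIdeal B) hQm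
  have h3 : (0 : WithBot ℕ∞) ≤ ringKrullDim (B ⧸ maximalIdeal B) :=
    ringKrullDim_nonneg_of_nontrivial
  rw [hdim] at h1
  have h4 : (0 : WithBot ℕ∞) + 1 + 1 ≤ 1 :=
    (add_le_add ((add_le_add h3 le_rfl).trans h2) le_rfl).trans h1
  have h6 : (0 + 1 + 1 : ℕ) ≤ 1 := by exact_mod_cast h4
  omega

theorem exists_pow_mul_symb_le [IsNoetherianRing B] [IsLocalRing B]
    (hdim : ringKrullDim (B ⧸ q) = 1) (k : ℕ) :
    ∃ N : ℕ, maximalIdeal B ^ N * symb q k ≤ q ^ k := by
  classical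
  have hs : ∃ s, s ∉ q ∧ ∀ x ∈ symb q k, s * x ∈ q ^ k := by
    have hfg : (symb q k).FG := IsNoetherian.noetherian _
    refine Submodule.fg_induction
      (motive := fun (I : Submodule B B) _ => I ≤ symb q k → ∃ s, s ∉ q ∧ ∀ x ∈ I, s * x ∈ q ^ k)
      ?_ ?_ (symb q k) hfg le_rfl
    · intro x hx
      obtain ⟨s, hs, hsx⟩ := hx (Submodule.mem_span_singleton_self x)
      refine ⟨s, hs, fun y hy => ?_⟩
      obtain ⟨c, rfl⟩ := Submodule.mem_span_singleton.1 hy
      have h1 : s * (c • x) = c * (s * x) := by rw [smul_eq_mul]; ring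
      rw [h1]
      exact Ideal.mul_mem_left _ _ hsx
    · intro I J _ _ hI hJ hIJ
      obtain ⟨s, hs, hsI⟩ := hI (le_sup_left.trans hIJ)
      obtain ⟨t, ht, htJ⟩ := hJ (le_sup_right.trans hIJ)
      refine ⟨s * t, fun h => (hq.mem_or_mem h).elim hs ht, fun x hx => ?_⟩
      obtain ⟨y, hy, z, hz, rfl⟩ := Submodule.mem_sup.1 hx
      have h1 : s * t * (y + z) = t * (s * y) + s * (t * z) := by ring
      rw [h1]
      exact Ideal.add_mem _ (Ideal.mul_mem_left _ _ (hsI y hy)) (Ideal.mul_mem_left _ _ (htJ z hz))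
  obtain ⟨s, hs, hsx⟩ := hs
  let 𝔞 : Ideal B := (q ^ k).colon (symb q k : Set B)
  have hs𝔞 : s ∈ 𝔞 := Submodule.mem_colon.2 (fun x hx => hsx x hx)
  have hq𝔞 : q ^ k ≤ 𝔞 := fun r hr => Submodule.mem_colon.2 (fun x _ => Ideal.mul_mem_right _ _ hr)
  have hrad : maximalIdeal B ≤ 𝔞.radical := by
    rw [Ideal.radical_eq_sInf]
    refine le_sInf ?_
    rintro Q ⟨h𝔞Q, hQ⟩
    haveI := hQ
    have hqQ : q ≤ Q := fun x hx =>
      hQ.mem_of_pow_mem k (h𝔞Q (hq𝔞 (Ideal.pow_mem_pow hx k)))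
    have hne : q ≠ Q := by
      intro h
      apply hs
      rw [h]
      exact h𝔞Q hs𝔞
    rw [eq_maximalIdeal_of_lt q hdim Q (lt_of_le_of_ne hqQ hne)]
  obtain ⟨N, hN⟩ := Ideal.exists_pow_le_of_le_radical_of_fg hrad (IsNoetherian.noetherian _)
  refine ⟨N, Ideal.mul_le.2 (fun r hr x hx => ?_)⟩
  exact Submodule.mem_colon.1 (hN hr) x hx

theorem exists_symb_le_pow [IsDomain B] [IsNoetherianRing B] [IsLocalRing B]
    [IsAdicComplete (maximalIdeal B) B] (hdim : ringKrullDim (B ⧸ q) = 1) (k : ℕ) :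
    ∃ j, k ≤ j ∧ symb q j ≤ q ^ k := by
  obtain ⟨N, hN⟩ := exists_pow_mul_symb_le q hdim k
  obtain ⟨c, hc⟩ := Ideal.exists_pow_inf_eq_pow_smul (maximalIdeal B) (symb q k : Submodule B B)
  obtain ⟨j0, hj0⟩ := Groth.Agent.Lib.Helper64.chevalley (symb q) (symb_antitone q) (c + N)
  rw [iInf_symb_eq_bot, bot_sup_eq] at hj0
  refine ⟨max j0 k, le_max_right _ _, ?_⟩
  intro x hx
  have hx1 : x ∈ maximalIdeal B ^ (c + N) := hj0 (symb_antitone q (le_max_left _ _) hx)
  have hx2 : x ∈ symb q k := symb_antitone q (le_max_right _ _) hx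
  have h3 : x ∈ (maximalIdeal B ^ (c + N) • (⊤ : Submodule B B) ⊓ (symb q k : Submodule B B)) := by
    refine ⟨?_, hx2⟩
    rw [smul_eq_mul, Ideal.mul_top]
    exact hx1
  rw [hc (c + N) (by omega)] at h3
  have h4 : c + N - c = N := by omega
  rw [h4] at h3
  have h5 : maximalIdeal B ^ N • (maximalIdeal B ^ c • (⊤ : Submodule B B) ⊓
      (symb q k : Submodule B B)) ≤ maximalIdeal B ^ N * symb q k := by
    rw [← smul_eq_mul]
    exact Submodule.smul_mono le_rfl inf_le_right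
  exact hN (h5 h3)

end Symb

section Gor

/-- **HLVT, Gorenstein case**: for a complete Gorenstein local domain `B` of dimension `d` and a
prime `q` with `dim B/q = 1`, `H^d_q(B) = 0`. -/
theorem subsingleton_H_of_gorenstein (B : Type u) [CommRing B] [IsDomain B]
    [LocCoh.IsGorensteinLocalRing B] [IsAdicComplete (maximalIdeal B) B] (d : ℕ)
    (hd : ringKrullDim B = d) (q : Ideal B) [hq : q.IsPrime]
    (hdim : ringKrullDim (B ⧸ q) = 1) :
    Subsingleton ((localCohomology q d).obj (ModuleCat.of B B)) := by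
  have hqm : q ≠ maximalIdeal B := by
    intro h
    rw [h] at hdim
    letI : Field (B ⧸ maximalIdeal B) := Ideal.Quotient.field (maximalIdeal B)
    rw [ringKrullDim_eq_zero_of_field] at hdim
    simp at hdim
  obtain ⟨s, hsm, hsq⟩ : ∃ s ∈ maximalIdeal B, s ∉ q := by
    by_contra hcon
    push Not at hcon
    exact hqm (le_antisymm (le_maximalIdeal hq.ne_top) hcon)
  suffices h : ∀ z : (localCohomology q d).obj (ModuleCat.of B B), z = 0 from
    ⟨fun x y => by rw [h x, h y]⟩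
  intro z
  obtain ⟨k, e, rfl⟩ := LC.exists_rep z
  obtain ⟨j, hkj, hj⟩ := exists_symb_le_pow q hdim (max k 1)
  have hk : k ≤ j := (le_max_left _ _).trans hkj
  have hj1 : 1 ≤ j := (le_max_right _ _).trans hkj
  have hjk : symb q j ≤ q ^ k := hj.trans (Ideal.pow_le_pow_right (le_max_left k 1))
  rw [← LC.ιH_comp hk e]
  let M' : ModuleCat.{u} B := ModuleCat.of B (B ⧸ symb q j)
  let π₂ : LC.Q q j ⟶ M' :=
    ModuleCat.ofHom (Submodule.mapQ _ _ LinearMap.id (pow_le_symb q j))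
  let π₁ : M' ⟶ LC.Q q k := ModuleCat.ofHom (Submodule.mapQ _ _ LinearMap.id hjk)
  have hfac : LC.proj q hk = π₂ ≫ π₁ := by
    apply ModuleCat.hom_ext
    apply LinearMap.ext
    intro y
    obtain ⟨y, rfl⟩ := Submodule.Quotient.mk_surjective _ y
    rfl
  have hsub : Subsingleton (Ext.{u} M' (ModuleCat.of B B) d) := by
    haveI : Nontrivial (B ⧸ symb q j) :=
      Ideal.Quotient.nontrivial_iff.2 (fun h => hq.ne_top (top_le_iff.1 (h ▸ symb_le q j hj1)))
    refine (Groth.Agent.S11642.result B d hd (B ⧸ symb q j)).1 ?_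
    have hreg : IsSMulRegular (B ⧸ symb q j) s := by
      rw [isSMulRegular_iff_right_eq_zero_of_smul]
      intro x hx
      obtain ⟨x, rfl⟩ := Submodule.Quotient.mk_surjective _ x
      rw [← Submodule.Quotient.mk_smul, Submodule.Quotient.mk_eq_zero] at hx
      rw [Submodule.Quotient.mk_eq_zero]
      exact mem_symb_of_mul_mem q hsq hx
    have h1 := Groth.Agent.Lib.Helper29.DepthLib.length_le_idealDepth (maximalIdeal B)
      (B ⧸ symb q j) (rs := [s])
      ((RingTheory.Sequence.isWeaklyRegular_cons_iff _ s []).2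
        ⟨hreg, RingTheory.Sequence.IsWeaklyRegular.nil _ _⟩)
      (by intro r hr; rw [List.mem_singleton] at hr; rw [hr]; exact hsm)
    unfold LocCoh.depth
    exact lt_of_lt_of_le (by simp) h1
  have h0 : (Ext.mk₀ π₁).comp e (zero_add d) = 0 := Subsingleton.elim _ _
  rw [hfac, ← Ext.mk₀_comp_mk₀_assoc, h0, Ext.comp_zero, map_zero]

end Gor

end Groth.Agent.Lib.Helper2.HLVT
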