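import Groth.Agent.Lib.Helper2.HLVT1
import Groth.Agent.Lib.Helper2.CanonLoc
import Groth.Agent.Lib.Helper88.CohenStruct2
import Groth.Agent.Lib.Helper96.PSRegularDVR
import Groth.Agent.Lib.Helper11.IntegralDim
import Groth.Agent.S11641
import Groth.Agent.S0342
import Groth.Agent.S0343
import Groth.Agent.S2821

/-!
# Hartshorne–Lichtenbaum vanishing, part 2: a complete Gorenstein intermediate ring
-/

set_option autoImplicit false
universe u
open IsLocalRing MvPowerSeries

namespace Groth.Agent.Lib.Helper2.HLVT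

open Groth.Agent.Lib.Helper76.PSComplete Groth.Agent.Lib.Helper76.PSCRing
open Groth.Agent.Lib.Helper11

/-- power series rings over a field or a Cohen ring: regular, complete, of known dimension -/
theorem ps_package (Λ : Type u) [CommRing Λ] (hΛ : IsField Λ ∨ CAlg.IsCohenRing Λ) :
    ∃ e : ℕ, ∀ m : ℕ, ∃ (_ : IsRegularLocalRing (MvPowerSeries (Fin m) Λ)),
      IsAdicComplete (maximalIdeal (MvPowerSeries (Fin m) Λ)) (MvPowerSeries (Fin m) Λ) ∧
      ringKrullDim (MvPowerSeries (Fin m) Λ) = ((m + e : ℕ) : WithBot ℕ∞) := by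
  rcases hΛ with hF | hC
  · letI : Field Λ := hF.toField
    refine ⟨0, fun m => ⟨isRegularLocalRing_mvPowerSeries Λ m, ?_, ?_⟩⟩
    · rw [maximalIdeal_eq_varIdeal Λ (Fin m)]
      infer_instance
    · rw [ringKrullDim_eq_card Λ m]
      simp
  · obtain ⟨hdom, hdvr, hcomp, p, hp, hm⟩ := hC
    haveI := hdom
    haveI := hdvr
    haveI := hcomp
    have hnf : ¬ IsField Λ := IsDiscreteValuationRing.not_isField Λ
    refine ⟨1, fun m => ?_⟩
    have hreg := Groth.Agent.Lib.Helper96.isRegularLocalRing_mvPowerSeries_of_principal Λ hnf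
      (p : Λ) hm m
    refine ⟨hreg, inferInstance, le_antisymm ?_ ?_⟩
    · exact Groth.Agent.Lib.Helper88.CohenStruct2.ringKrullDim_mvPowerSeries_le Λ (p : Λ) hm m
    · have h1 := Groth.Agent.Lib.Helper96.ringKrullDim_add_le_mvPowerSeries Λ m
      rw [IsPrincipalIdealRing.ringKrullDim_eq_one Λ hnf] at h1
      refine le_trans ?_ h1
      push_cast
      rw [add_comm]

theorem X_mem_maximalIdeal {Λ : Type u} [CommRing Λ] {m : ℕ}
    [IsLocalRing (MvPowerSeries (Fin m) Λ)] (i : Fin m) :
    (X i : MvPowerSeries (Fin m) Λ) ∈ maximalIdeal (MvPowerSeries (Fin m) Λ) := by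
  haveI : Nontrivial Λ := by
    by_contra h
    rw [not_nontrivial_iff_subsingleton] at h
    haveI := h
    haveI : Subsingleton (MvPowerSeries (Fin m) Λ) :=
      ⟨fun a b => by ext e; exact Subsingleton.elim _ _⟩
    exact not_subsingleton (MvPowerSeries (Fin m) Λ) inferInstance
  rw [mem_maximalIdeal, mem_nonunits_iff, MvPowerSeries.isUnit_iff_constantCoeff, constantCoeff_X]
  exact not_isUnit_zero

section Aux

variable (D : Type u) [CommRing D] [IsDomain D] [IsLocalRing D] [IsNoetherianRing D]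
  [IsAdicComplete (maximalIdeal D) D] (P : Ideal D) [hPp : P.IsPrime]
  (hP : ringKrullDim (D ⧸ P) = 1)
  (Λ : Type u) [CommRing Λ] (n e : ℕ)
  [hregR : IsRegularLocalRing (MvPowerSeries (Fin n) Λ)]
  [hregS : IsRegularLocalRing (MvPowerSeries (Fin (n + 1)) Λ)]
  [hcompS : IsAdicComplete (maximalIdeal (MvPowerSeries (Fin (n + 1)) Λ))
    (MvPowerSeries (Fin (n + 1)) Λ)]
  (hdimR : ringKrullDim (MvPowerSeries (Fin n) Λ) = ((n + e : ℕ) : WithBot ℕ∞))
  (hdimS : ringKrullDim (MvPowerSeries (Fin (n + 1)) Λ) = ((n + 1 + e : ℕ) : WithBot ℕ∞))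
  (f : MvPowerSeries (Fin n) Λ →+* D) (hfinj : Function.Injective f) (hffin : f.Finite)
  (hfres : Function.Surjective ((residue D).comp f))

local notation "R'" => MvPowerSeries (Fin n) Λ
local notation "S'" => MvPowerSeries (Fin (n + 1)) Λ

include hP hdimR hdimS hfinj hffin hfres in
theorem exists_gorenstein_intermediate_aux :
    ∃ (B : Type u) (_ : CommRing B) (_ : IsDomain B) (_ : LocCoh.IsGorensteinLocalRing B)
      (_ : Algebra B D),
      IsAdicComplete (maximalIdeal B) B ∧ Function.Injective (algebraMap B D) ∧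
        Module.Finite B D ∧
        ((P.comap (algebraMap B D)).map (algebraMap B D)).radical = P := by
  classical
  letI algRD : Algebra R' D := f.toAlgebra
  haveI : Module.Finite R' D := hffin
  have hloc : IsLocalHom f := hffin.to_isIntegral.isLocalHom hfinj
  obtain ⟨b, hb⟩ := Groth.Agent.S11641.result R' D hfinj P hP
  obtain ⟨r, hr⟩ := hfres (residue D b)
  rw [RingHom.comp_apply] at hr
  have hb'm : b - f r ∈ maximalIdeal D := by
    rw [← residue_eq_zero_iff, map_sub, hr, sub_self]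
  have hXm : ∀ i : Fin n, f (X i) ∈ maximalIdeal D := fun i =>
    map_nonunit f _ (X_mem_maximalIdeal i)
  let c : Fin (n + 1) → D := Fin.snoc (fun i : Fin n => f (X i)) (b - f r)
  have hc_last : c (Fin.last n) = b - f r := by simp only [c, Fin.snoc_last]
  have hc_cast : ∀ i : Fin n, c i.castSucc = f (X i) := fun i => by
    simp only [c, Fin.snoc_castSucc]
  have hc : ∀ s, c s ∈ maximalIdeal D := by
    intro s
    refine Fin.lastCases ?_ (fun i => ?_) s
    · rw [hc_last]; exact hb'm
    · rw [hc_cast]; exact hXm i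
  obtain ⟨ψ, hψX, hψC⟩ := exists_ringHom (maximalIdeal D) (f.comp (C : Λ →+* R')) c hc
  obtain ⟨ι, hιX, hιC⟩ := exists_ringHom (maximalIdeal S') (C : Λ →+* S')
    (fun i : Fin n => (X i.castSucc : S')) (fun i => X_mem_maximalIdeal _)
  have hfac : ψ.comp ι = f := by
    refine ringHom_ext (maximalIdeal D) (ψ.comp ι) f ?_ ?_ ?_
    · intro s
      rw [RingHom.comp_apply, hιX, hψX]
      exact hc _
    · intro s
      rw [RingHom.comp_apply, hιX, hψX, hc_cast]
    · intro a
      rw [RingHom.comp_apply, hιC, hψC, RingHom.comp_apply]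
  have hfac' : ∀ x, ψ (ι x) = f x := fun x => by rw [← RingHom.comp_apply, hfac]
  -- the kernel of `ψ` has height one
  have hker_prime : (RingHom.ker ψ).IsPrime := RingHom.ker_isPrime ψ
  haveI : Algebra.IsIntegral R' D := Algebra.IsIntegral.of_finite R' D
  have hdR : ringKrullDim D = ringKrullDim R' :=
    IntegralDim.ringKrullDim_eq_of_isIntegral_of_injective (R := R') (S := D) hfinj
  have hdimQ : ringKrullDim (S' ⧸ RingHom.ker ψ) = ((n + e : ℕ) : WithBot ℕ∞) := by
    have hφ₀inj : Function.Injective (RingHom.kerLift ψ) := RingHom.kerLift_injective ψ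
    letI algQD : Algebra (S' ⧸ RingHom.ker ψ) D := (RingHom.kerLift ψ).toAlgebra
    letI algRQ : Algebra R' (S' ⧸ RingHom.ker ψ) :=
      ((Ideal.Quotient.mk (RingHom.ker ψ)).comp ι).toAlgebra
    haveI : IsScalarTower R' (S' ⧸ RingHom.ker ψ) D := IsScalarTower.of_algebraMap_eq (fun x => by
      show f x = RingHom.kerLift ψ (Ideal.Quotient.mk _ (ι x))
      rw [RingHom.kerLift_mk, hfac'])
    haveI : Module.Finite (S' ⧸ RingHom.ker ψ) D :=
      Module.Finite.of_restrictScalars_finite R' (S' ⧸ RingHom.ker ψ) D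
    haveI : Algebra.IsIntegral (S' ⧸ RingHom.ker ψ) D := Algebra.IsIntegral.of_finite _ D
    have hdQ : ringKrullDim D = ringKrullDim (S' ⧸ RingHom.ker ψ) :=
      IntegralDim.ringKrullDim_eq_of_isIntegral_of_injective (R := S' ⧸ RingHom.ker ψ) (S := D)
        hφ₀inj
    rw [← hdQ, hdR, hdimR]
  haveI hGorS : LocCoh.IsGorensteinLocalRing S' := Groth.Agent.S0342.result S'
  obtain ⟨hdomS, hufdS⟩ := Groth.Agent.S2821.result S'
  haveI := hdomS
  haveI := hufdS
  have hht_ne : (RingHom.ker ψ).height ≠ ⊤ := Ideal.height_ne_top hker_prime.ne_top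
  obtain ⟨r0, hr0⟩ := ENat.ne_top_iff_exists.mp hht_ne
  have hsum := CanonLoc.dim_add_height S' (RingHom.ker ψ) (n + e) r0 (n + 1 + e) hdimQ hr0.symm
    hdimS
  have hr1 : r0 = 1 := by omega
  have hht1 : (RingHom.ker ψ).height = 1 := by rw [← hr0, hr1, Nat.cast_one]
  obtain ⟨h, hmem, hprime⟩ := Ideal.IsPrime.exists_mem_prime_of_ne_bot hker_prime
    (Ideal.ne_bot_of_height_eq_one hht1)
  have hker : RingHom.ker ψ = Ideal.span {h} :=
    Ideal.eq_span_singleton_of_height_eq_one hht1 hmem hprime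
  have hhm : h ∈ maximalIdeal S' := by
    rw [mem_maximalIdeal, mem_nonunits_iff]
    exact hprime.not_unit
  have hreg : IsSMulRegular S' h := fun a b hab => mul_left_cancel₀ hprime.ne_zero hab
  have hGorB : LocCoh.IsGorensteinLocalRing (S' ⧸ Ideal.span {h}) :=
    (Groth.Agent.S0343.result S' h hhm hreg).1 hGorS
  have hspan_prime : (Ideal.span {h}).IsPrime := hker ▸ hker_prime
  have hlift : ∀ a ∈ Ideal.span {h}, ψ a = 0 := fun a ha => by
    rw [← hker] at ha
    exact RingHom.mem_ker.1 ha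
  let φ : S' ⧸ Ideal.span {h} →+* D := Ideal.Quotient.lift (Ideal.span {h}) ψ hlift
  have hφmk : ∀ a, φ (Ideal.Quotient.mk _ a) = ψ a := fun a => Ideal.Quotient.lift_mk _ _ _
  have hφinj : Function.Injective φ :=
    RingHom.lift_injective_of_ker_le_ideal (Ideal.span {h}) hlift (le_of_eq hker)
  have hrange : ∀ x ∈ Algebra.adjoin R' ({b} : Set D), ∃ y : S' ⧸ Ideal.span {h}, φ y = x := by
    intro x hx
    induction hx using Algebra.adjoin_induction with
    | mem x hx =>
      rw [Set.mem_singleton_iff] at hx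
      subst hx
      refine ⟨Ideal.Quotient.mk _ (X (Fin.last n)) + Ideal.Quotient.mk _ (ι r), ?_⟩
      rw [map_add, hφmk, hφmk, hψX, hfac', hc_last]
      ring
    | algebraMap a =>
      refine ⟨Ideal.Quotient.mk _ (ι a), ?_⟩
      rw [hφmk, hfac']
      rfl
    | add x y _ _ hx hy =>
      obtain ⟨a, rfl⟩ := hx
      obtain ⟨a', rfl⟩ := hy
      exact ⟨a + a', map_add _ _ _⟩
    | mul x y _ _ hx hy =>
      obtain ⟨a, rfl⟩ := hx
      obtain ⟨a', rfl⟩ := hy
      exact ⟨a * a', map_mul _ _ _⟩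
  have hne_top : Ideal.span {h} ≠ ⊤ := hspan_prime.ne_top
  refine ⟨S' ⧸ Ideal.span {h}, inferInstance, Ideal.Quotient.isDomain _, hGorB, φ.toAlgebra,
    ?_, ?_, ?_, ?_⟩
  · exact Groth.Agent.Lib.Helper64.isAdicComplete_quotient (Ideal.span {h}) hne_top
  · exact hφinj
  · letI algBD : Algebra (S' ⧸ Ideal.span {h}) D := φ.toAlgebra
    letI algRB : Algebra R' (S' ⧸ Ideal.span {h}) :=
      ((Ideal.Quotient.mk (Ideal.span {h})).comp ι).toAlgebra
    haveI : IsScalarTower R' (S' ⧸ Ideal.span {h}) D := IsScalarTower.of_algebraMap_eq (fun x => by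
      show f x = φ (Ideal.Quotient.mk _ (ι x))
      rw [hφmk, hfac'])
    exact Module.Finite.of_restrictScalars_finite R' (S' ⧸ Ideal.span {h}) D
  · show ((P.comap φ).map φ).radical = P
    apply le_antisymm
    · calc ((P.comap φ).map φ).radical ≤ P.radical := Ideal.radical_mono Ideal.map_comap_le
        _ = P := hPp.radical
    · have h1 : Ideal.span ((P : Set D) ∩ (Algebra.adjoin R' ({b} : Set D) : Set D)) ≤
          (P.comap φ).map φ := by
        refine Ideal.span_le.2 ?_
        rintro x ⟨hxP, hxA⟩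
        obtain ⟨y, rfl⟩ := hrange x hxA
        exact Ideal.mem_map_of_mem φ (Ideal.mem_comap.2 hxP)
      exact le_of_eq_of_le hb.symm (Ideal.radical_mono h1)

end Aux

/-- For a complete local domain `D` and a prime `P` with `dim D/P = 1` there is a complete
Gorenstein local domain `B ⊆ D` with `D` finite over `B` and `rad((P ∩ B)D) = P`. -/
theorem exists_gorenstein_intermediate (D : Type u) [CommRing D] [IsDomain D] [IsLocalRing D]
    [IsNoetherianRing D] [IsAdicComplete (maximalIdeal D) D] (P : Ideal D) [hPp : P.IsPrime]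
    (hP : ringKrullDim (D ⧸ P) = 1) :
    ∃ (B : Type u) (_ : CommRing B) (_ : IsDomain B) (_ : LocCoh.IsGorensteinLocalRing B)
      (_ : Algebra B D),
      IsAdicComplete (maximalIdeal B) B ∧ Function.Injective (algebraMap B D) ∧
        Module.Finite B D ∧
        ((P.comap (algebraMap B D)).map (algebraMap B D)).radical = P := by
  obtain ⟨Λ, _, n, f, hΛ, hfinj, hffin, hfres⟩ :=
    Groth.Agent.Lib.Helper88.CohenStruct2.exists_finite_injective D
  have hΛ' : IsField Λ ∨ CAlg.IsCohenRing Λ := hΛ.imp id And.left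
  obtain ⟨e, hpk⟩ := ps_package Λ hΛ'
  obtain ⟨hregR, -, hdimR⟩ := hpk n
  obtain ⟨hregS, hcompS, hdimS⟩ := hpk (n + 1)
  have hdimS' : ringKrullDim (MvPowerSeries (Fin (n + 1)) Λ) = ((n + 1 + e : ℕ) : WithBot ℕ∞) :=
    hdimS
  exact exists_gorenstein_intermediate_aux D P hP Λ n e hdimR hdimS' f hfinj hffin hfres

end Groth.Agent.Lib.Helper2.HLVT
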