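import Groth.Agent.Lib.Helper2.InjHull6
import Groth.Agent.Lib.Helper41.LCCompare
import Groth.Agent.Lib.Helper41.LCVanish
import Mathlib.RingTheory.Regular.Category

/-!
# Local cohomology and a regular element; lifting an injective hull from `A/x` to `A`

* `exists_linearEquiv_of_torsionBy`: if `H` is `x`-power torsion, `x` is surjective on `H`, `E` is an
  injective `x`-power torsion module and `H[x] ≃ E[x]`, then `H ≃ E`.
* `nonempty_equiv_torsionBy_of_regular`: for `x` regular on `M` and `H^i_I(M) = 0`,
  `H^i_I(M/xM) ≃ H^{i+1}_I(M)[x]`.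
* `smul_surjective_of_subsingleton`: if `H^{i}_I(M/xM) = 0` then `x` is surjective on `H^i_I(M)`.
-/

set_option autoImplicit false
universe u

open Function CategoryTheory

namespace Groth.Agent.Lib.Helper2

section Lift

variable {A : Type u} [CommRing A] (x : A) {H E : Type u} [AddCommGroup H] [Module A H]
  [AddCommGroup E] [Module A E]

/-- Lifting an isomorphism on `x`-torsion to the whole module. -/
theorem exists_linearEquiv_of_torsionBy (hE : Module.Injective A E)
    (hHtors : ∀ h : H, ∃ t : ℕ, x ^ t • h = 0) (hEtors : ∀ e : E, ∃ t : ℕ, x ^ t • e = 0)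
    (hsurj : Surjective (fun h : H => x • h))
    (ψ : Submodule.torsionBy A H x ≃ₗ[A] Submodule.torsionBy A E x) :
    ∃ φ : H ≃ₗ[A] E, ∀ k : Submodule.torsionBy A H x, φ (k : H) = (ψ k : E) := by
  obtain ⟨φ, hφ⟩ := hE.out (Submodule.torsionBy A H x).subtype (Submodule.injective_subtype _)
    ((Submodule.torsionBy A E x).subtype ∘ₗ ψ.toLinearMap)
  have hφ' : ∀ k : Submodule.torsionBy A H x, φ (k : H) = (ψ k : E) := fun k => hφ k
  have hinj : Injective φ := by
    rw [injective_iff_map_eq_zero]
    intro h hh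
    by_contra hne
    classical
    have hex := hHtors h
    have ht0 : Nat.find hex ≠ 0 := by
      intro h0
      have := Nat.find_spec hex
      rw [h0, pow_zero, one_smul] at this
      exact hne this
    obtain ⟨t, ht⟩ := Nat.exists_eq_succ_of_ne_zero ht0
    have h1 : x ^ t • h ≠ 0 := Nat.find_min hex (by omega)
    have h2 : x ^ t • h ∈ Submodule.torsionBy A H x := by
      rw [Submodule.mem_torsionBy_iff, smul_smul, ← pow_succ', ← Nat.succ_eq_add_one, ← ht]
      exact Nat.find_spec hex
    have h3 : (ψ ⟨x ^ t • h, h2⟩ : E) = 0 := by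
      rw [← hφ' ⟨x ^ t • h, h2⟩]
      show φ (x ^ t • h) = 0
      rw [map_smul, hh, smul_zero]
    have h4 : (⟨x ^ t • h, h2⟩ : Submodule.torsionBy A H x) = 0 := by
      apply ψ.injective
      rw [map_zero]
      exact Subtype.ext h3
    exact h1 (congrArg Subtype.val h4)
  have hsurjφ : Surjective φ := by
    have key : ∀ t : ℕ, ∀ e : E, x ^ t • e = 0 → e ∈ LinearMap.range φ := by
      intro t
      induction t with
      | zero =>
        intro e he
        rw [pow_zero, one_smul] at he
        rw [he]; exact Submodule.zero_mem _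
      | succ t ih =>
        intro e he
        have h1 : x ^ t • (x • e) = 0 := by rw [smul_smul, ← pow_succ]; exact he
        obtain ⟨h, hh⟩ := ih _ h1
        obtain ⟨h', rfl⟩ := hsurj h
        have h2 : e - φ h' ∈ Submodule.torsionBy A E x := by
          rw [Submodule.mem_torsionBy_iff, smul_sub, ← map_smul]
          show x • e - φ (x • h') = 0
          rw [hh, sub_self]
        obtain ⟨k, hk⟩ := ψ.surjective ⟨e - φ h', h2⟩
        refine ⟨h' + k, ?_⟩
        rw [map_add, hφ' k, hk]
        show φ h' + (e - φ h') = e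
        abel
    intro e
    obtain ⟨t, ht⟩ := hEtors e
    exact key t e ht
  exact ⟨LinearEquiv.ofBijective φ ⟨hinj, hsurjφ⟩, hφ'⟩

end Lift

section LES

open Groth.Agent.Lib.Helper41.LC

variable {R : Type u} [CommRing R] (I : Ideal R) (M : ModuleCat.{u} R) (x : R)

/-- For `x` regular on `M` with `H^i_I(M) = 0`: `H^i_I(M/xM) ≃ H^{i+1}_I(M)[x]`. -/
theorem nonempty_equiv_torsionBy_of_regular (hreg : IsSMulRegular M x) (i : ℕ)
    (h0 : Subsingleton ((localCohomology I i).obj M)) :
    Nonempty ((localCohomology I i).obj (ModuleCat.of R (QuotSMulTop x M)) ≃ₗ[R]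
      Submodule.torsionBy R ((localCohomology I (i + 1)).obj M) x) := by
  have hS : (M.smulShortComplex x).ShortExact := hreg.smulShortComplex_shortExact
  let d : (localCohomology I i).obj (ModuleCat.of R (QuotSMulTop x M)) →ₗ[R]
      (localCohomology I (i + 1)).obj M := δ I hS i (i + 1) rfl
  have hmem : ∀ y, d y ∈ Submodule.torsionBy R ((localCohomology I (i + 1)).obj M) x := by
    intro y
    rw [Submodule.mem_torsionBy_iff, ← map_smul_id I (i + 1) M x]
    exact map_δ_eq_zero I hS i (i + 1) rfl y
  refine ⟨LinearEquiv.ofBijective (LinearMap.codRestrict _ d hmem) ⟨?_, ?_⟩⟩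
  · rw [injective_iff_map_eq_zero]
    intro y hy
    have hy' : d y = 0 := congrArg Subtype.val hy
    obtain ⟨z, rfl⟩ := exact₃ I hS i (i + 1) rfl y hy'
    have hz : z = 0 := Subsingleton.elim (α := (localCohomology I i).obj M) z 0
    rw [hz, map_zero]
    rfl
  · rintro ⟨w, hw⟩
    rw [Submodule.mem_torsionBy_iff, ← map_smul_id I (i + 1) M x] at hw
    obtain ⟨y, hy⟩ := exact₁ I hS i (i + 1) rfl w hw
    exact ⟨y, Subtype.ext hy⟩

/-- If `H^i_I(M/xM) = 0` then `x` acts surjectively on `H^i_I(M)`. -/
theorem smul_surjective_of_subsingleton (hreg : IsSMulRegular M x) (i : ℕ)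
    (h1 : Subsingleton ((localCohomology I i).obj (ModuleCat.of R (QuotSMulTop x M)))) :
    Surjective (fun w : (localCohomology I i).obj M => x • w) := by
  have hS : (M.smulShortComplex x).ShortExact := hreg.smulShortComplex_shortExact
  intro w
  have hw : ((localCohomology I i).map (M.smulShortComplex x).g).hom w = 0 :=
    Subsingleton.elim (α := (localCohomology I i).obj (ModuleCat.of R (QuotSMulTop x M))) _ _
  obtain ⟨w', hw'⟩ := exact₂ I hS i w hw
  refine ⟨w', ?_⟩
  have h := map_smul_id I i M x w'
  exact h.symm.trans hw'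

/-- Every element of `H^i_I(M)` is killed by a power of any `x ∈ I`. -/
theorem exists_pow_smul_eq_zero (hx : x ∈ I) (i : ℕ) (w : (localCohomology I i).obj M) :
    ∃ t : ℕ, x ^ t • w = 0 := by
  obtain ⟨n, e, rfl⟩ := exists_rep w
  exact ⟨n, smul_ιH_eq_zero I i M n e _ (Ideal.pow_mem_pow hx n)⟩

end LES

end Groth.Agent.Lib.Helper2
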