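import Mathlib.RingTheory.Flat.Tensor
import Mathlib.RingTheory.Flat.Equalizer
import Mathlib.RingTheory.Flat.Stability
import Mathlib.RingTheory.Filtration
import Mathlib.RingTheory.LocalRing.Module
import Mathlib.LinearAlgebra.TensorProduct.RightExactness
import Mathlib.LinearAlgebra.TensorProduct.Tower
import Mathlib.Algebra.Module.Torsion.Basic

/-!
# The local criterion of flatness (helper2)

Tor-free formulation.  We fix a presentation `K → F → M → 0` with `F` flat and express
"`Tor₁(M, T) = 0`" as injectivity of `K ⊗ T → F ⊗ T`.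

Main results:
* `rTensor_injective_of_exact` : four lemma for `u ⊗ T` along a short exact sequence in `T`.
* `tau_of_injective`, `injective_of_tau` : the two halves of the Tor sequence.
* `lTensor_injective_of_baseChange` : `V ⊗_R u` is injective if `V ⊗_A (A ⊗_R u)` is.
* `eq_zero_of_forall_mem_range` : Krull intersection for tensor products.
* `flat_of_forall_lTensor_quotient_injective` : Artin–Rees + Krull core.
* `flat_of_rTensor_injective_of_flat_quotient` : the local criterion of flatness.
-/

set_option autoImplicit false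

namespace Groth.Agent.Lib.Helper2

open TensorProduct Function

section Four

variable {R : Type*} [CommRing R]
variable {N M : Type*} [AddCommGroup N] [Module R N] [AddCommGroup M] [Module R M]
variable {T' T T'' : Type*} [AddCommGroup T'] [Module R T'] [AddCommGroup T] [Module R T]
  [AddCommGroup T''] [Module R T'']

theorem subsingleton_tensor_right [Subsingleton T] : Subsingleton (N ⊗[R] T) := by
  refine ⟨fun a b => ?_⟩
  have h : ∀ z : N ⊗[R] T, z = 0 := fun z =>
    z.induction_on rfl (fun n t => by rw [Subsingleton.elim t 0, tmul_zero])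
      (fun x y hx hy => by rw [hx, hy, add_zero])
  rw [h a, h b]

/-- Four lemma: for `u : N → M` with `M` flat and a short exact sequence `0 → T' → T → T'' → 0`,
injectivity of `u ⊗ T'` and `u ⊗ T''` implies injectivity of `u ⊗ T`. -/
theorem rTensor_injective_of_exact [Module.Flat R M] (u : N →ₗ[R] M) {i : T' →ₗ[R] T}
    {p : T →ₗ[R] T''} (hi : Injective i) (hex : Exact i p) (hp : Surjective p)
    (h' : Injective (u.rTensor T')) (h'' : Injective (u.rTensor T'')) :
    Injective (u.rTensor T) := by
  rw [injective_iff_map_eq_zero]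
  intro x hx
  have h1 : u.rTensor T'' (p.lTensor N x) = 0 := by
    rw [← LinearMap.comp_apply, LinearMap.rTensor_comp_lTensor, ← LinearMap.lTensor_comp_rTensor,
      LinearMap.comp_apply, hx, map_zero]
  have h2 : p.lTensor N x = 0 := h'' (by rw [h1, map_zero])
  obtain ⟨x', rfl⟩ := (lTensor_exact N hex hp x).mp h2
  have h3 : i.lTensor M (u.rTensor T' x') = 0 := by
    rw [← LinearMap.comp_apply, LinearMap.lTensor_comp_rTensor, ← LinearMap.rTensor_comp_lTensor,
      LinearMap.comp_apply, hx]
  have h4 : u.rTensor T' x' = 0 :=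
    Module.Flat.lTensor_preserves_injective_linearMap i hi (by rw [h3, map_zero])
  have h5 : x' = 0 := h' (by rw [h4, map_zero])
  rw [h5, map_zero]

/-- Injectivity of `u ⊗ T` only depends on the isomorphism class of `T`. -/
theorem rTensor_injective_of_linearEquiv (u : N →ₗ[R] M) (e : T ≃ₗ[R] T')
    (h : Injective (u.rTensor T)) : Injective (u.rTensor T') := by
  rw [injective_iff_map_eq_zero]
  intro x hx
  have h1 : u.rTensor T (e.symm.toLinearMap.lTensor N x) = 0 := by
    rw [← LinearMap.comp_apply, LinearMap.rTensor_comp_lTensor, ← LinearMap.lTensor_comp_rTensor,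
      LinearMap.comp_apply, hx, map_zero]
  have h2 : e.symm.toLinearMap.lTensor N x = 0 := h (by rw [h1, map_zero])
  have h3 : x = e.toLinearMap.lTensor N (e.symm.toLinearMap.lTensor N x) := by
    rw [← LinearMap.comp_apply, ← LinearMap.lTensor_comp]
    simp
  rw [h3, h2, map_zero]

theorem rTensor_injective_of_subsingleton (u : N →ₗ[R] M) [Subsingleton T] :
    Injective (u.rTensor T) := by
  haveI : Subsingleton (N ⊗[R] T) := subsingleton_tensor_right
  exact Function.injective_of_subsingleton _

end Four

section Tau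

variable {R : Type*} [CommRing R]
variable {K F M : Type*} [AddCommGroup K] [Module R K] [AddCommGroup F] [Module R F]
  [AddCommGroup M] [Module R M]
variable {T' T T'' : Type*} [AddCommGroup T'] [Module R T'] [AddCommGroup T] [Module R T]
  [AddCommGroup T''] [Module R T'']
variable {ι : K →ₗ[R] F} {π : F →ₗ[R] M}

/-- If `T' ⊗ M → T ⊗ M` is injective and `Tor₁(M, T) = 0` then `Tor₁(M, T'') = 0`. -/
theorem tau_of_injective (hex : Exact ι π) (hπ : Surjective π) {i : T' →ₗ[R] T}
    {p : T →ₗ[R] T''} (hex' : Exact i p) (hp : Surjective p)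
    (hinj : Injective (i.rTensor M)) (hT : Injective (ι.rTensor T)) :
    Injective (ι.rTensor T'') := by
  rw [← LinearMap.lTensor_inj_iff_rTensor_inj] at hT ⊢
  exact lTensor_injective_of_exact_of_exact_of_rTensor_injective hex' hp hex hπ hinj hT

/-- If `Tor₁(M, T'') = 0` then `M ⊗ T' → M ⊗ T` is injective. -/
theorem injective_of_tau [Module.Flat R F] (hex : Exact ι π) (hπ : Surjective π)
    {i : T' →ₗ[R] T} {p : T →ₗ[R] T''} (hi : Injective i) (hex' : Exact i p) (hp : Surjective p)
    (hT'' : Injective (ι.rTensor T'')) : Injective (i.lTensor M) :=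
  lTensor_injective_of_exact_of_exact_of_rTensor_injective hex hπ hex' hp hT''
    (Module.Flat.lTensor_preserves_injective_linearMap i hi)

end Tau

section PowTorsion

universe v
variable {R : Type*} [CommRing R]
variable {N M : Type*} [AddCommGroup N] [Module R N] [AddCommGroup M] [Module R M]

/-- If `u ⊗ T` is injective for every `T` killed by `I`, then also for every `T` killed by a
power of `I` (`M` flat). -/
theorem rTensor_injective_of_pow_torsion [Module.Flat R M] (u : N →ₗ[R] M) (I : Ideal R)
    (H1 : ∀ (T : Type v) [AddCommGroup T] [Module R T], (∀ a ∈ I, ∀ t : T, a • t = 0) →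
      Injective (u.rTensor T)) :
    ∀ (n : ℕ) (T : Type v) [AddCommGroup T] [Module R T], (∀ a ∈ I ^ n, ∀ t : T, a • t = 0) →
      Injective (u.rTensor T) := by
  intro n
  induction n with
  | zero =>
    intro T _ _ hT
    haveI : Subsingleton T := ⟨fun a b => by
      have h1 := hT 1 (by simp) a
      have h2 := hT 1 (by simp) b
      rw [one_smul] at h1 h2
      rw [h1, h2]⟩
    exact rTensor_injective_of_subsingleton u
  | succ n ih =>
    intro T _ _ hT
    let T₀ : Submodule R T := I • (⊤ : Submodule R T)
    have h0 : ∀ a ∈ I ^ n, ∀ t : T₀, a • t = 0 := by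
      intro a ha t
      apply Subtype.ext
      rw [Submodule.coe_smul, Submodule.coe_zero]
      obtain ⟨t, ht⟩ := t
      change a • t = 0
      refine Submodule.smul_induction_on ht ?_ ?_
      · intro b hb t' _
        rw [← mul_smul]
        exact hT _ (by rw [pow_succ]; exact Ideal.mul_mem_mul ha hb) t'
      · intro t₁ t₂ h₁ h₂
        rw [smul_add, h₁, h₂, add_zero]
    have h1 : ∀ a ∈ I, ∀ t : T ⧸ T₀, a • t = 0 := by
      intro a ha t
      obtain ⟨t, rfl⟩ := Submodule.mkQ_surjective T₀ t
      rw [← map_smul]
      exact (Submodule.Quotient.mk_eq_zero T₀).mpr (Submodule.smul_mem_smul ha Submodule.mem_top)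
    exact rTensor_injective_of_exact u T₀.subtype_injective (LinearMap.exact_subtype_mkQ T₀)
      (Submodule.mkQ_surjective T₀) (ih T₀ h0) (H1 (T ⧸ T₀) h1)

end PowTorsion

section BaseChange

variable {R A : Type*} [CommRing R] [CommRing A] [Algebra R A]
variable {V N M : Type*} [AddCommGroup V] [Module R V] [Module A V] [IsScalarTower R A V]
  [AddCommGroup N] [Module R N] [AddCommGroup M] [Module R M]

/-- `V ⊗_R u` is injective as soon as `V ⊗_A (A ⊗_R u)` is. -/
theorem lTensor_injective_of_baseChange (u : N →ₗ[R] M)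
    (h : Injective (LinearMap.lTensor V (u.baseChange A))) :
    Injective (LinearMap.lTensor V u) := by
  have key := TensorProduct.AlgebraTensorModule.lTensor_comp_cancelBaseChange
    (R := R) (A := A) (B := A) (M := V) (N := N) (Q := M) u
  intro x y hxy
  obtain ⟨x', rfl⟩ := (AlgebraTensorModule.cancelBaseChange R A A V N).surjective x
  obtain ⟨y', rfl⟩ := (AlgebraTensorModule.cancelBaseChange R A A V N).surjective y
  have hx := LinearMap.congr_fun key x'
  have hy := LinearMap.congr_fun key y'
  simp only [LinearMap.comp_apply, LinearEquiv.coe_coe] at hx hy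
  have h3 : (AlgebraTensorModule.cancelBaseChange R A A V M)
      ((LinearMap.lTensor V (u.baseChange A)) x') =
      (AlgebraTensorModule.cancelBaseChange R A A V M)
      ((LinearMap.lTensor V (u.baseChange A)) y') := by
    refine Eq.trans ?_ (Eq.trans hxy ?_)
    · exact hx.symm
    · exact hy
  rw [h ((AlgebraTensorModule.cancelBaseChange R A A V M).injective h3)]

end BaseChange

section Krull

/-- mixed finiteness of a tensor product (same proof as in `Lib/Helper62/FlatAdic.lean`). -/
theorem finite_tensor_mixed' {A B M N : Type*} [CommRing A] [CommRing B] [Algebra A B]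
    [AddCommGroup M] [Module A M] [Module B M] [IsScalarTower A B M] [AddCommGroup N] [Module A N]
    [Module.Finite B M] [Module.Finite A N] : Module.Finite B (M ⊗[A] N) := by
  classical
  obtain ⟨s, hs⟩ := (inferInstance : Module.Finite B M).fg_top
  obtain ⟨t, ht⟩ := (inferInstance : Module.Finite A N).fg_top
  refine ⟨⟨Finset.image₂ (fun m n => m ⊗ₜ[A] n) s t, eq_top_iff.mpr ?_⟩⟩
  rintro x -
  induction x with
  | zero => exact zero_mem _
  | add x y hx hy => exact add_mem hx hy
  | tmul m n =>
    have hm : m ∈ Submodule.span B (s : Set M) := hs ▸ Submodule.mem_top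
    have hn : n ∈ Submodule.span A (t : Set N) := ht ▸ Submodule.mem_top
    induction hm using Submodule.span_induction with
    | mem m hm =>
      induction hn using Submodule.span_induction with
      | mem n hn =>
        apply Submodule.subset_span
        rw [Finset.coe_image₂]
        exact Set.mem_image2_of_mem hm hn
      | zero => rw [tmul_zero]; exact zero_mem _
      | add n₁ n₂ _ _ h₁ h₂ => rw [tmul_add]; exact add_mem h₁ h₂
      | smul a n _ ih =>
        rw [tmul_smul]
        exact Submodule.smul_of_tower_mem _ a ih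
    | zero => rw [zero_tmul]; exact zero_mem _
    | add m₁ m₂ _ _ h₁ h₂ => rw [add_tmul]; exact add_mem h₁ h₂
    | smul b m _ ih =>
      rw [← smul_tmul']
      exact Submodule.smul_mem _ b ih

variable {R S : Type*} [CommRing R] [CommRing S] [Algebra R S] [IsNoetherianRing S]
variable {N T : Type*} [AddCommGroup N] [Module R N] [Module S N] [IsScalarTower R S N]
  [Module.Finite S N] [AddCommGroup T] [Module R T] [Module.Finite R T]

/-- Krull intersection for `N ⊗[R] T`: an element lying in the image of `N ⊗ 𝔞ⁿT` for every `n`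
vanishes, if `𝔞 S` is contained in the Jacobson radical of the Noetherian ring `S` and `N` is a
finite `S`-module. -/
theorem eq_zero_of_forall_mem_range (𝔞 : Ideal R)
    (h𝔞 : 𝔞.map (algebraMap R S) ≤ Ideal.jacobson ⊥) (x : N ⊗[R] T)
    (hx : ∀ n : ℕ, x ∈ LinearMap.range
      (LinearMap.lTensor N (𝔞 ^ n • (⊤ : Submodule R T)).subtype)) : x = 0 := by
  haveI : Module.Finite S (N ⊗[R] T) := finite_tensor_mixed'
  have hK := Ideal.iInf_pow_smul_eq_bot_of_le_jacobson (I := 𝔞.map (algebraMap R S))
    (M := N ⊗[R] T) h𝔞
  have hmem : x ∈ (⨅ i : ℕ, (𝔞.map (algebraMap R S)) ^ i • ⊤ : Submodule S (N ⊗[R] T)) := by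
    rw [Submodule.mem_iInf]
    intro n
    have hxn := hx n
    clear hx
    obtain ⟨z, rfl⟩ := hxn
    induction z with
    | zero => rw [map_zero]; exact zero_mem _
    | add a b ha hb => rw [map_add]; exact add_mem ha hb
    | tmul y t =>
      rw [LinearMap.lTensor_tmul]
      obtain ⟨t, ht⟩ := t
      change y ⊗ₜ[R] t ∈ _
      refine Submodule.smul_induction_on (p := fun t => y ⊗ₜ[R] t ∈
        ((𝔞.map (algebraMap R S)) ^ n • ⊤ : Submodule S (N ⊗[R] T))) ht ?_ ?_
      · intro a ha t' _
        have h1 : y ⊗ₜ[R] (a • t') = (algebraMap R S a) • (y ⊗ₜ[R] t') := by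
          rw [TensorProduct.tmul_smul, algebraMap_smul]
        rw [h1]
        exact Submodule.smul_mem_smul
          (by rw [← Ideal.map_pow]; exact Ideal.mem_map_of_mem _ ha) Submodule.mem_top
      · intro t₁ t₂ h₁ h₂
        rw [TensorProduct.tmul_add]
        exact add_mem h₁ h₂
  rw [hK] at hmem
  exact (Submodule.mem_bot S).mp hmem

end Krull

section Core

variable {R S M : Type*} [CommRing R] [CommRing S] [IsNoetherianRing R] [IsNoetherianRing S]
  [Algebra R S] [AddCommGroup M] [Module R M] [Module S M] [IsScalarTower R S M]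
  [Module.Finite S M]

/-- Artin–Rees + Krull: if for all `n` and all ideals `J` the map
`M ⊗ (J + Iⁿ)/Iⁿ → M ⊗ R/Iⁿ` is injective, then `M` is flat over `R`
(`R → S` Noetherian, `I S ⊆ rad S`, `M` finite over `S`). -/
theorem flat_of_forall_lTensor_quotient_injective (I : Ideal R)
    (hI : I.map (algebraMap R S) ≤ Ideal.jacobson ⊥)
    (H : ∀ (n : ℕ) (J : Ideal R), Injective
      (LinearMap.lTensor M (Submodule.map (Submodule.mkQ (I ^ n)) J).subtype)) :
    Module.Flat R M := by
  rw [Module.Flat.iff_lTensor_injective']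
  intro J
  rw [injective_iff_map_eq_zero]
  intro x hx
  obtain ⟨c, hc⟩ := Ideal.exists_pow_inf_eq_pow_smul I (M := R) (J : Submodule R R)
  apply eq_zero_of_forall_mem_range (S := S) I hI x
  intro k
  let q : J →ₗ[R] (Submodule.map (Submodule.mkQ (I ^ (k + c))) J) :=
    (Submodule.mkQ (I ^ (k + c))).submoduleMap J
  have hq : Surjective q := LinearMap.submoduleMap_surjective _ _
  have h1 : LinearMap.lTensor M q x = 0 := by
    apply H (k + c) J
    rw [map_zero, ← LinearMap.comp_apply, ← LinearMap.lTensor_comp]
    have h2 : (Submodule.map (Submodule.mkQ (I ^ (k + c))) J).subtype ∘ₗ q =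
        (Submodule.mkQ (I ^ (k + c))) ∘ₗ J.subtype := by
      ext j; rfl
    rw [h2, LinearMap.lTensor_comp, LinearMap.comp_apply, hx, map_zero]
  obtain ⟨z, rfl⟩ := (lTensor_exact M (LinearMap.exact_subtype_ker_map q) hq x).mp h1
  have hle : LinearMap.ker q ≤ (I ^ k • ⊤ : Submodule R J) := by
    intro j hj
    have hj1 : (j : R) ∈ I ^ (k + c) := by
      have h3 := congrArg Subtype.val (LinearMap.mem_ker.mp hj)
      have h4 : Submodule.mkQ (I ^ (k + c)) (j : R) = 0 := h3
      exact (Submodule.Quotient.mk_eq_zero _).mp h4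
    have hj2 : (j : R) ∈ I ^ (k + c) • (⊤ : Submodule R R) ⊓ J := by
      refine ⟨?_, j.2⟩
      rw [smul_eq_mul, Ideal.mul_top]
      exact hj1
    rw [hc (k + c) (by omega), Nat.add_sub_cancel] at hj2
    have hj3 : (j : R) ∈ I ^ k • (J : Submodule R R) :=
      Submodule.smul_mono le_rfl inf_le_right hj2
    have h5 : (I ^ k • (J : Submodule R R)) = Submodule.map J.subtype (I ^ k • ⊤) := by
      rw [Submodule.map_smul'', Submodule.map_top, Submodule.range_subtype]
    rw [h5] at hj3
    obtain ⟨j', hj', hjj'⟩ := hj3
    have h6 : j' = j := Subtype.ext hjj'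
    rwa [← h6]
  refine ⟨LinearMap.lTensor M (Submodule.inclusion hle) z, ?_⟩
  rw [← LinearMap.comp_apply, ← LinearMap.lTensor_comp]
  rfl

end Core

end Groth.Agent.Lib.Helper2
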