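import Groth.Agent.Lib.Helper2.LocalFlat3
import Groth.Agent.Lib.Helper2.LocalFlat2
import Mathlib.RingTheory.Flat.EquationalCriterion
import Mathlib.LinearAlgebra.Isomorphisms

/-!
# Descent of flatness along an injective map out of an Artinian local ring (helper2)

`free_of_flat_baseChange_of_nilpotent`: `(R, 𝔪)` local with `𝔪` nilpotent, `R → S` injective,
`S ⊗_R M` flat over `S` ⇒ `M` free over `R`.
-/

set_option autoImplicit false

namespace Groth.Agent.Lib.Helper2

open TensorProduct Function

section Aux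

universe u v

/-- If `M ⧸ N` is flat then `N ⊓ I • ⊤ ≤ I • N` (same proof as `Groth.Agent.S8369.inf_smul_top_le`,
by helper?; copied to keep this library self-contained). -/
lemma inf_smul_top_le' (A : Type u) [CommRing A] (I : Ideal A)
    (M : Type v) [AddCommGroup M] [Module A M] (N : Submodule A M) [Module.Flat A (M ⧸ N)] :
    N ⊓ I • (⊤ : Submodule A M) ≤ I • N := by
  classical
  rintro x ⟨hxN, hxI⟩
  have hxI' : x ∈ I • Submodule.span A (Set.range (id : M → M)) := by
    rw [Set.range_id, Submodule.span_univ]; exact hxI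
  rw [Submodule.mem_ideal_smul_span_iff_exists_sum] at hxI'
  obtain ⟨a, haI, hax⟩ := hxI'
  let f : a.support → A := fun i => a i
  let m : a.support → M := fun i => i
  have hsum : ∑ i : a.support, f i • m i = x := by
    rw [← hax, Finsupp.sum]
    exact Finset.sum_coe_sort a.support (fun i => a i • id i)
  have hrel : ∑ i : a.support, f i • (N.mkQ (m i)) = 0 := by
    have h0 : N.mkQ (∑ i : a.support, f i • m i) = 0 := by
      rw [hsum]
      exact (Submodule.Quotient.mk_eq_zero N).2 hxN
    rw [map_sum] at h0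
    simpa only [map_smul] using h0
  obtain ⟨k, c, y, hy, hc⟩ := Module.Flat.isTrivialRelation_of_sum_smul_eq_zero hrel
  have hy : ∀ i, N.mkQ (m i) = ∑ j, c i j • y j := hy
  choose y' hy' using fun j => N.mkQ_surjective (y j)
  have hn : ∀ i, m i - ∑ j, c i j • y' j ∈ N := by
    intro i
    rw [← Submodule.Quotient.mk_eq_zero N, Submodule.Quotient.mk_sub]
    change N.mkQ (m i) - N.mkQ (∑ j, c i j • y' j) = 0
    rw [map_sum, hy i, sub_eq_zero]
    apply Finset.sum_congr rfl
    intro j _
    rw [map_smul, hy']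
  have hx : x = ∑ i : a.support, f i • (m i - ∑ j, c i j • y' j) := by
    have h2 : ∑ i : a.support, f i • ∑ j, c i j • y' j = 0 := by
      simp only [Finset.smul_sum, smul_smul]
      rw [Finset.sum_comm]
      apply Finset.sum_eq_zero
      intro j _
      rw [← Finset.sum_smul, hc j, zero_smul]
    simp only [smul_sub, Finset.sum_sub_distrib]
    rw [h2, sub_zero, hsum]
  rw [hx]
  apply Submodule.sum_mem
  intro i _
  exact Submodule.smul_mem_smul (haI i) (hn i)

/-- Nakayama for a nilpotent ideal, with no finiteness hypothesis (as in `Groth.Agent.S0397`). -/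
theorem eq_top_of_sup_smul_eq_top' {R : Type u} {M : Type v} [CommRing R] [AddCommGroup M]
    [Module R M] {I : Ideal R} (hI : IsNilpotent I) (N : Submodule R M)
    (h : N ⊔ I • (⊤ : Submodule R M) = ⊤) : N = ⊤ := by
  obtain ⟨n, hn⟩ := hI
  have key : ∀ j : ℕ, (⊤ : Submodule R M) ≤ N ⊔ (I ^ j) • (⊤ : Submodule R M) := by
    intro j
    induction j with
    | zero => simp
    | succ j ih =>
      calc (⊤ : Submodule R M) = N ⊔ I • (⊤ : Submodule R M) := h.symm
        _ ≤ N ⊔ I • (N ⊔ (I ^ j) • (⊤ : Submodule R M)) := by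
          gcongr
        _ = N ⊔ (I • N ⊔ I • (I ^ j) • (⊤ : Submodule R M)) := by rw [Submodule.smul_sup]
        _ ≤ N ⊔ (I ^ (j + 1)) • (⊤ : Submodule R M) := by
          rw [← Submodule.mul_smul, ← pow_succ']
          refine sup_le le_sup_left (sup_le ?_ le_sup_right)
          exact le_trans Submodule.smul_le_right le_sup_left
  have := key n
  rw [hn, Submodule.zero_eq_bot, Submodule.bot_smul, sup_bot_eq] at this
  exact top_le_iff.mp this

/-- a submodule with `N ≤ I • N` for a nilpotent ideal `I` vanishes -/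
theorem eq_bot_of_le_smul_of_nilpotent {R : Type u} {M : Type v} [CommRing R] [AddCommGroup M]
    [Module R M] {I : Ideal R} (hI : IsNilpotent I) (N : Submodule R M) (h : N ≤ I • N) :
    N = ⊥ := by
  obtain ⟨n, hn⟩ := hI
  have key : ∀ j : ℕ, N ≤ (I ^ j) • N := by
    intro j
    induction j with
    | zero => simp
    | succ j ih =>
      calc N ≤ I • N := h
        _ ≤ I • ((I ^ j) • N) := Submodule.smul_mono le_rfl ih
        _ = (I ^ (j + 1)) • N := by rw [← Submodule.mul_smul, ← pow_succ']
  have := key n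
  rw [hn, Submodule.zero_eq_bot, Submodule.bot_smul] at this
  exact le_bot_iff.mp this

end Aux

section LiftBasis

universe u

variable {S M : Type u} [CommRing S] [AddCommGroup M] [Module S M]

/-- Lifting a basis of `M / I M` over `S / I` to a family in `M`. -/
theorem exists_lift_basis (I : Ideal S) {X : Type u}
    (b : Module.Basis X (S ⧸ I) ((S ⧸ I) ⊗[S] M)) :
    ∃ x : X → M, (∀ i, (1 : S ⧸ I) ⊗ₜ[S] x i = b i) ∧
      (⊤ ≤ LinearMap.range (Finsupp.linearCombination S x) ⊔ I • (⊤ : Submodule S M)) ∧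
      (∀ c : X →₀ S, Finsupp.linearCombination S x c ∈ (I • ⊤ : Submodule S M) →
        c ∈ (I • ⊤ : Submodule S (X →₀ S))) := by
  classical
  let e := TensorProduct.quotTensorEquivQuotSMul M I
  have hker : ∀ y : M, (1 : S ⧸ I) ⊗ₜ[S] y = 0 ↔ y ∈ (I • ⊤ : Submodule S M) := by
    intro y
    rw [← (Submodule.Quotient.mk_eq_zero (I • ⊤ : Submodule S M)),
      ← TensorProduct.quotTensorEquivQuotSMul_mk_one_tmul]
    exact ⟨fun h => by rw [h, map_zero], fun h => e.injective (by rw [h, map_zero])⟩
  have hsurj : ∀ y : (S ⧸ I) ⊗[S] M, ∃ x : M, (1 : S ⧸ I) ⊗ₜ[S] x = y := by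
    intro y
    obtain ⟨x, hx⟩ := Submodule.mkQ_surjective _ (e y)
    refine ⟨x, e.injective ?_⟩
    rw [TensorProduct.quotTensorEquivQuotSMul_mk_one_tmul]
    exact hx
  choose x hx using fun i => hsurj (b i)
  let v : (X →₀ S) →ₗ[S] M := Finsupp.linearCombination S x
  have hv : ∀ c : X →₀ S, (1 : S ⧸ I) ⊗ₜ[S] v c =
      Finsupp.linearCombination (S ⧸ I) b
        (Finsupp.mapRange (Ideal.Quotient.mk I) (map_zero _) c) := by
    intro c
    rw [Finsupp.linearCombination_apply, Finsupp.linearCombination_apply,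
      Finsupp.sum_mapRange_index (h := fun i a => a • b i) (fun i => zero_smul _ _)]
    rw [Finsupp.sum, Finsupp.sum, TensorProduct.tmul_sum]
    refine Finset.sum_congr rfl fun i _ => ?_
    rw [TensorProduct.tmul_smul, hx i, ← algebraMap_smul (S ⧸ I) (c i) (b i)]
    rfl
  refine ⟨x, hx, ?_, ?_⟩
  · intro y _
    obtain ⟨c, hc⟩ := Finsupp.mapRange_surjective (Ideal.Quotient.mk I) (map_zero _)
      Ideal.Quotient.mk_surjective (b.repr ((1 : S ⧸ I) ⊗ₜ[S] y))
    have h1 : (1 : S ⧸ I) ⊗ₜ[S] (y - v c) = 0 := by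
      rw [TensorProduct.tmul_sub, hv, hc, Module.Basis.linearCombination_repr, sub_self]
    have h2 := (hker _).mp h1
    have h3 : y = v c + (y - v c) := by abel
    rw [h3]
    exact Submodule.add_mem_sup (LinearMap.mem_range_self v c) h2
  · intro c hc
    have h1 := (hker _).mpr hc
    rw [hv] at h1
    have h2 := linearIndependent_iff.mp b.linearIndependent _ h1
    have h3 : ∀ i, c i ∈ I := by
      intro i
      have h4 := DFunLike.congr_fun h2 i
      rw [Finsupp.mapRange_apply, Finsupp.zero_apply] at h4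
      exact Ideal.Quotient.eq_zero_iff_mem.mp h4
    have hsum := Finsupp.sum_single c
    rw [← hsum, Finsupp.sum]
    refine Submodule.sum_mem _ fun i _ => ?_
    have h5 : Finsupp.single i (c i) = (c i) • Finsupp.single i (1 : S) := by
      rw [Finsupp.smul_single, smul_eq_mul, mul_one]
    rw [h5]
    exact Submodule.smul_mem_smul (h3 i) Submodule.mem_top

end LiftBasis

section L1

universe u

variable {R S M : Type u} [CommRing R] [IsLocalRing R] [CommRing S] [Algebra R S]
  [AddCommGroup M] [Module R M]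

/-- `(R, 𝔪)` local with `𝔪` nilpotent, `R → S` injective, `S ⊗_R M` flat over `S` ⇒ `M` is free
over `R`. -/
theorem free_of_flat_baseChange_of_nilpotent (hnil : IsNilpotent (IsLocalRing.maximalIdeal R))
    (hinj : Injective (algebraMap R S)) [Module.Flat S (S ⊗[R] M)] : Module.Free R M := by
  classical
  letI : Field (R ⧸ IsLocalRing.maximalIdeal R) := Ideal.Quotient.field _
  let X := Module.Free.ChooseBasisIndex (R ⧸ IsLocalRing.maximalIdeal R)
    ((R ⧸ IsLocalRing.maximalIdeal R) ⊗[R] M)
  let b : Module.Basis X (R ⧸ IsLocalRing.maximalIdeal R)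
    ((R ⧸ IsLocalRing.maximalIdeal R) ⊗[R] M) := Module.Free.chooseBasis _ _
  obtain ⟨x, hx, hgen, hstar⟩ := exists_lift_basis (IsLocalRing.maximalIdeal R) b
  let u : (X →₀ R) →ₗ[R] M := Finsupp.linearCombination R x
  have husurj : Surjective u := by
    rw [← LinearMap.range_eq_top]
    exact eq_top_of_sup_smul_eq_top' hnil _ (top_le_iff.mp hgen)
  have hku : Injective (LinearMap.lTensor (IsLocalRing.ResidueField R) u) :=
    lTensor_residueField_injective_of_forall u hstar
  set mS : Ideal S := (IsLocalRing.maximalIdeal R).map (algebraMap R S) with hmS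
  have hmSnil : IsNilpotent mS := by
    obtain ⟨n, hn⟩ := hnil
    refine ⟨n, ?_⟩
    rw [hmS, ← Ideal.map_pow, hn, Ideal.zero_eq_bot, Ideal.map_bot]
    rfl
  let uS : S ⊗[R] (X →₀ R) →ₗ[S] S ⊗[R] M := u.baseChange S
  have huSsurj : Surjective uS := LinearMap.lTensor_surjective S husurj
  let K' : Submodule S (S ⊗[R] (X →₀ R)) := LinearMap.ker uS
  haveI : Module.Flat S ((S ⊗[R] (X →₀ R)) ⧸ K') :=
    Module.Flat.of_linearEquiv (uS.quotKerEquivOfSurjective huSsurj)
  have hA : K' ≤ mS • (⊤ : Submodule S (S ⊗[R] (X →₀ R))) := by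
    intro y hy
    have hy0 : uS y = 0 := hy
    let q : S →ₗ[R] S ⧸ mS := (Ideal.Quotient.mkₐ R mS).toLinearMap
    have hq : Surjective q := Ideal.Quotient.mkₐ_surjective R mS
    have hexq : Exact (mS.restrictScalars R).subtype q := by
      intro s
      constructor
      · intro hs
        exact ⟨⟨s, Ideal.Quotient.eq_zero_iff_mem.mp hs⟩, rfl⟩
      · rintro ⟨t, rfl⟩
        exact Ideal.Quotient.eq_zero_iff_mem.mpr t.2
    have hT : ∀ a ∈ IsLocalRing.maximalIdeal R, ∀ t : S ⧸ mS, a • t = 0 := by
      intro a ha t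
      rw [Algebra.smul_def]
      have h0 : algebraMap R (S ⧸ mS) a = 0 := by
        rw [IsScalarTower.algebraMap_apply R S (S ⧸ mS)]
        exact Ideal.Quotient.eq_zero_iff_mem.mpr (Ideal.mem_map_of_mem _ ha)
      rw [h0, zero_mul]
    have hinjT : Injective (u.lTensor (S ⧸ mS)) := by
      rw [LinearMap.lTensor_inj_iff_rTensor_inj]
      exact rTensor_injective_of_residue u hku (S ⧸ mS) hT
    have h1 : u.lTensor (S ⧸ mS) (q.rTensor (X →₀ R) y) = 0 := by
      rw [← LinearMap.comp_apply, LinearMap.lTensor_comp_rTensor,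
        ← LinearMap.rTensor_comp_lTensor, LinearMap.comp_apply]
      have h0 : u.lTensor S y = 0 := hy0
      rw [h0, map_zero]
    have h2 : q.rTensor (X →₀ R) y = 0 := hinjT (by rw [h1, map_zero])
    obtain ⟨z, rfl⟩ := (rTensor_exact (X →₀ R) hexq hq y).mp h2
    clear hy hy0 h1 h2
    induction z with
    | zero => rw [map_zero]; exact zero_mem _
    | add a b ha hb => rw [map_add]; exact add_mem ha hb
    | tmul a f =>
      rw [LinearMap.rTensor_tmul]
      have h0 : ((mS.restrictScalars R).subtype a) ⊗ₜ[R] f = (a : S) • ((1 : S) ⊗ₜ[R] f) := by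
        rw [TensorProduct.smul_tmul', smul_eq_mul, mul_one]
        rfl
      rw [h0]
      exact Submodule.smul_mem_smul a.2 Submodule.mem_top
  have hB : K' ≤ mS • K' := fun y hy => inf_smul_top_le' S mS _ K' ⟨hy, hA hy⟩
  have hK' : K' = ⊥ := eq_bot_of_le_smul_of_nilpotent hmSnil K' hB
  have huinj : Injective u := by
    rw [injective_iff_map_eq_zero]
    intro c hc
    have h1 : (1 : S) ⊗ₜ[R] c ∈ K' := by
      change uS ((1 : S) ⊗ₜ[R] c) = 0
      rw [LinearMap.baseChange_tmul, hc, TensorProduct.tmul_zero]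
    rw [hK', Submodule.mem_bot] at h1
    have h2 : Injective ((Algebra.linearMap R S).rTensor (X →₀ R)) :=
      Module.Flat.rTensor_preserves_injective_linearMap _ hinj
    have h3 : ((Algebra.linearMap R S).rTensor (X →₀ R)) ((1 : R) ⊗ₜ[R] c) = 0 := by
      rw [LinearMap.rTensor_tmul, Algebra.linearMap_apply, map_one]
      exact h1
    have h4 : (1 : R) ⊗ₜ[R] c = 0 := h2 (by rw [h3, map_zero])
    have h5 := congrArg (TensorProduct.lid R (X →₀ R)) h4
    simpa using h5
  exact Module.Free.of_equiv (LinearEquiv.ofBijective u ⟨huinj, husurj⟩)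

end L1

end Groth.Agent.Lib.Helper2
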