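import Groth.Agent.Lib.Helper2.LocalFlat4
import Mathlib.Algebra.Module.LocalizedModule.Exact
import Mathlib.RingTheory.Localization.BaseChange
import Mathlib.RingTheory.Flat.Localization
import Mathlib.RingTheory.Localization.Away.Basic

/-!
# Flatness from a nonzerodivisor: `M_f` flat over `A_f` and `M/fM` flat over `A/fA` (helper2)
-/

set_option autoImplicit false

namespace Groth.Agent.Lib.Helper2

open TensorProduct Function

section Regular

variable {A : Type*} [CommRing A] {M : Type*} [AddCommGroup M] [Module A M]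

/-- If `f` is `M`-regular then `(f) ⊗ M → M` is injective. -/
theorem rTensor_span_singleton_injective (f : A) (hM : IsSMulRegular M f) :
    Injective (LinearMap.rTensor M (Ideal.span {f} : Ideal A).subtype) := by
  let g : A →ₗ[A] (Ideal.span {f} : Ideal A) :=
    LinearMap.toSpanSingleton A _ ⟨f, Ideal.mem_span_singleton_self f⟩
  have hg : Surjective g := by
    rintro ⟨x, hx⟩
    obtain ⟨a, rfl⟩ := Ideal.mem_span_singleton'.mp hx
    exact ⟨a, Subtype.ext (by simp [g])⟩
  rw [injective_iff_map_eq_zero]
  intro z hz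
  obtain ⟨w, rfl⟩ := LinearMap.rTensor_surjective M hg z
  rw [← LinearMap.comp_apply, ← LinearMap.rTensor_comp] at hz
  have h1 : ∀ w : A ⊗[A] M,
      LinearMap.rTensor M ((Ideal.span {f} : Ideal A).subtype ∘ₗ g) w = f • w := by
    intro w
    induction w with
    | zero => simp
    | add a b ha hb => rw [map_add, smul_add, ha, hb]
    | tmul a m =>
      rw [LinearMap.rTensor_tmul, TensorProduct.smul_tmul']
      congr 1
      simp [g, mul_comm]
  rw [h1] at hz
  have h2 : f • (TensorProduct.lid A M w) = 0 := by rw [← map_smul, hz, map_zero]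
  have h3 : TensorProduct.lid A M w = 0 :=
    hM (show f • _ = f • (0 : M) by rw [h2, smul_zero])
  have h4 : w = 0 := (TensorProduct.lid A M).injective (by rw [h3, map_zero])
  rw [h4, map_zero]

/-- `Tor₁(M, T) = 0` for `T` killed by an `M`-regular element `f` such that `M/fM` is flat over
`A/f`. -/
theorem tau_of_regular {K F : Type*} [AddCommGroup K] [Module A K] [AddCommGroup F] [Module A F]
    [Module.Flat A F] {ι : K →ₗ[A] F} {π : F →ₗ[A] M} (hι : Injective ι) (hex : Exact ι π)
    (hπ : Surjective π) (f : A) (hM : IsSMulRegular M f)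
    (h2 : Module.Flat (A ⧸ Ideal.span {f}) ((A ⧸ Ideal.span {f}) ⊗[A] M))
    (T : Type*) [AddCommGroup T] [Module A T] (hT : ∀ t : T, f • t = 0) :
    Injective (ι.rTensor T) := by
  have hexI : Exact (Ideal.span {f} : Ideal A).subtype
      (Ideal.Quotient.mkₐ A (Ideal.span {f})).toLinearMap := by
    intro x
    constructor
    · intro hx
      exact ⟨⟨x, Ideal.Quotient.eq_zero_iff_mem.mp hx⟩, rfl⟩
    · rintro ⟨y, rfl⟩
      exact Ideal.Quotient.eq_zero_iff_mem.mpr y.2
  have hR : Injective (ι.rTensor A) := Module.Flat.rTensor_preserves_injective_linearMap ι hι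
  have hτ := tau_of_injective hex hπ hexI (Ideal.Quotient.mkₐ_surjective A _)
    (rTensor_span_singleton_injective f hM) hR
  refine tau_of_torsion hex hπ (Ideal.span {f}) hτ h2 T ?_
  intro a ha t
  obtain ⟨c, rfl⟩ := Ideal.mem_span_singleton'.mp ha
  rw [mul_smul, hT, smul_zero]

/-- The kernel of a surjection of flat modules is flat. -/
theorem flat_of_exact_flat {P F Q : Type*} [AddCommGroup P] [Module A P] [AddCommGroup F]
    [Module A F] [AddCommGroup Q] [Module A Q] [Module.Flat A F] [Module.Flat A Q]
    {i : P →ₗ[A] F} {p : F →ₗ[A] Q} (hi : Injective i) (hex : Exact i p) (hp : Surjective p) :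
    Module.Flat A P := by
  rw [Module.Flat.iff_lTensor_injective']
  intro J
  have h1 : Injective (i.rTensor J) := by
    rw [← LinearMap.lTensor_inj_iff_rTensor_inj]
    exact LinearMap.lTensor_injective_of_exact_of_flat p hp i hi hex J
  have h2 : Injective (J.subtype.lTensor F) :=
    Module.Flat.lTensor_preserves_injective_linearMap _ J.subtype_injective
  refine Injective.of_comp (f := i.rTensor A) ?_
  have h3 : (i.rTensor A) ∘ (J.subtype.lTensor P) = (J.subtype.lTensor F) ∘ (i.rTensor J) := by
    ext x
    simp only [Function.comp_apply]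
    rw [← LinearMap.comp_apply, ← LinearMap.comp_apply, LinearMap.rTensor_comp_lTensor,
      LinearMap.lTensor_comp_rTensor]
  rw [h3]
  exact h2.comp h1

end Regular

section NZD

universe v

variable {A : Type*} [CommRing A] {M : Type*} [AddCommGroup M] [Module A M]
variable {K F : Type*} [AddCommGroup K] [Module A K] [AddCommGroup F] [Module A F]
variable {K₂ F₂ : Type*} [AddCommGroup K₂] [Module A K₂] [AddCommGroup F₂] [Module A F₂]

/-- `Tor₁(M, N)` has no `f`-torsion, provided `Tor₁(M, T) = 0` and `Tor₁(K, T) = 0` for all `T`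
killed by `f` (where `K` is the first syzygy of `M`). -/
theorem eq_zero_of_smul_eq_zero [Module.Flat A F] [Module.Flat A F₂]
    {ι : K →ₗ[A] F} {π : F →ₗ[A] M}
    {ι₂ : K₂ →ₗ[A] F₂} {π₂ : F₂ →ₗ[A] K} (hex₂ : Exact ι₂ π₂) (hπ₂ : Surjective π₂)
    (f : A) (N : Type v) [AddCommGroup N] [Module A N]
    (HM : ∀ (T : Type v) [AddCommGroup T] [Module A T], (∀ t : T, f • t = 0) →
      Injective (ι.rTensor T))
    (HK : ∀ (T : Type v) [AddCommGroup T] [Module A T], (∀ t : T, f • t = 0) →
      Injective (ι₂.rTensor T))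
    (x : K ⊗[A] N) (hx : ι.rTensor N x = 0) (hfx : f • x = 0) : x = 0 := by
  set φ : N →ₗ[A] N := LinearMap.lsmul A N f with hφ
  set p : N →ₗ[A] LinearMap.range φ := φ.rangeRestrict with hp
  set j : LinearMap.range φ →ₗ[A] N := (LinearMap.range φ).subtype with hj'
  have hkillQ : ∀ t : N ⧸ LinearMap.range φ, f • t = 0 := by
    intro t
    obtain ⟨t, rfl⟩ := Submodule.mkQ_surjective _ t
    rw [← map_smul]
    exact (Submodule.Quotient.mk_eq_zero _).mpr ⟨t, rfl⟩
  have hkillK : ∀ t : LinearMap.ker p, f • t = 0 := by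
    rintro ⟨t, ht⟩
    apply Subtype.ext
    have h1 : p t = 0 := ht
    have h2 : ((p t : LinearMap.range φ) : N) = 0 := by rw [h1]; rfl
    simpa [p, φ] using h2
  -- K ⊗ fN → K ⊗ N is injective
  have hj : Injective (j.lTensor K) :=
    injective_of_tau hex₂ hπ₂ (Submodule.subtype_injective _)
      (LinearMap.exact_subtype_mkQ _) (Submodule.mkQ_surjective _) (HK _ hkillQ)
  have h1 : ∀ w : K ⊗[A] N, φ.lTensor K w = f • w := by
    intro w
    induction w with
    | zero => simp
    | add a b ha hb => rw [map_add, smul_add, ha, hb]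
    | tmul a m =>
      rw [LinearMap.lTensor_tmul, TensorProduct.smul_tmul', TensorProduct.smul_tmul]
      rfl
  have hjp : j ∘ₗ p = φ := by
    ext n
    rfl
  have hy : p.lTensor K x = 0 := by
    apply hj
    rw [map_zero, ← LinearMap.comp_apply, ← LinearMap.lTensor_comp, hjp, h1, hfx]
  -- x comes from K ⊗ ker p
  have hexp : Exact (LinearMap.ker p).subtype p := LinearMap.exact_subtype_ker_map p
  have hexK := lTensor_exact K hexp (LinearMap.surjective_rangeRestrict φ)
  obtain ⟨z, rfl⟩ := (hexK x).mp hy
  have hz : ι.rTensor (LinearMap.ker p) z = 0 := by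
    have hFi : Injective ((LinearMap.ker p).subtype.lTensor F) :=
      Module.Flat.lTensor_preserves_injective_linearMap _ (Submodule.subtype_injective _)
    apply hFi
    rw [map_zero, ← LinearMap.comp_apply, LinearMap.lTensor_comp_rTensor,
      ← LinearMap.rTensor_comp_lTensor, LinearMap.comp_apply, hx]
  have hz0 : z = 0 := HM _ hkillK (by rw [hz, map_zero])
  rw [hz0, map_zero]

/-- `Tor₁(M, N)` is `f`-power torsion if `M_f` is flat over `A_f`. -/
theorem exists_pow_smul_eq_zero
    {ι : K →ₗ[A] F} {π : F →ₗ[A] M} (hι : Injective ι) (hex : Exact ι π) (hπ : Surjective π)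
    (f : A) [Module.Flat (Localization.Away f) (LocalizedModule (Submonoid.powers f) M)]
    (N : Type*) [AddCommGroup N] [Module A N] (x : K ⊗[A] N) (hx : ι.rTensor N x = 0) :
    ∃ n : ℕ, f ^ n • x = 0 := by
  set S : Submonoid A := Submonoid.powers f with hS
  let ιf : LocalizedModule S K →ₗ[A] LocalizedModule S F :=
    IsLocalizedModule.map S (LocalizedModule.mkLinearMap S K) (LocalizedModule.mkLinearMap S F) ι
  let πf : LocalizedModule S F →ₗ[A] LocalizedModule S M :=
    IsLocalizedModule.map S (LocalizedModule.mkLinearMap S F) (LocalizedModule.mkLinearMap S M) π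
  have hexf : Exact ιf πf := IsLocalizedModule.map_exact S _ _ _ ι π hex
  have hπf : Surjective πf := IsLocalizedModule.map_surjective S _ _ π hπ
  have hιf : Injective ιf := IsLocalizedModule.map_injective S _ _ ι hι
  haveI : Module.Flat A (LocalizedModule S M) :=
    Module.Flat.trans A (Localization.Away f) (LocalizedModule S M)
  have hinj : Injective (ιf.rTensor N) := by
    rw [← LinearMap.lTensor_inj_iff_rTensor_inj]
    exact LinearMap.lTensor_injective_of_exact_of_flat πf hπf ιf hιf hexf N
  have hcomm : ιf.rTensor N ((LocalizedModule.mkLinearMap S K).rTensor N x) =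
      (LocalizedModule.mkLinearMap S F).rTensor N (ι.rTensor N x) := by
    rw [← LinearMap.comp_apply, ← LinearMap.comp_apply, ← LinearMap.rTensor_comp,
      ← LinearMap.rTensor_comp]
    congr 2
    exact IsLocalizedModule.map_comp S (LocalizedModule.mkLinearMap S K)
      (LocalizedModule.mkLinearMap S F) ι
  have h0 : (LocalizedModule.mkLinearMap S K).rTensor N x = 0 :=
    hinj (by rw [hcomm, hx, map_zero, map_zero])
  have h0' : TensorProduct.AlgebraTensorModule.rTensor A N (LocalizedModule.mkLinearMap S K) x = 0 :=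
    h0
  obtain ⟨s, hs⟩ := (IsLocalizedModule.eq_zero_iff S
    (TensorProduct.AlgebraTensorModule.rTensor A N (LocalizedModule.mkLinearMap S K))).mp h0'
  obtain ⟨n, hn⟩ := s.2
  refine ⟨n, ?_⟩
  have : f ^ n = (s : A) := hn
  rw [this]
  exact hs

end NZD

section Assembly

set_option maxHeartbeats 400000

universe u

variable {A M : Type u} [CommRing A] [AddCommGroup M] [Module A M]

/-- Flatness from a nonzerodivisor, relative to abstract presentations of `M` and of its first
syzygy. -/
theorem flat_of_regular_presentation {K F K₂ F₂ : Type u} [AddCommGroup K] [Module A K]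
    [AddCommGroup F] [Module A F] [AddCommGroup K₂] [Module A K₂] [AddCommGroup F₂] [Module A F₂]
    [Module.Flat A F] [Module.Flat A F₂]
    {ι : K →ₗ[A] F} {π : F →ₗ[A] M} (hι : Injective ι) (hex : Exact ι π) (hπ : Surjective π)
    {ι₂ : K₂ →ₗ[A] F₂} {π₂ : F₂ →ₗ[A] K} (hι₂ : Injective ι₂) (hex₂ : Exact ι₂ π₂)
    (hπ₂ : Surjective π₂)
    (f : A) (hF : IsSMulRegular F f) (hM : IsSMulRegular M f)
    [Module.Flat (Localization.Away f) (LocalizedModule (Submonoid.powers f) M)]
    [h2 : Module.Flat (A ⧸ Ideal.span {f}) ((A ⧸ Ideal.span {f}) ⊗[A] M)] : Module.Flat A M := by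
  have HM : ∀ (T : Type u) [AddCommGroup T] [Module A T], (∀ t : T, f • t = 0) →
      Injective (ι.rTensor T) := fun T _ _ hT => tau_of_regular hι hex hπ f hM h2 T hT
  have hK : IsSMulRegular K f := by
    intro a b hab
    apply hι
    apply hF
    have := congrArg ι hab
    simpa using this
  have flatK : Module.Flat (A ⧸ Ideal.span {f}) ((A ⧸ Ideal.span {f}) ⊗[A] K) := by
    have hτ : Injective (ι.rTensor (A ⧸ Ideal.span {f})) := by
      apply HM
      intro t
      obtain ⟨t, rfl⟩ := Ideal.Quotient.mk_surjective t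
      rw [← Ideal.Quotient.mkₐ_eq_mk A, ← map_smul, Ideal.Quotient.mkₐ_eq_mk,
        Ideal.Quotient.eq_zero_iff_mem, smul_eq_mul]
      exact Ideal.mul_mem_right _ _ (Ideal.mem_span_singleton_self f)
    have hg : Injective (ι.baseChange (A ⧸ Ideal.span {f})) := by
      rw [← LinearMap.lTensor_inj_iff_rTensor_inj] at hτ
      exact hτ
    have hf : Surjective (π.baseChange (A ⧸ Ideal.span {f})) := LinearMap.lTensor_surjective _ hπ
    have hH : Exact (ι.baseChange (A ⧸ Ideal.span {f})) (π.baseChange (A ⧸ Ideal.span {f})) :=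
      lTensor_exact (A ⧸ Ideal.span {f}) hex hπ
    exact flat_of_exact_flat hg hH hf
  have HK : ∀ (T : Type u) [AddCommGroup T] [Module A T], (∀ t : T, f • t = 0) →
      Injective (ι₂.rTensor T) := fun T _ _ hT => tau_of_regular hι₂ hex₂ hπ₂ f hK flatK T hT
  rw [Module.Flat.iff_lTensor_injective']
  intro J
  have hexJ : Exact J.subtype (Ideal.Quotient.mkₐ A J).toLinearMap := by
    intro x
    constructor
    · intro hx
      exact ⟨⟨x, Ideal.Quotient.eq_zero_iff_mem.mp hx⟩, rfl⟩
    · rintro ⟨y, rfl⟩
      exact Ideal.Quotient.eq_zero_iff_mem.mpr y.2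
  refine injective_of_tau hex hπ J.subtype_injective hexJ (Ideal.Quotient.mkₐ_surjective A J) ?_
  rw [injective_iff_map_eq_zero]
  intro x hx
  obtain ⟨n, hn⟩ := exists_pow_smul_eq_zero hι hex hπ f (A ⧸ J) x hx
  induction n with
  | zero => simpa using hn
  | succ n ih =>
    apply ih
    apply eq_zero_of_smul_eq_zero (ι := ι) (π := π) hex₂ hπ₂ f (A ⧸ J) HM HK (f ^ n • x)
    · rw [map_smul, hx, smul_zero]
    · rw [← mul_smul, ← pow_succ']
      exact hn

/-- Flatness from a nonzerodivisor, relative to an abstract presentation of `M`. -/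
theorem flat_of_regular_presentation' {K F : Type u} [AddCommGroup K] [Module A K]
    [AddCommGroup F] [Module A F] [Module.Flat A F]
    {ι : K →ₗ[A] F} {π : F →ₗ[A] M} (hι : Injective ι) (hex : Exact ι π) (hπ : Surjective π)
    (f : A) (hF : IsSMulRegular F f) (hM : IsSMulRegular M f)
    [Module.Flat (Localization.Away f) (LocalizedModule (Submonoid.powers f) M)]
    [Module.Flat (A ⧸ Ideal.span {f}) ((A ⧸ Ideal.span {f}) ⊗[A] M)] : Module.Flat A M :=
  flat_of_regular_presentation (K := K) (F := F)
    (K₂ := LinearMap.ker (Finsupp.linearCombination A (id : K → K))) (F₂ := K →₀ A)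
    (ι := ι) (π := π) hι hex hπ
    (ι₂ := (LinearMap.ker (Finsupp.linearCombination A (id : K → K))).subtype)
    (π₂ := Finsupp.linearCombination A (id : K → K)) (Submodule.subtype_injective _)
    (LinearMap.exact_subtype_ker_map _) (Finsupp.linearCombination_id_surjective A K)
    f hF hM

theorem isSMulRegular_finsupp (f : A) (hA : f ∈ nonZeroDivisors A) (X : Type*) :
    IsSMulRegular (X →₀ A) f := by
  intro a b hab
  ext m
  have h1 : f * a m = f * b m := by
    have := DFunLike.congr_fun hab m
    simpa using this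
  exact (mul_cancel_left_mem_nonZeroDivisors hA).mp h1

/-- **Flatness from a nonzerodivisor**: `f` a nonzerodivisor on `A` and `M`, `M_f` flat over `A_f`
and `M/fM` flat over `A/fA`; then `M` is flat over `A`. -/
theorem flat_of_regular (f : A) (hA : f ∈ nonZeroDivisors A) (hM : IsSMulRegular M f)
    [Module.Flat (Localization.Away f) (LocalizedModule (Submonoid.powers f) M)]
    [Module.Flat (A ⧸ Ideal.span {f}) ((A ⧸ Ideal.span {f}) ⊗[A] M)] : Module.Flat A M :=
  flat_of_regular_presentation' (K := LinearMap.ker (Finsupp.linearCombination A (id : M → M)))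
    (F := M →₀ A) (ι := (LinearMap.ker (Finsupp.linearCombination A (id : M → M))).subtype)
    (π := Finsupp.linearCombination A (id : M → M)) (Submodule.subtype_injective _)
    (LinearMap.exact_subtype_ker_map _) (Finsupp.linearCombination_id_surjective A M)
    f (isSMulRegular_finsupp f hA M) hM

end Assembly

end Groth.Agent.Lib.Helper2
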