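import Groth.Agent.Lib.Helper2.Matlis4

/-!
# Matlis duality over a complete Noetherian local ring (helper2)
-/

set_option autoImplicit false

namespace Groth.Agent.Lib.Helper2

open Function IsLocalRing

universe u

section

variable {R : Type u} [CommRing R] [IsLocalRing R] [IsNoetherianRing R]
  [IsAdicComplete (maximalIdeal R) R]
variable {E : Type u} [AddCommGroup E] [Module R E]
variable (f : ResidueField R →ₗ[R] E) (hf : InjHull.IsInjectiveHull f)

include f hf in
/-- Over a complete local ring every endomorphism of `E(k)` is a homothety. -/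
theorem exists_scalar_of_end (φ : Module.End R E) : ∃ r : R, ∀ x, φ x = r • x := by
  obtain ⟨a, ha⟩ := matlisEnd_surjective f hf φ
  obtain ⟨r, hr⟩ := AdicCompletion.of_surjective (maximalIdeal R) R a
  refine ⟨r, fun x => ?_⟩
  obtain ⟨N, hN⟩ := isPowerTorsion_of_isInjectiveHull f hf x
  rw [← ha, matlisEnd_apply_eq f hf a x N hN r (by rw [← hr, AdicCompletion.evalₐ_of])]

include f hf in
theorem exists_scalars_of_pi (n : ℕ) (Φ : (Fin n → E) →ₗ[R] E) :
    ∃ r : Fin n → R, ∀ v, Φ v = ∑ i, r i • v i := by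
  choose r hr using fun i => exists_scalar_of_end f hf (Φ ∘ₗ LinearMap.single R (fun _ => E) i)
  refine ⟨r, fun v => ?_⟩
  conv_lhs => rw [← Finset.univ_sum_single v, map_sum]
  refine Finset.sum_congr rfl fun i _ => ?_
  exact hr i (v i)

include f hf in
/-- Matlis duality for finite modules: the double dual map is bijective. -/
theorem applyₗ_bijective_of_finite (M : Type u) [AddCommGroup M] [Module R M] [Module.Finite R M] :
    Bijective (LinearMap.applyₗ : M →ₗ[R] (M →ₗ[R] E) →ₗ[R] E) := by
  refine ⟨applyₗ_injective f hf M, ?_⟩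
  intro θ
  obtain ⟨n, s, hs⟩ := Module.Finite.exists_fin (R := R) (M := M)
  let ev : (M →ₗ[R] E) →ₗ[R] (Fin n → E) := LinearMap.pi (fun i => LinearMap.applyₗ (s i))
  have hev : Injective ev := by
    rw [injective_iff_map_eq_zero]
    intro φ hφ
    apply LinearMap.ext_on_range hs
    intro i
    have := congrFun hφ i
    simpa [ev] using this
  obtain ⟨Θ, hΘ⟩ := hf.isInjective.out ev hev θ
  obtain ⟨r, hr⟩ := exists_scalars_of_pi f hf n Θ
  refine ⟨∑ i, r i • s i, ?_⟩
  ext φ
  rw [LinearMap.applyₗ_apply_apply, ← hΘ φ, hr, map_sum]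
  refine Finset.sum_congr rfl fun i _ => ?_
  rw [map_smul]
  rfl

include f hf in
theorem isArtinian_dual_of_finite (M : Type u) [AddCommGroup M] [Module R M] [Module.Finite R M] :
    IsArtinian R (M →ₗ[R] E) := by
  haveI : IsArtinian R E := isArtinian_of_isInjectiveHull f hf
  obtain ⟨n, s, hs⟩ := Module.Finite.exists_fin (R := R) (M := M)
  let ev : (M →ₗ[R] E) →ₗ[R] (Fin n → E) := LinearMap.pi (fun i => LinearMap.applyₗ (s i))
  have hev : Injective ev := by
    rw [injective_iff_map_eq_zero]
    intro φ hφ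
    apply LinearMap.ext_on_range hs
    intro i
    have := congrFun hφ i
    simpa [ev] using this
  exact isArtinian_of_injective ev hev

include f hf in
/-- Matlis duality for Artinian modules. -/
theorem finite_dual_and_applyₗ_bijective_of_isArtinian (M : Type u) [AddCommGroup M] [Module R M]
    [IsArtinian R M] : Module.Finite R (M →ₗ[R] E) ∧
      Bijective (LinearMap.applyₗ : M →ₗ[R] (M →ₗ[R] E) →ₗ[R] E) := by
  obtain ⟨htors, hfin⟩ := (isArtinian_iff_isPowerTorsion_and_finite_socle (R := R) (M := M)).mp inferInstance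
  obtain ⟨n, hn⟩ : ∃ n, Module.finrank (R ⧸ maximalIdeal R)
      ↥(LocCoh.torsionBy (maximalIdeal R) M) = n := ⟨_, rfl⟩
  obtain ⟨g, hg⟩ := exists_injective_to_pi_of_socle_finrank f hf M htors n hn
  haveI := hf.isInjective
  -- every functional on `M` extends to `E^n`
  have hext : ∀ φ : M →ₗ[R] E, ∃ Φ : (Fin n → E) →ₗ[R] E, ∀ x, Φ (g x) = φ x :=
    fun φ => hf.isInjective.out g hg φ
  constructor
  · -- generated by `π_i ∘ g`
    let p : (Fin n → R) →ₗ[R] (M →ₗ[R] E) :=
      Fintype.linearCombination R (fun i => (LinearMap.proj i : (Fin n → E) →ₗ[R] E) ∘ₗ g)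
    refine Module.Finite.of_surjective p ?_
    intro φ
    obtain ⟨Φ, hΦ⟩ := hext φ
    obtain ⟨r, hr⟩ := exists_scalars_of_pi f hf n Φ
    refine ⟨r, ?_⟩
    ext x
    rw [← hΦ x, hr]
    simp [p, Fintype.linearCombination_apply]
  · refine ⟨applyₗ_injective f hf M, ?_⟩
    intro θ
    -- `Q = E^n / M` is Artinian, embeds into `E^m`
    haveI : IsArtinian R E := isArtinian_of_isInjectiveHull f hf
    let Q := (Fin n → E) ⧸ LinearMap.range g
    obtain ⟨htorsQ, hfinQ⟩ :=
      (isArtinian_iff_isPowerTorsion_and_finite_socle (R := R) (M := Q)).mp inferInstance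
    obtain ⟨g', hg'⟩ := exists_injective_to_pi_of_socle_finrank f hf Q htorsQ _ rfl
    -- the functional `Θ = θ ∘ res` on `Hom(E^n, E)`
    let res : ((Fin n → E) →ₗ[R] E) →ₗ[R] (M →ₗ[R] E) := LinearMap.lcomp R E g
    let y : Fin n → E := fun i => θ (res (LinearMap.proj i))
    have hy : ∀ Φ : (Fin n → E) →ₗ[R] E, θ (res Φ) = Φ y := by
      intro Φ
      obtain ⟨r, hr⟩ := exists_scalars_of_pi f hf n Φ
      have hΦ : Φ = ∑ i, r i • (LinearMap.proj i : (Fin n → E) →ₗ[R] E) := by
        ext v
        simp [hr]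
      rw [hr y]
      conv_lhs => rw [hΦ, map_sum, map_sum]
      refine Finset.sum_congr rfl fun i _ => ?_
      rw [map_smul, map_smul]
    -- `y` lies in the image of `g`
    have hyM : y ∈ LinearMap.range g := by
      rw [← Submodule.Quotient.mk_eq_zero]
      by_contra hne
      have hne' : g' (Submodule.Quotient.mk y) ≠ 0 := fun h => hne (hg' (by rw [h, map_zero]))
      obtain ⟨ψ, hψ⟩ := exists_linearMap_apply_ne_zero f hf _ hne'
      apply hψ
      have h1 := hy (ψ ∘ₗ g' ∘ₗ (LinearMap.range g).mkQ)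
      have h2 : res (ψ ∘ₗ g' ∘ₗ (LinearMap.range g).mkQ) = 0 := by
        ext x
        simp only [res, LinearMap.lcomp_apply, LinearMap.comp_apply, LinearMap.zero_apply]
        have : (LinearMap.range g).mkQ (g x) = 0 := by
          rw [Submodule.mkQ_apply, Submodule.Quotient.mk_eq_zero]; exact ⟨x, rfl⟩
        rw [this, map_zero, map_zero]
      rw [h2, map_zero] at h1
      exact h1.symm
    obtain ⟨x, hx⟩ := hyM
    refine ⟨x, ?_⟩
    ext φ
    obtain ⟨Φ, hΦ⟩ := hext φ
    have hφ : φ = res Φ := by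
      ext z
      exact (hΦ z).symm
    rw [LinearMap.applyₗ_apply_apply, hφ, hy Φ, ← hx]
    rfl

end

end Groth.Agent.Lib.Helper2
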