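import Groth.Agent.Lib.Helper2.Matlis5
import Groth.Agent.Lib.Helper2.CanonAss
import Groth.Agent.Lib.Helper2.GCM
import Groth.Agent.Lib.Helper41.LCArtinian
import Groth.Agent.Lib.Helper41.LCDevissage
import Groth.Agent.Lib.Helper41.LCCompare
import Groth.Agent.Lib.Helper58.NV11
import Mathlib.RingTheory.KrullDimension.Regular
import Mathlib.RingTheory.Ideal.AssociatedPrime.Localization

/-!
# Matlis duals of the local cohomology modules `H^i_m(M)` over a complete local ring (helper2)

For a complete Noetherian local ring `A`, `E = E(k)` and a finite module `M` of dimension `n`: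
`Hom(H^i_m(M), E)` is finite of dimension `≤ i`; `Hom(H^n_m(M), E)` has dimension `n` and its
associated primes are the primes `p ⊇ Ann M` with `dim A/p = n`.
-/

set_option autoImplicit false
universe u

open CategoryTheory IsLocalRing Function
open scoped Pointwise

namespace Groth.Agent.Lib.Helper2.MatlisLC

open Groth.Agent.Lib.Helper2 Groth.Agent.Lib.Helper41 Groth.Agent.Lib.Helper41.LC

section Inj

variable {A : Type u} [CommRing A] {E : Type u} [AddCommGroup E] [Module A E]

/-- Maps into an injective module factor through any map whose kernel they kill. -/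
theorem exists_factor_of_ker_le (hE : Module.Injective A E) {H H' : Type u} [AddCommGroup H]
    [Module A H] [AddCommGroup H'] [Module A H'] (μ : H →ₗ[A] H') (φ : H →ₗ[A] E)
    (h : LinearMap.ker μ ≤ LinearMap.ker φ) : ∃ ψ : H' →ₗ[A] E, ψ ∘ₗ μ = φ := by
  let μ' : (H ⧸ LinearMap.ker μ) →ₗ[A] H' := (LinearMap.ker μ).liftQ μ le_rfl
  have hμ' : Function.Injective μ' := by
    rw [← LinearMap.ker_eq_bot]
    exact Submodule.ker_liftQ_eq_bot _ _ _ le_rfl
  let φ' : (H ⧸ LinearMap.ker μ) →ₗ[A] E := (LinearMap.ker μ).liftQ φ h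
  obtain ⟨ψ, hψ⟩ := hE.out μ' hμ' φ'
  refine ⟨ψ, ?_⟩
  ext x
  exact hψ (Submodule.Quotient.mk x)

end Inj

section Dim

variable {R : Type u} [CommRing R]

/-- A module of dimension `≥ n` has a prime `P` in its support with `dim R/P ≥ n`. -/
theorem exists_mem_support_dim_ge (N : Type u) [AddCommGroup N] [Module R N] (n : ℕ)
    (h : (n : WithBot ℕ∞) ≤ Module.supportDim R N) :
    ∃ P : PrimeSpectrum R, P ∈ Module.support R N ∧
      (n : WithBot ℕ∞) ≤ ringKrullDim (R ⧸ P.asIdeal) := by
  unfold Module.supportDim at h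
  obtain ⟨l, hl⟩ := Order.le_krullDim_iff.mp h
  refine ⟨l.head.1, l.head.2, ?_⟩
  haveI := l.head.1.isPrime
  rw [CanonAss.ringKrullDim_quotient_eq_coheight R l.head.1.asIdeal]
  have h1 : (l.length : ℕ∞) ≤ Order.coheight l.head := Order.length_le_coheight_head
  have h2 := Order.coheight_le_coheight_apply_of_strictMono
    (Subtype.val : Module.support R N → PrimeSpectrum R) (fun _ _ h => h) l.head
  rw [hl] at h1
  exact_mod_cast h1.trans h2

variable [IsNoetherianRing R] (M : Type u) [AddCommGroup M] [Module R M] [Module.Finite R M]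
  (n : ℕ) (hn : Module.supportDim R M = n)

include hn in
theorem dim_quotient_le_of_annihilator_le (P : Ideal R) [P.IsPrime]
    (hP : Module.annihilator R M ≤ P) : ringKrullDim (R ⧸ P) ≤ n := by
  have hsupp := GCM.mem_support_of_annihilator_le M P hP
  rw [← GCM.supportDim_quotient_smul_top M P hsupp, ← hn]
  exact Module.supportDim_le_of_surjective (Submodule.mkQ _) (Submodule.mkQ_surjective _)

include hn in
theorem mem_minimalPrimes_of_dim_eq (q : Ideal R) [hq : q.IsPrime]
    (hqa : Module.annihilator R M ≤ q) (hqd : ringKrullDim (R ⧸ q) = n) :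
    q ∈ (Module.annihilator R M).minimalPrimes := by
  refine ⟨⟨hq, hqa⟩, ?_⟩
  rintro q' ⟨hq', hq'a⟩ hle
  by_contra hnle
  have hlt : q' < q := lt_of_le_not_ge hle hnle
  haveI := hq'
  have h1 := CanonAss.dim_quotient_add_one_le q' q hlt
  have h2 := dim_quotient_le_of_annihilator_le M n hn q' hq'a
  rw [hqd] at h1
  have h3 : ((n + 1 : ℕ) : WithBot ℕ∞) ≤ (n : ℕ) := by exact_mod_cast h1.trans h2
  have h4 : n + 1 ≤ n := by exact_mod_cast h3
  omega

include hn in
/-- Cutting by an element avoiding all top-dimensional primes of the support drops the dimension. -/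
theorem supportDim_quotient_lt (x : R)
    (hx : ∀ q : Ideal R, q.IsPrime → Module.annihilator R M ≤ q → ringKrullDim (R ⧸ q) = n → x ∉ q)
    (P : Submodule R M) (hP : ∀ m : M, x • m ∈ P) :
    Module.supportDim R (M ⧸ P) < n := by
  by_contra hlt
  rw [not_lt] at hlt
  obtain ⟨Q, hQ, hQd⟩ := exists_mem_support_dim_ge (M ⧸ P) n hlt
  haveI := Q.isPrime
  have hQM : Module.annihilator R M ≤ Q.asIdeal := by
    have := Module.support_subset_of_surjective P.mkQ P.mkQ_surjective hQ
    exact Module.mem_support_iff_of_finite.mp this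
  have hle := dim_quotient_le_of_annihilator_le M n hn Q.asIdeal hQM
  have hxQ : x ∈ Q.asIdeal := by
    have h1 : Module.annihilator R (M ⧸ P) ≤ Q.asIdeal := Module.mem_support_iff_of_finite.mp hQ
    apply h1
    rw [Module.mem_annihilator]
    intro y
    obtain ⟨m, rfl⟩ := P.mkQ_surjective y
    rw [← map_smul]
    exact (Submodule.Quotient.mk_eq_zero _).mpr (hP m)
  exact hx Q.asIdeal Q.isPrime hQM (le_antisymm hle hQd) hxQ

end Dim

section LC

variable {A : Type u} [CommRing A] [IsNoetherianRing A]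

/-- The annihilator of `M` kills `H^i_I(M)`. -/
theorem smul_H_eq_zero (I : Ideal A) (i : ℕ) (M : Type u) [AddCommGroup M] [Module A M] (a : A)
    (ha : a ∈ Module.annihilator A M) (h : LocCoh.H I i M) : a • h = 0 := by
  have h0 : a • 𝟙 (ModuleCat.of A M) = (0 : A) • 𝟙 (ModuleCat.of A M) := by
    ext m
    change a • m = (0 : A) • m
    rw [Module.mem_annihilator.mp ha m, zero_smul]
  rw [← map_smul_id I i (ModuleCat.of A M) a h, h0, map_smul_id, zero_smul]

/-- If `H^n_I(N/xN) = 0` and `dim N ≤ n`, then `x` acts surjectively on `H^n_I(N)`. -/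
theorem exists_smul_eq_of_subsingleton (I : Ideal A) (n : ℕ) (N : Type u) [AddCommGroup N]
    [Module A N] (hN : Module.supportDim A N ≤ n) (x : A)
    (hvan : Subsingleton
      (LocCoh.H I n (N ⧸ LinearMap.range (x • (LinearMap.id : N →ₗ[A] N)))))
    (h : LocCoh.H I n N) : ∃ h' : LocCoh.H I n N, x • h' = h := by
  set μ : N →ₗ[A] N := x • LinearMap.id with hμ
  have hex : Function.Exact (LinearMap.ker μ).subtype μ.rangeRestrict := by
    intro m
    constructor
    · intro hm
      refine ⟨⟨m, ?_⟩, rfl⟩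
      rw [LinearMap.mem_ker]
      exact congrArg Subtype.val hm
    · rintro ⟨k, rfl⟩
      apply Subtype.ext
      exact LinearMap.mem_ker.mp k.2
  have hS1 := shortExact_of_linearMaps (LinearMap.ker μ).subtype μ.rangeRestrict
    (LinearMap.ker μ).injective_subtype μ.surjective_rangeRestrict hex
  have hS2 := subQuotSC_shortExact (LinearMap.range μ)
  haveI hvan' : Subsingleton ((localCohomology I n).obj (subQuotSC (LinearMap.range μ)).X₃) := hvan
  obtain ⟨y, hy⟩ := exact₂ I hS2 n h (Subsingleton.elim _ _)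
  haveI hK : Subsingleton ((localCohomology I (n + 1)).obj
      (ModuleCat.of A (LinearMap.ker μ))) := by
    apply subsingleton_of_supportDim_lt I ↥(LinearMap.ker μ) (n + 1)
    refine lt_of_le_of_lt ((Module.supportDim_le_of_injective (LinearMap.ker μ).subtype
      (LinearMap.ker μ).injective_subtype).trans hN) ?_
    exact_mod_cast Nat.lt_succ_self n
  obtain ⟨z, hz⟩ := exact₃ I hS1 n (n + 1) rfl y (Subsingleton.elim _ _)
  refine ⟨z, ?_⟩
  rw [← map_smul_id I n (ModuleCat.of A N) x z]
  have hcomp : x • 𝟙 (ModuleCat.of A N) =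
      ModuleCat.ofHom μ.rangeRestrict ≫ ModuleCat.ofHom (LinearMap.range μ).subtype := by
    ext m
    rfl
  rw [hcomp, Functor.map_comp]
  change ((localCohomology I n).map (ModuleCat.ofHom (LinearMap.range μ).subtype)).hom
    (((localCohomology I n).map (ModuleCat.ofHom μ.rangeRestrict)).hom z) = h
  rw [← hy]
  congr 1

end LC

section Step

variable {A : Type u} [CommRing A] [IsLocalRing A] [IsNoetherianRing A]

/-- Dimension bound from a map whose kernel lies in `rD`. -/
theorem supportDim_le_succ_of_ker_le (D Dj : Type u) [AddCommGroup D] [Module A D]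
    [Module.Finite A D] [AddCommGroup Dj] [Module A Dj] (Θ : D →ₗ[A] Dj) (r : A)
    (hrm : r ∈ maximalIdeal A) (hker : LinearMap.ker Θ ≤ r • (⊤ : Submodule A D)) (j : ℕ)
    (hj : Module.supportDim A Dj ≤ (j : WithBot ℕ∞)) :
    Module.supportDim A D ≤ ((j + 1 : ℕ) : WithBot ℕ∞) := by
  have h2 : Module.supportDim A (QuotSMulTop r D) ≤ (j : WithBot ℕ∞) := by
    have ha : Module.supportDim A (QuotSMulTop r D) ≤
        Module.supportDim A (D ⧸ LinearMap.ker Θ) :=
      Module.supportDim_le_of_surjective (Submodule.factor hker) (Submodule.factor_surjective hker)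
    have hb : Module.supportDim A (D ⧸ LinearMap.ker Θ) ≤ Module.supportDim A Dj :=
      Module.supportDim_le_of_injective ((LinearMap.ker Θ).liftQ Θ le_rfl) (by
        rw [← LinearMap.ker_eq_bot]
        exact Submodule.ker_liftQ_eq_bot _ _ _ le_rfl)
    exact ha.trans (hb.trans hj)
  have h3 := Module.supportDim_le_supportDim_quotSMulTop_succ (M := D) hrm
  refine h3.trans ?_
  have h4 : Module.supportDim A (QuotSMulTop r D) + 1 ≤ (j : WithBot ℕ∞) + 1 :=
    add_le_add h2 le_rfl
  refine h4.trans ?_
  push_cast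
  exact le_rfl

end Step

section Main

variable {A : Type u} [CommRing A] [IsLocalRing A] [IsNoetherianRing A]
  {E : Type u} [AddCommGroup E] [Module A E]
  (f : ResidueField A →ₗ[A] E) (hf : InjHull.IsInjectiveHull f)

include f hf in
/-- Matlis duals of `H^i_m(M)` are finite over a complete local ring. -/
theorem finite_dual [IsAdicComplete (maximalIdeal A) A] (i : ℕ) (M : Type u) [AddCommGroup M]
    [Module A M] [Module.Finite A M] :
    Module.Finite A (LocCoh.H (maximalIdeal A) i M →ₗ[A] E) := by
  haveI : IsArtinian A (LocCoh.H (maximalIdeal A) i M) := isArtinian_maximalIdeal i M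
  exact (finite_dual_and_applyₗ_bijective_of_isArtinian f hf _).1

include f hf in
/-- `dim Hom(H^i_m(M), E) ≤ i`. -/
theorem supportDim_dual_le [IsAdicComplete (maximalIdeal A) A] (i : ℕ) :
    ∀ (M : Type u) [AddCommGroup M] [Module A M] [Module.Finite A M],
      Module.supportDim A (LocCoh.H (maximalIdeal A) i M →ₗ[A] E) ≤ (i : WithBot ℕ∞) := by
  induction i with
  | zero =>
    intro M _ _ _
    haveI := finite_dual f hf 0 M
    haveI : Module.Finite A (LocCoh.H (maximalIdeal A) 0 M) := finite_zero (maximalIdeal A) M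
    obtain ⟨k, hk⟩ := exists_pow_smul_eq_zero_of_fg (maximalIdeal A)
      (isTorsion_H (maximalIdeal A) 0 (ModuleCat.of A M)) ⊤ Module.Finite.fg_top
    have hD : ∀ a ∈ maximalIdeal A ^ k, ∀ φ : LocCoh.H (maximalIdeal A) 0 M →ₗ[A] E,
        a • φ = 0 := by
      intro a ha φ
      ext x
      rw [LinearMap.smul_apply, ← map_smul, hk a ha x Submodule.mem_top, map_zero,
        LinearMap.zero_apply]
    have hsub : Subsingleton (Module.support A (LocCoh.H (maximalIdeal A) 0 M →ₗ[A] E)) := by
      have key : ∀ z : Module.support A (LocCoh.H (maximalIdeal A) 0 M →ₗ[A] E),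
          z.1.asIdeal = maximalIdeal A := by
        intro z
        have h1 : Module.annihilator A (LocCoh.H (maximalIdeal A) 0 M →ₗ[A] E) ≤ z.1.asIdeal :=
          Module.mem_support_iff_of_finite.mp z.2
        have h2 : maximalIdeal A ^ k ≤ z.1.asIdeal :=
          fun a ha => h1 (Module.mem_annihilator.mpr (hD a ha))
        have h3 : maximalIdeal A ≤ z.1.asIdeal := Ideal.IsPrime.le_of_pow_le h2
        exact le_antisymm (IsLocalRing.le_maximalIdeal z.1.isPrime.ne_top) h3
      exact ⟨fun p q => Subtype.ext (PrimeSpectrum.ext ((key p).trans (key q).symm))⟩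
    have h0 : Module.supportDim A (LocCoh.H (maximalIdeal A) 0 M →ₗ[A] E) ≤ 0 := by
      unfold Module.supportDim
      exact Order.krullDim_nonpos_of_subsingleton
    exact_mod_cast h0
  | succ j ih =>
    intro M _ _ _
    -- Step 1: pass to `N = M / Γ_m(M)`
    have hS₁ := subQuotSC_shortExact (powTorsion (maximalIdeal A) M)
    have hT : Subsingleton ((localCohomology (maximalIdeal A) (j + 1)).obj
        (subQuotSC (powTorsion (maximalIdeal A) M)).X₁) :=
      subsingleton_of_isTorsion (maximalIdeal A) (j + 1) (by omega)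
        (ModuleCat.of A (powTorsion (maximalIdeal A) M)) (isTorsion_powTorsion (maximalIdeal A) M)
    have hinj := map_g_injective_of_subsingleton (maximalIdeal A) hS₁ (j + 1) hT
    let g₁ : LocCoh.H (maximalIdeal A) (j + 1) M →ₗ[A]
        LocCoh.H (maximalIdeal A) (j + 1) (M ⧸ powTorsion (maximalIdeal A) M) :=
      ((localCohomology (maximalIdeal A) (j + 1)).map
        (subQuotSC (powTorsion (maximalIdeal A) M)).g).hom
    have h1 : Module.supportDim A (LocCoh.H (maximalIdeal A) (j + 1) M →ₗ[A] E) ≤
        Module.supportDim A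
          (LocCoh.H (maximalIdeal A) (j + 1) (M ⧸ powTorsion (maximalIdeal A) M) →ₗ[A] E) := by
      refine Module.supportDim_le_of_surjective (LinearMap.lcomp A E g₁) ?_
      intro φ
      obtain ⟨ψ, hψ⟩ := hf.isInjective.out g₁ hinj φ
      exact ⟨ψ, LinearMap.ext hψ⟩
    refine h1.trans ?_
    -- Step 2: a regular element on `N`
    obtain ⟨r, hrm, hreg⟩ := exists_isSMulRegular_mem (maximalIdeal A)
      (M ⧸ powTorsion (maximalIdeal A) M) (powTorsion_quotient_eq_bot (maximalIdeal A) M)
    have hS := (show IsSMulRegular (ModuleCat.of A (M ⧸ powTorsion (maximalIdeal A) M)) r from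
      hreg).smulShortComplex_shortExact
    let δ' : (localCohomology (maximalIdeal A) j).obj
        ((ModuleCat.of A (M ⧸ powTorsion (maximalIdeal A) M)).smulShortComplex r).X₃ →ₗ[A]
        LocCoh.H (maximalIdeal A) (j + 1) (M ⧸ powTorsion (maximalIdeal A) M) :=
      δ (maximalIdeal A) hS j (j + 1) rfl
    have hIH : Module.supportDim A ((localCohomology (maximalIdeal A) j).obj
        ((ModuleCat.of A (M ⧸ powTorsion (maximalIdeal A) M)).smulShortComplex r).X₃ →ₗ[A] E) ≤
        (j : WithBot ℕ∞) := ih (QuotSMulTop r (M ⧸ powTorsion (maximalIdeal A) M))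
    haveI := finite_dual f hf (j + 1) (M ⧸ powTorsion (maximalIdeal A) M)
    -- Step 3: `D/rD` embeds in the dual of `H^j(N/rN)`
    refine supportDim_le_succ_of_ker_le
      (LocCoh.H (maximalIdeal A) (j + 1) (M ⧸ powTorsion (maximalIdeal A) M) →ₗ[A] E) _
      (LinearMap.lcomp A E δ') r hrm ?_ j hIH
    intro φ hφ
    rw [LinearMap.mem_ker] at hφ
    have hle : LinearMap.ker (r • (LinearMap.id :
        LocCoh.H (maximalIdeal A) (j + 1) (M ⧸ powTorsion (maximalIdeal A) M) →ₗ[A] _)) ≤
        LinearMap.ker φ := by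
      intro x hx
      rw [LinearMap.mem_ker] at hx ⊢
      have hrx : r • x = 0 := hx
      have hx0 : ((localCohomology (maximalIdeal A) (j + 1)).map
          ((ModuleCat.of A (M ⧸ powTorsion (maximalIdeal A) M)).smulShortComplex r).f).hom x
            = 0 := by
        change ((localCohomology (maximalIdeal A) (j + 1)).map
          (r • 𝟙 (ModuleCat.of A (M ⧸ powTorsion (maximalIdeal A) M)))).hom x = 0
        rw [map_smul_id]
        exact hrx
      obtain ⟨y, hy⟩ := exact₁ (maximalIdeal A) hS j (j + 1) rfl x hx0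
      rw [← hy]
      exact LinearMap.congr_fun hφ y
    obtain ⟨ψ, hψ⟩ := exists_factor_of_ker_le hf.isInjective _ φ hle
    have : φ = r • ψ := by
      rw [← hψ]
      ext x
      simp
    rw [this]
    exact Submodule.smul_mem_pointwise_smul ψ r ⊤ trivial

include f hf in
/-- Associated primes of the dual of the top local cohomology: forward direction. -/
theorem dim_eq_of_isAssociatedPrime (M : Type u) [AddCommGroup M] [Module A M]
    [Module.Finite A M] (n : ℕ) (hn : Module.supportDim A M = n) (p : Ideal A)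
    (hp : IsAssociatedPrime p (LocCoh.H (maximalIdeal A) n M →ₗ[A] E)) :
    Module.annihilator A M ≤ p ∧ ringKrullDim (A ⧸ p) = n := by
  obtain ⟨hpp, φ, hφ⟩ := isAssociatedPrime_iff.mp hp
  haveI := hpp
  have hmem : ∀ r, r ∈ p ↔ r • φ = 0 := by
    intro r
    rw [hφ, Submodule.mem_colon_singleton, Submodule.mem_bot]
  have hφ0 : φ ≠ 0 := by
    intro h0
    apply hpp.ne_top
    rw [Ideal.eq_top_iff_one, hmem, h0, smul_zero]
  have hann : Module.annihilator A M ≤ p := by
    intro a ha
    rw [hmem]
    ext h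
    rw [LinearMap.smul_apply, ← map_smul, smul_H_eq_zero (maximalIdeal A) n M a ha h, map_zero,
      LinearMap.zero_apply]
  refine ⟨hann, ?_⟩
  have hle := dim_quotient_le_of_annihilator_le M n hn p hann
  by_contra hne
  have hlt : ringKrullDim (A ⧸ p) < n := lt_of_le_of_ne hle hne
  classical
  have hfin := Ideal.finite_minimalPrimes_of_isNoetherianRing A (Module.annihilator A M)
  let T : Set (Ideal A) :=
    {q ∈ (Module.annihilator A M).minimalPrimes | ringKrullDim (A ⧸ q) = n}
  have hTfin : T.Finite := hfin.subset (Set.sep_subset _ _)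
  have hnot : ¬ ((p : Set A) ⊆ ⋃ q ∈ (↑hTfin.toFinset : Set (Ideal A)),
      ((fun q : Ideal A => q) q : Set A)) := by
    rw [Ideal.subset_union_prime (⊥ : Ideal A) (⊥ : Ideal A)]
    · rintro ⟨q, hq, hpq⟩
      have hqT : q ∈ T := hTfin.mem_toFinset.mp hq
      have h1 : ringKrullDim (A ⧸ q) ≤ ringKrullDim (A ⧸ p) :=
        ringKrullDim_le_of_surjective (Ideal.Quotient.factor hpq)
          (Ideal.Quotient.factor_surjective hpq)
      rw [hqT.2] at h1
      exact absurd (lt_of_le_of_lt h1 hlt) (lt_irrefl _)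
    · intro q hq _ _
      exact (hTfin.mem_toFinset.mp hq).1.1.1
  obtain ⟨x, hxp, hxT⟩ := Set.not_subset.mp hnot
  have hxq : ∀ q : Ideal A, q.IsPrime → Module.annihilator A M ≤ q →
      ringKrullDim (A ⧸ q) = n → x ∉ q := by
    intro q hq hqa hqd hxq
    apply hxT
    haveI := hq
    have hqT : q ∈ T := ⟨mem_minimalPrimes_of_dim_eq M n hn q hqa hqd, hqd⟩
    exact Set.mem_biUnion (hTfin.mem_toFinset.mpr hqT) hxq
  have hlt' := supportDim_quotient_lt M n hn x hxq
    (LinearMap.range (x • (LinearMap.id : M →ₗ[A] M))) (fun m => ⟨m, rfl⟩)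
  have hvan : Subsingleton (LocCoh.H (maximalIdeal A) n
      (M ⧸ LinearMap.range (x • (LinearMap.id : M →ₗ[A] M)))) :=
    subsingleton_of_supportDim_lt (maximalIdeal A) _ n hlt'
  apply hφ0
  have hxφ : x • φ = 0 := (hmem x).mp hxp
  ext h
  obtain ⟨h', rfl⟩ := exists_smul_eq_of_subsingleton (maximalIdeal A) n M hn.le x hvan h
  rw [map_smul, ← LinearMap.smul_apply, hxφ]
  rfl

include f hf in
/-- Associated primes of the dual of the top local cohomology: backward direction. -/
theorem isAssociatedPrime_of_dim_eq (M : Type u) [AddCommGroup M] [Module A M]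
    [Module.Finite A M] (n : ℕ) (hn : Module.supportDim A M = n) (p : Ideal A) [p.IsPrime]
    (hpa : Module.annihilator A M ≤ p) (hpd : ringKrullDim (A ⧸ p) = n) :
    IsAssociatedPrime p (LocCoh.H (maximalIdeal A) n M →ₗ[A] E) := by
  have hsupp := GCM.mem_support_of_annihilator_le M p hpa
  have hdim : Module.supportDim A (M ⧸ (p • (⊤ : Submodule A M))) = n := by
    rw [GCM.supportDim_quotient_smul_top M p hsupp, hpd]
  haveI : Nontrivial (M ⧸ (p • (⊤ : Submodule A M))) := by
    by_contra hnt
    rw [not_nontrivial_iff_subsingleton] at hnt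
    haveI := hnt
    have hb : Module.supportDim A (M ⧸ (p • (⊤ : Submodule A M))) = ⊥ :=
      Module.supportDim_eq_bot_of_subsingleton _ _
    rw [hdim] at hb
    exact WithBot.natCast_ne_bot n hb
  haveI := Groth.Agent.Lib.Helper58.NV.nontrivial_supportDim A
    (M ⧸ (p • (⊤ : Submodule A M))) n hdim
  have hS := subQuotSC_shortExact (p • (⊤ : Submodule A M))
  haveI hP1 : Subsingleton ((localCohomology (maximalIdeal A) (n + 1)).obj
      (subQuotSC (p • (⊤ : Submodule A M))).X₁) := by
    apply subsingleton_of_supportDim_lt (maximalIdeal A) ↥(p • (⊤ : Submodule A M)) (n + 1)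
    refine lt_of_le_of_lt ((Module.supportDim_le_of_injective
      (p • (⊤ : Submodule A M)).subtype (Submodule.injective_subtype _)).trans hn.le) ?_
    exact_mod_cast Nat.lt_succ_self n
  let g : LocCoh.H (maximalIdeal A) n M →ₗ[A]
      LocCoh.H (maximalIdeal A) n (M ⧸ (p • (⊤ : Submodule A M))) :=
    ((localCohomology (maximalIdeal A) n).map (subQuotSC (p • (⊤ : Submodule A M))).g).hom
  have hg : Function.Surjective g := fun y =>
    exact₃ (maximalIdeal A) hS n (n + 1) rfl y (Subsingleton.elim _ _)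
  obtain ⟨y, hy⟩ := exists_ne (0 : LocCoh.H (maximalIdeal A) n (M ⧸ (p • (⊤ : Submodule A M))))
  obtain ⟨φ', hφ'⟩ := exists_linearMap_apply_ne_zero f hf y hy
  have hφ0 : φ' ∘ₗ g ≠ 0 := by
    obtain ⟨z, rfl⟩ := hg y
    intro h0
    apply hφ'
    exact LinearMap.congr_fun h0 z
  have hpφ : ∀ a ∈ p, a • (φ' ∘ₗ g) = 0 := by
    intro a ha
    have haq : a ∈ Module.annihilator A (M ⧸ (p • (⊤ : Submodule A M))) := by
      rw [Module.mem_annihilator]
      intro q
      obtain ⟨m, rfl⟩ := Submodule.mkQ_surjective _ q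
      rw [← map_smul]
      exact (Submodule.Quotient.mk_eq_zero _).mpr (Submodule.smul_mem_smul ha trivial)
    ext h
    rw [LinearMap.smul_apply, ← map_smul, LinearMap.comp_apply, map_smul,
      smul_H_eq_zero (maximalIdeal A) n _ a haq (g h), map_zero, LinearMap.zero_apply]
  obtain ⟨Q, hQ, hQle⟩ := exists_le_isAssociatedPrime_of_isNoetherianRing A (φ' ∘ₗ g) hφ0
  have hpQ : p ≤ Q := fun a ha => hQle (by
    rw [Submodule.mem_colon_singleton, Submodule.mem_bot]
    exact hpφ a ha)
  obtain ⟨hQa, hQd⟩ := dim_eq_of_isAssociatedPrime f hf M n hn Q hQ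
  haveI := hQ.isPrime
  rcases eq_or_lt_of_le hpQ with h | h
  · rw [h]
    exact hQ
  · exfalso
    have h1 := CanonAss.dim_quotient_add_one_le p Q h
    rw [hQd, hpd] at h1
    have h2 : ((n + 1 : ℕ) : WithBot ℕ∞) ≤ (n : ℕ) := by exact_mod_cast h1
    have h3 : n + 1 ≤ n := by exact_mod_cast h2
    omega

include f hf in
/-- **Matlis duals of local cohomology over a complete local ring.** -/
theorem main [IsAdicComplete (maximalIdeal A) A] (M : Type u) [AddCommGroup M] [Module A M]
    [Module.Finite A M] (n : ℕ) (hn : Module.supportDim A M = n) :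
    (∀ i : ℕ, Module.Finite A (LocCoh.H (maximalIdeal A) i M →ₗ[A] E) ∧
      Module.supportDim A (LocCoh.H (maximalIdeal A) i M →ₗ[A] E) ≤ (i : WithBot ℕ∞)) ∧
    Module.supportDim A (LocCoh.H (maximalIdeal A) n M →ₗ[A] E) = n ∧
    associatedPrimes A (LocCoh.H (maximalIdeal A) n M →ₗ[A] E) =
      {p | p ∈ associatedPrimes A M ∧ ringKrullDim (A ⧸ p) = n} := by
  refine ⟨fun i => ⟨finite_dual f hf i M, supportDim_dual_le f hf i M⟩, ?_, ?_⟩
  · apply le_antisymm (supportDim_dual_le f hf n M)
    obtain ⟨P, hP, hPd⟩ := exists_mem_support_dim_ge M n hn.ge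
    haveI := P.isPrime
    have hPa : Module.annihilator A M ≤ P.asIdeal := Module.mem_support_iff_of_finite.mp hP
    have hPd' : ringKrullDim (A ⧸ P.asIdeal) = n :=
      le_antisymm (dim_quotient_le_of_annihilator_le M n hn P.asIdeal hPa) hPd
    have hass := isAssociatedPrime_of_dim_eq f hf M n hn P.asIdeal hPa hPd'
    obtain ⟨_, g, hg⟩ := (isAssociatedPrime_iff_exists_injective_linearMap P.asIdeal _).mp hass
    have := Module.supportDim_le_of_injective g hg
    rw [Module.supportDim_quotient_eq_ringKrullDim, hPd'] at this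
    exact this
  · ext p
    constructor
    · intro hp
      obtain ⟨hpa, hpd⟩ := dim_eq_of_isAssociatedPrime f hf M n hn p hp
      haveI := hp.isPrime
      exact ⟨Module.associatedPrimes.minimalPrimes_annihilator_subset_associatedPrimes A M
        (mem_minimalPrimes_of_dim_eq M n hn p hpa hpd), hpd⟩
    · rintro ⟨hpM, hpd⟩
      haveI := hpM.isPrime
      exact isAssociatedPrime_of_dim_eq f hf M n hn p
        (Submodule.annihilator_top.symm.le.trans hpM.annihilator_le) hpd

end Main

end Groth.Agent.Lib.Helper2.MatlisLC
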