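import Mathlib
import Groth.Prelude.Def_GrLC
import Groth.Agent.Lib.Helper2.GrRecur
import Groth.Agent.Lib.Helper66.GradedAss
import Groth.Agent.Lib.Helper66.GradedHomDec
import Groth.Agent.Lib.Helper66.GradedSub

/-!
# *Injective modules whose associated primes contain all elements of nonzero degree are injective
(helper2)

`R` a Noetherian ℤ-graded ring, `M` a *injective graded module.  If no graded core of a non-graded
prime is an associated prime of `M`, then `M` is an injective `R`-module (`injective_of_forall`).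
-/

set_option autoImplicit false
set_option linter.unusedSectionVars false
universe u

namespace Groth.Agent.Lib.Helper2.StarInjTors

open DirectSum CategoryTheory Abelian
open Groth.Agent.Lib.Helper66.Graded Groth.Agent.Lib.Helper66.GradedSub
  Groth.Agent.Lib.Helper66.GradedAss Groth.Agent.Lib.Helper66.GradedHomDec
  Groth.Agent.Lib.Helper2.GrRecur

variable {R : Type u} [CommRing R] [IsNoetherianRing R] (𝒜 : ℤ → AddSubgroup R) [GradedRing 𝒜]
variable {M : Type u} [AddCommGroup M] [Module R M] (ℳ : ℤ → AddSubgroup M) [Decomposition ℳ]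
  [SetLike.GradedSMul 𝒜 ℳ]

/-- A homogeneous element with prime annihilator is killed by every homogeneous element of nonzero
degree, if no graded core of a non-graded prime is associated to `M`. -/
theorem smul_eq_zero_of_prime_ann
    (H : ∀ p : Ideal R, p.IsPrime → ¬ p.IsHomogeneous 𝒜 →
      (Ideal.homogeneousCore 𝒜 p).toIdeal ∉ associatedPrimes R M)
    {g : ℤ} {z : M} (hz : z ∈ ℳ g) (hprime : ((Submodule.span R {z}).annihilator).IsPrime)
    {d : ℤ} (hd : d ≠ 0) {u : R} (hu : u ∈ 𝒜 d) : u • z = 0 := by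
  classical
  by_contra huz
  have hqh : ((Submodule.span R {z}).annihilator).IsHomogeneous 𝒜 := ann_isHomogeneous 𝒜 ℳ hz
  have huq : u ∉ (Submodule.span R {z}).annihilator := fun h =>
    huz ((Submodule.mem_annihilator_span_singleton z u).mp h)
  have hqass : (Submodule.span R {z}).annihilator ∈ associatedPrimes R M := by
    rw [AssociatedPrimes.mem_iff, isAssociatedPrime_iff]
    refine ⟨hprime, z, ?_⟩
    ext a
    rw [Submodule.mem_colon_singleton, Submodule.mem_bot, Submodule.mem_annihilator_span_singleton]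
  let S : Submonoid R :=
    { carrier := {s | SetLike.IsHomogeneousElem 𝒜 s ∧ s ∉ (Submodule.span R {z}).annihilator}
      one_mem' := ⟨⟨0, SetLike.GradedOne.one_mem⟩, fun h =>
        hprime.ne_top ((Ideal.eq_top_iff_one _).mpr h)⟩
      mul_mem' := by
        rintro a b ⟨⟨i, ha⟩, haq⟩ ⟨⟨j, hb⟩, hbq⟩
        exact ⟨⟨i + j, SetLike.GradedMul.mul_mem ha hb⟩, fun h =>
          (hprime.mem_or_mem h).elim haq hbq⟩ }
  have hS_mem : ∀ s : R, s ∈ S ↔
      (SetLike.IsHomogeneousElem 𝒜 s ∧ s ∉ (Submodule.span R {z}).annihilator) := fun s => Iff.rfl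
  have hdisj : Disjoint
      ((((Submodule.span R {z}).annihilator ⊔ Ideal.span {1 - u} : Ideal R)) : Set R)
      (S : Set R) := by
    rw [Set.disjoint_left]
    intro s hsJ hsS
    obtain ⟨⟨e, hse⟩, hsq⟩ := (hS_mem s).mp hsS
    obtain ⟨a, ha, b, hb, rfl⟩ := Submodule.mem_sup.mp hsJ
    obtain ⟨r, rfl⟩ := Ideal.mem_span_singleton'.mp hb
    obtain ⟨k, hk⟩ := exists_pow_smul_mem 𝒜 𝒜 (Submodule.span R {z}).annihilator hqh hd hu r hse (by
      have e1 : r - u • r - (a + r * (1 - u)) = -a := by rw [smul_eq_mul]; ring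
      rw [e1]
      exact Submodule.neg_mem _ ha)
    have hk' : u ^ k * (a + r * (1 - u)) ∈ (Submodule.span R {z}).annihilator := hk
    rcases hprime.mem_or_mem hk' with h | h
    · exact huq (hprime.mem_of_pow_mem k h)
    · exact hsq h
  obtain ⟨p, hpp, hJp, hpS⟩ := Ideal.exists_le_prime_disjoint _ S hdisj
  have hqp : (Submodule.span R {z}).annihilator ≤ p := le_trans le_sup_left hJp
  have h1up : (1 - u) ∈ p := hJp (Ideal.mem_sup_right (Ideal.mem_span_singleton_self _))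
  have hpnh : ¬ p.IsHomogeneous 𝒜 := by
    intro h
    have h0 := h 0 h1up
    rw [decompose_sub, DirectSum.sub_apply, AddSubgroup.coe_sub,
      decompose_of_mem_same 𝒜 (SetLike.GradedOne.one_mem), decompose_of_mem_ne 𝒜 hu hd,
      sub_zero] at h0
    exact hpp.ne_top ((Ideal.eq_top_iff_one _).mpr h0)
  have hcore : (Ideal.homogeneousCore 𝒜 p).toIdeal = (Submodule.span R {z}).annihilator := by
    apply le_antisymm
    · intro r hr
      have key : ∀ i : ℤ, (decompose 𝒜 r i : R) ∈ (Submodule.span R {z}).annihilator := by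
        intro i
        have h1 : (decompose 𝒜 r i : R) ∈ (Ideal.homogeneousCore 𝒜 p).toIdeal :=
          (Ideal.homogeneousCore 𝒜 p).isHomogeneous i hr
        have h2 : (decompose 𝒜 r i : R) ∈ p := Ideal.toIdeal_homogeneousCore_le 𝒜 p h1
        by_contra h3
        exact Set.disjoint_left.mp hpS h2 ((hS_mem _).mpr ⟨⟨i, SetLike.coe_mem _⟩, h3⟩)
      rw [← DirectSum.sum_support_decompose 𝒜 r]
      exact Ideal.sum_mem _ fun i _ => key i
    · intro r hr
      have key : ∀ i : ℤ, (decompose 𝒜 r i : R) ∈ (Ideal.homogeneousCore 𝒜 p).toIdeal := fun i =>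
        Ideal.mem_homogeneousCore_of_homogeneous_of_mem ⟨i, SetLike.coe_mem _⟩ (hqp (hqh i hr))
      rw [← DirectSum.sum_support_decompose 𝒜 r]
      exact Ideal.sum_mem _ fun i _ => key i
  refine H p hpp hpnh ?_
  rw [hcore]
  exact hqass

theorem exists_pow_smul_eq_zero_of_homog
    (H : ∀ p : Ideal R, p.IsPrime → ¬ p.IsHomogeneous 𝒜 →
      (Ideal.homogeneousCore 𝒜 p).toIdeal ∉ associatedPrimes R M)
    {d : ℤ} (hd : d ≠ 0) {u : R} (hu : u ∈ 𝒜 d) {g : ℤ} {m : M} (hm : m ∈ ℳ g) :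
    ∃ k : ℕ, u ^ k • m = 0 := by
  by_contra hcon
  have hne : ∀ k : ℕ, u ^ k • m ≠ 0 := fun k h => hcon ⟨k, h⟩
  let f : ℕ →o Ideal R :=
    { toFun := fun k => (Submodule.span R {u ^ k • m}).annihilator
      monotone' := by
        apply monotone_nat_of_le_succ
        intro k a ha
        rw [Submodule.mem_annihilator_span_singleton] at ha ⊢
        rw [pow_succ', mul_smul, smul_comm, ha, smul_zero] }
  obtain ⟨k₀, hk₀⟩ := monotone_stabilizes_iff_noetherian.mpr (inferInstance : IsNoetherian R R) f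
  have hst : f k₀ = f (k₀ + 1) := hk₀ (k₀ + 1) (Nat.le_succ k₀)
  have hm' : u ^ k₀ • m ∈ ℳ (k₀ • d + g) :=
    SetLike.GradedSMul.smul_mem (SetLike.pow_mem_graded k₀ hu) hm
  have hP0 : Submodule.span R {u ^ k₀ • m} ≠ ⊥ := fun h =>
    hne k₀ (Submodule.span_singleton_eq_bot.mp h)
  obtain ⟨g₀, z, hzP, hzg, hz0, hzprime⟩ := exists_homog_prime_ann 𝒜 ℳ
    (Submodule.span R {u ^ k₀ • m}) (span_singleton_isHomogeneous 𝒜 ℳ hm') hP0
  have huz := smul_eq_zero_of_prime_ann 𝒜 ℳ H hzg hzprime hd hu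
  obtain ⟨s, rfl⟩ := Submodule.mem_span_singleton.mp hzP
  apply hz0
  have h1 : s ∈ f (k₀ + 1) := by
    change s ∈ (Submodule.span R {u ^ (k₀ + 1) • m}).annihilator
    rw [Submodule.mem_annihilator_span_singleton, pow_succ', mul_smul, smul_comm]
    exact huz
  rw [← hst] at h1
  have h2 : s ∈ (Submodule.span R {u ^ k₀ • m}).annihilator := h1
  exact (Submodule.mem_annihilator_span_singleton _ _).mp h2

include ℳ in
theorem exists_pow_smul_eq_zero
    (H : ∀ p : Ideal R, p.IsPrime → ¬ p.IsHomogeneous 𝒜 →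
      (Ideal.homogeneousCore 𝒜 p).toIdeal ∉ associatedPrimes R M)
    {d : ℤ} (hd : d ≠ 0) {u : R} (hu : u ∈ 𝒜 d) (m : M) : ∃ k : ℕ, u ^ k • m = 0 := by
  classical
  choose kk hkk using fun i : ℤ =>
    exists_pow_smul_eq_zero_of_homog 𝒜 ℳ H hd hu (SetLike.coe_mem (decompose ℳ m i))
  obtain ⟨K, hK⟩ : ∃ K : ℕ, K = (decompose ℳ m).support.sup kk := ⟨_, rfl⟩
  refine ⟨K, ?_⟩
  conv_lhs => rw [← DirectSum.sum_support_decompose ℳ m]
  rw [Finset.smul_sum]
  apply Finset.sum_eq_zero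
  intro i hi
  have hle : kk i ≤ K := hK ▸ Finset.le_sup hi
  rw [← pow_sub_mul_pow u hle, mul_smul, hkk, smul_zero]

/-- the ideal generated by the homogeneous elements of nonzero degree -/
def irr : Ideal R := Ideal.span {u | ∃ d : ℤ, d ≠ 0 ∧ u ∈ 𝒜 d}

include ℳ in
theorem exists_pow_le_ann
    (H : ∀ p : Ideal R, p.IsPrime → ¬ p.IsHomogeneous 𝒜 →
      (Ideal.homogeneousCore 𝒜 p).toIdeal ∉ associatedPrimes R M)
    (m : M) : ∃ k : ℕ, irr 𝒜 ^ k ≤ (Submodule.span R {m}).annihilator := by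
  apply Ideal.exists_pow_le_of_le_radical_of_fg
  · unfold irr
    rw [Ideal.span_le]
    rintro u ⟨d, hd, hu⟩
    obtain ⟨k, hk⟩ := exists_pow_smul_eq_zero 𝒜 ℳ H hd hu m
    exact Ideal.mem_radical_iff.mpr ⟨k, (Submodule.mem_annihilator_span_singleton _ _).mpr hk⟩
  · exact IsNoetherian.noetherian _

theorem isHomogeneous_of_irr_le (P : Ideal R) (h : irr 𝒜 ≤ P) : P.IsHomogeneous 𝒜 :=
  isHomogeneous_of_forall_mem 𝒜 P fun d hd _ hu => h (Ideal.subset_span ⟨d, hd, hu⟩)

/-- maps from a homogeneous ideal into a *injective module extend to `R` -/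
theorem exists_extension_ideal (hM : GrLC.IsStarInj 𝒜 ℳ) (P : Ideal R) (hP : P.IsHomogeneous 𝒜)
    (φ : P →ₗ[R] M) : ∃ ψ : R →ₗ[R] M, ψ ∘ₗ (Submodule.subtype P) = φ := by
  haveI : Module.Finite R (subGMod 𝒜 𝒜 P hP).carrier := (inferInstance : Module.Finite R P)
  exact exists_extension 𝒜 ℳ (subGMod 𝒜 𝒜 P hP) (GrLC.GMod.of 𝒜 R 𝒜) (Submodule.subtype P)
    (subtype_grHom 𝒜 P) (Submodule.injective_subtype P) hM φ

theorem ext_quot_subsingleton_of_extension (P : Ideal R)
    (hext : ∀ φ : P →ₗ[R] M, ∃ ψ : R →ₗ[R] M, ψ ∘ₗ (Submodule.subtype P) = φ) :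
    Subsingleton (Ext.{u} (ModuleCat.of R (R ⧸ P)) (ModuleCat.of R M) 1) := by
  let S : ShortComplex (ModuleCat.{u} R) :=
    ModuleCat.shortComplexOfCompEqZero (Submodule.subtype P) (Submodule.mkQ P)
      (by ext x; exact (Submodule.Quotient.mk_eq_zero P).mpr x.2)
  have hS : S.ShortExact := ModuleCat.shortComplex_shortExact S
    (LinearMap.exact_subtype_mkQ P) (Submodule.injective_subtype P) (Submodule.mkQ_surjective P)
  refine subsingleton_of_forall_eq 0 fun x₃ => ?_
  have h2 : (Ext.mk₀ S.g).comp x₃ (zero_add 1) = 0 := by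
    haveI : Projective S.X₂ := (inferInstance : Projective (ModuleCat.of R R))
    exact Ext.eq_zero_of_projective _
  obtain ⟨x₁, hx₁⟩ := Ext.contravariant_sequence_exact₃ hS (ModuleCat.of R M) x₃ h2 (n₀ := 0)
    (by norm_num)
  obtain ⟨φ, rfl⟩ := (Ext.mk₀_bijective _ _).2 x₁
  obtain ⟨ψ, hψ⟩ := hext φ.hom
  have hφ : φ = S.f ≫ ModuleCat.ofHom ψ := by
    ext x
    exact (LinearMap.congr_fun hψ x).symm
  rw [← hx₁, hφ, ← Ext.mk₀_comp_mk₀]
  exact hS.extClass_comp_assoc _

theorem exists_extend_of_ext_subsingleton (Y : Type u) [AddCommGroup Y] [Module R Y]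
    (Y' : Submodule R Y)
    (h : Subsingleton (Ext.{u} (ModuleCat.of R (Y ⧸ Y')) (ModuleCat.of R M) 1))
    (g : Y' →ₗ[R] M) : ∃ g' : Y →ₗ[R] M, ∀ y : Y', g' y = g y := by
  let S : ShortComplex (ModuleCat.{u} R) :=
    ModuleCat.shortComplexOfCompEqZero Y'.subtype Y'.mkQ
      (by ext x; exact (Submodule.Quotient.mk_eq_zero Y').mpr x.2)
  have hS : S.ShortExact := ModuleCat.shortComplex_shortExact S
    (LinearMap.exact_subtype_mkQ Y') (Submodule.injective_subtype Y') (Submodule.mkQ_surjective Y')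
  obtain ⟨x₂, hx₂⟩ := Ext.contravariant_sequence_exact₁ hS (ModuleCat.of R M)
    (Ext.mk₀ (ModuleCat.ofHom g)) (n₁ := 1) (by norm_num) (Subsingleton.elim _ _)
  obtain ⟨g', rfl⟩ := (Ext.mk₀_bijective _ _).2 x₂
  rw [Ext.mk₀_comp_mk₀] at hx₂
  have hx := (Ext.mk₀_bijective _ _).1 hx₂
  refine ⟨g'.hom, fun y => ?_⟩
  have := congrArg (fun φ => φ.hom y) hx
  exact this

/-- `Ext¹(X, M) = 0` for finite `X` killed by a power of `𝔞`, if it holds for `R ⧸ P`, `P ⊇ 𝔞` prime -/
theorem ext_subsingleton_of_torsion (𝔞 : Ideal R)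
    (hP : ∀ P : Ideal R, P.IsPrime → 𝔞 ≤ P →
      Subsingleton (Ext.{u} (ModuleCat.of R (R ⧸ P)) (ModuleCat.of R M) 1))
    (X : Type u) [AddCommGroup X] [Module R X] (hfin : Module.Finite R X) :
    (∃ k : ℕ, ∀ a ∈ 𝔞 ^ k, ∀ x : X, a • x = 0) →
      Subsingleton (Ext.{u} (ModuleCat.of R X) (ModuleCat.of R M) 1) := by
  induction hfin using IsNoetherianRing.induction_on_isQuotientEquivQuotientPrime R with
  | subsingleton N =>
    intro _
    refine subsingleton_of_forall_eq 0 fun e => ?_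
    have hz : Limits.IsZero (ModuleCat.of R N) := ModuleCat.isZero_of_subsingleton _
    rw [← Ext.mk₀_id_comp e, hz.eq_of_src (𝟙 _) 0, Ext.mk₀_zero, Ext.zero_comp]
  | quotient N p f =>
    rintro ⟨k, hk⟩
    have hle : 𝔞 ≤ p.1 := by
      intro a ha
      have h1 : a ^ k ∈ 𝔞 ^ k := Ideal.pow_mem_pow ha k
      have h2 := hk _ h1 (f.symm (Submodule.Quotient.mk 1))
      rw [← map_smul, LinearEquiv.map_eq_zero_iff, ← Submodule.Quotient.mk_smul,
        Submodule.Quotient.mk_eq_zero, smul_eq_mul, mul_one] at h2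
      exact p.2.mem_of_pow_mem k h2
    haveI := hP p.1 p.2 hle
    refine subsingleton_of_forall_eq 0 fun e => ?_
    let i : ModuleCat.of R N ≅ ModuleCat.of R (R ⧸ p.1) := f.toModuleIso
    calc e = (Ext.mk₀ i.hom).comp ((Ext.mk₀ i.inv).comp e (zero_add 1)) (zero_add 1) := by
          rw [Ext.mk₀_comp_mk₀_assoc, i.hom_inv_id, Ext.mk₀_id_comp]
      _ = 0 := by
          rw [Subsingleton.elim ((Ext.mk₀ i.inv).comp e (zero_add 1)) 0, Ext.comp_zero]
  | exact N₁ N₂ N₃ f g hf hg hfg h₁ h₃ =>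
    rintro ⟨k, hk⟩
    haveI := h₁ ⟨k, fun a ha x => hf (by rw [map_smul, hk a ha, map_zero])⟩
    haveI := h₃ ⟨k, fun a ha x => by
      obtain ⟨y, rfl⟩ := hg x
      rw [← map_smul, hk a ha, map_zero]⟩
    let S : ShortComplex (ModuleCat.{u} R) :=
      ModuleCat.shortComplexOfCompEqZero f g hfg.linearMap_comp_eq_zero
    have hS : S.ShortExact := ModuleCat.shortComplex_shortExact S hfg hf hg
    refine subsingleton_of_forall_eq 0 fun x₂ => ?_
    obtain ⟨x₃, rfl⟩ := Ext.contravariant_sequence_exact₂ hS (ModuleCat.of R M) x₂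
      (Subsingleton.elim _ _)
    rw [Subsingleton.elim x₃ 0, Ext.comp_zero]

/-- A *injective module all of whose elements are killed by powers of `irr 𝒜` is injective. -/
theorem injective_of_torsion (hM : GrLC.IsStarInj 𝒜 ℳ)
    (htors : ∀ m : M, ∃ k : ℕ, irr 𝒜 ^ k ≤ (Submodule.span R {m}).annihilator) :
    Module.Injective R M := by
  classical
  apply Module.Baer.injective
  intro I g
  -- a power of `irr` kills the image of `g`
  obtain ⟨k, hk⟩ : ∃ k : ℕ, ∀ a ∈ irr 𝒜 ^ k, ∀ x : I, a • g x = 0 := by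
    have hfg : (LinearMap.range g).FG := Module.Finite.iff_fg.mp inferInstance
    obtain ⟨t, ht⟩ := hfg
    choose kk hkk using htors
    refine ⟨t.sup kk, fun a ha x => ?_⟩
    have hmem : g x ∈ Submodule.span R (t : Set M) := by
      rw [ht]; exact LinearMap.mem_range_self g x
    have hle : Submodule.span R (t : Set M) ≤ LinearMap.ker (LinearMap.lsmul R M a) := by
      rw [Submodule.span_le]
      intro m hm
      rw [SetLike.mem_coe, LinearMap.mem_ker, LinearMap.lsmul_apply]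
      have h1 : irr 𝒜 ^ t.sup kk ≤ irr 𝒜 ^ kk m :=
        Ideal.pow_le_pow_right (Finset.le_sup (Finset.mem_coe.mp hm))
      exact (Submodule.mem_annihilator_span_singleton _ _).mp (hkk m (h1 ha))
    have h3 := hle hmem
    rwa [LinearMap.mem_ker, LinearMap.lsmul_apply] at h3
  -- Artin–Rees
  obtain ⟨c, hc⟩ := Ideal.exists_pow_inf_eq_pow_smul (irr 𝒜) (I : Submodule R R)
  have hAR : ∀ x : I, (x : R) ∈ irr 𝒜 ^ (c + k) → g x = 0 := by
    intro x hx
    have h1 : (x : R) ∈ (irr 𝒜 ^ (c + k) • (⊤ : Submodule R R) ⊓ I) := by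
      refine ⟨?_, x.2⟩
      have h0 : (x : R) • (1 : R) ∈ irr 𝒜 ^ (c + k) • (⊤ : Submodule R R) :=
        Submodule.smul_mem_smul hx Submodule.mem_top
      have e0 : (x : R) • (1 : R) = (x : R) := by rw [smul_eq_mul, mul_one]
      rw [e0] at h0
      exact h0
    rw [hc (c + k) (Nat.le_add_right c k), Nat.add_sub_cancel_left] at h1
    have key : ∃ hz : (x : R) ∈ I, g ⟨(x : R), hz⟩ = 0 := by
      refine Submodule.smul_induction_on h1 ?_ ?_
      · intro a ha y hy
        refine ⟨I.smul_mem a hy.2, ?_⟩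
        have e1 : (⟨a • y, I.smul_mem a hy.2⟩ : I) = a • (⟨y, hy.2⟩ : I) := rfl
        rw [e1, map_smul]
        exact hk a ha ⟨y, hy.2⟩
      · rintro z₁ z₂ ⟨h1, e1⟩ ⟨h2, e2⟩
        refine ⟨I.add_mem h1 h2, ?_⟩
        have e3 : (⟨z₁ + z₂, I.add_mem h1 h2⟩ : I) = (⟨z₁, h1⟩ : I) + ⟨z₂, h2⟩ := rfl
        rw [e3, map_add, e1, e2, add_zero]
    obtain ⟨hz, e⟩ := key
    exact e
  -- pass to the quotient by `irr ^ (c + k)`
  let 𝔟 : Ideal R := irr 𝒜 ^ (c + k)
  let Y' : Submodule R (R ⧸ 𝔟) := Submodule.map (Submodule.mkQ 𝔟) I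
  let π : I →ₗ[R] Y' := (Submodule.mkQ 𝔟).submoduleMap I
  have hπ : Function.Surjective π := LinearMap.submoduleMap_surjective _ _
  have hker : LinearMap.ker π ≤ LinearMap.ker g := by
    intro x hx
    rw [LinearMap.mem_ker] at hx ⊢
    apply hAR
    have h1 := congrArg Subtype.val hx
    have h2 : (Submodule.mkQ 𝔟) (x : R) = 0 := h1
    exact (Submodule.Quotient.mk_eq_zero 𝔟).mp h2
  let gbar : Y' →ₗ[R] M :=
    (LinearMap.ker π).liftQ g hker ∘ₗ (π.quotKerEquivOfSurjective hπ).symm.toLinearMap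
  have hgbar : ∀ x : I, gbar (π x) = g x := by
    intro x
    have e1 : (π.quotKerEquivOfSurjective hπ).symm (π x) = Submodule.Quotient.mk x := by
      rw [LinearEquiv.symm_apply_eq]
      exact (LinearMap.quotKerEquivOfSurjective_apply_mk π hπ x).symm
    change (LinearMap.ker π).liftQ g hker ((π.quotKerEquivOfSurjective hπ).symm (π x)) = g x
    rw [e1, Submodule.liftQ_apply]
  -- vanishing of `Ext¹`
  have hExt : Subsingleton (Ext.{u} (ModuleCat.of R ((R ⧸ 𝔟) ⧸ Y')) (ModuleCat.of R M) 1) := by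
    apply ext_subsingleton_of_torsion (irr 𝒜)
      (fun P _ hle => ext_quot_subsingleton_of_extension P
        (exists_extension_ideal 𝒜 ℳ hM P (isHomogeneous_of_irr_le 𝒜 P hle)))
      ((R ⧸ 𝔟) ⧸ Y') inferInstance
    refine ⟨c + k, fun a ha x => ?_⟩
    obtain ⟨y, rfl⟩ := Submodule.Quotient.mk_surjective Y' x
    obtain ⟨r, rfl⟩ := Submodule.Quotient.mk_surjective 𝔟 y
    rw [← Submodule.Quotient.mk_smul, ← Submodule.Quotient.mk_smul]
    have h0 : (Submodule.Quotient.mk (a • r) : R ⧸ 𝔟) = 0 :=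
      (Submodule.Quotient.mk_eq_zero 𝔟).mpr (by
        rw [smul_eq_mul]; exact Ideal.mul_mem_right r 𝔟 ha)
    rw [h0, Submodule.Quotient.mk_zero]
  obtain ⟨G, hG⟩ := exists_extend_of_ext_subsingleton (R ⧸ 𝔟) Y' hExt gbar
  refine ⟨G ∘ₗ Submodule.mkQ 𝔟, fun x hx => ?_⟩
  have h1 := hG (π ⟨x, hx⟩)
  rw [hgbar] at h1
  rw [← h1]
  rfl

/-- The main statement: if no graded core of a non-graded prime is associated to the *injective
module `M`, then `M` is injective. -/
theorem injective_of_forall (hM : GrLC.IsStarInj 𝒜 ℳ)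
    (H : ∀ p : Ideal R, p.IsPrime → ¬ p.IsHomogeneous 𝒜 →
      (Ideal.homogeneousCore 𝒜 p).toIdeal ∉ associatedPrimes R M) :
    Module.Injective R M :=
  injective_of_torsion 𝒜 ℳ hM (exists_pow_le_ann 𝒜 ℳ H)

end Groth.Agent.Lib.Helper2.StarInjTors
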