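import Groth.Prelude.Def_Pi1
import Mathlib.LinearAlgebra.TensorProduct.RightExactness
import Mathlib.RingTheory.TensorProduct.Finite
import Mathlib.RingTheory.FiniteType

/-!
# Helper lemmas on universally injective ring maps (`Pi1.UnivInjective`)
-/

set_option autoImplicit false
universe u

namespace Groth.Agent.Lib.Helper2

open TensorProduct

/-- For a universally injective `R → S`, every `R`-module `P` injects into `S ⊗ P`. -/
theorem univInj_mk_injective (R S : Type u) [CommRing R] [CommRing S] [Algebra R S]
    (h : Pi1.UnivInjective R S) (P : Type u) [AddCommGroup P] [Module R P] :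
    Function.Injective (TensorProduct.mk R S P 1) := by
  rw [injective_iff_map_eq_zero]
  intro p hp
  have hinj := h P
  have h1 : (LinearMap.lTensor P (Algebra.linearMap R S)) (p ⊗ₜ[R] (1 : R)) = 0 := by
    apply (TensorProduct.comm R P S).injective
    rw [map_zero]
    simpa using hp
  have h3 : p ⊗ₜ[R] (1 : R) = 0 := hinj (by rw [h1, map_zero])
  have h4 := congrArg (TensorProduct.rid R P) h3
  simpa using h4

/-- If `S ⊗ P = 0` and `R → S` is universally injective then `P = 0`. -/
theorem univInj_subsingleton (R S : Type u) [CommRing R] [CommRing S] [Algebra R S]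
    (h : Pi1.UnivInjective R S) (P : Type u) [AddCommGroup P] [Module R P]
    (h0 : ∀ z : S ⊗[R] P, z = 0) : Subsingleton P := by
  refine ⟨fun a b => ?_⟩
  have key : ∀ p : P, p = 0 := fun p =>
    univInj_mk_injective R S h P (by rw [h0 (TensorProduct.mk R S P 1 p), map_zero])
  rw [key a, key b]

/-- Finite generation of modules descends along universally injective ring maps. -/
theorem univInj_finite (R S : Type u) [CommRing R] [CommRing S] [Algebra R S]
    (h : Pi1.UnivInjective R S) (M : Type u) [AddCommGroup M] [Module R M]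
    [Module.Finite S (S ⊗[R] M)] : Module.Finite R M := by
  classical
  obtain ⟨T, hT⟩ := (Module.Finite.fg_top : (⊤ : Submodule S (S ⊗[R] M)).FG)
  choose rep hrep using fun t : S ⊗[R] M => TensorProduct.exists_finset t
  let G : Finset M := T.biUnion (fun t => (rep t).image Prod.snd)
  let M' : Submodule R M := Submodule.span R (G : Set M)
  have hM'fg : M'.FG := ⟨G, rfl⟩
  suffices hM' : M' = ⊤ from ⟨hM' ▸ hM'fg⟩
  let q : S ⊗[R] M →ₗ[S] S ⊗[R] (M ⧸ M') := LinearMap.baseChange S M'.mkQ
  have hq0 : q = 0 := by
    apply LinearMap.ext_on hT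
    intro t ht
    rw [LinearMap.zero_apply, hrep t, map_sum]
    refine Finset.sum_eq_zero fun i hi => ?_
    have hmem : i.2 ∈ M' := Submodule.subset_span (by
      simp only [G, Finset.coe_biUnion, Finset.coe_image, Set.mem_iUnion, Set.mem_image]
      exact ⟨t, ht, i, hi, rfl⟩)
    simp only [q, LinearMap.baseChange_tmul]
    have hz : M'.mkQ i.2 = 0 := by
      rw [Submodule.mkQ_apply]; exact (Submodule.Quotient.mk_eq_zero M').mpr hmem
    rw [hz, TensorProduct.tmul_zero]
  have hqsurj : Function.Surjective q := by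
    intro z
    obtain ⟨w, hw⟩ := LinearMap.lTensor_surjective S (Submodule.mkQ_surjective M') z
    exact ⟨w, hw⟩
  have h0 : ∀ z : S ⊗[R] (M ⧸ M'), z = 0 := by
    intro z
    obtain ⟨w, rfl⟩ := hqsurj z
    rw [hq0, LinearMap.zero_apply]
  have hsub := univInj_subsingleton R S h (M ⧸ M') h0
  exact Submodule.Quotient.subsingleton_iff.mp hsub

/-- Finite type of algebras descends along universally injective ring maps. -/
theorem univInj_finiteType (R S : Type u) [CommRing R] [CommRing S] [Algebra R S]
    (h : Pi1.UnivInjective R S) (A : Type u) [CommRing A] [Algebra R A]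
    [Algebra.FiniteType S (S ⊗[R] A)] : Algebra.FiniteType R A := by
  classical
  obtain ⟨T, hT⟩ := (Algebra.FiniteType.out : (⊤ : Subalgebra S (S ⊗[R] A)).FG)
  choose rep hrep using fun t : S ⊗[R] A => TensorProduct.exists_finset t
  let G : Finset A := T.biUnion (fun t => (rep t).image Prod.snd)
  let A' : Subalgebra R A := Algebra.adjoin R (G : Set A)
  have hA'fg : A'.FG := ⟨G, rfl⟩
  suffices hA' : A' = ⊤ from ⟨hA' ▸ hA'fg⟩
  let φ : S ⊗[R] A' →ₐ[S] S ⊗[R] A := Algebra.TensorProduct.map (AlgHom.id S S) A'.val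
  have hφ : φ.range = ⊤ := by
    rw [eq_top_iff, ← hT]
    apply Algebra.adjoin_le
    intro t ht
    rw [hrep t]
    refine Subalgebra.sum_mem _ fun i hi => ?_
    have hmem : i.2 ∈ A' := Algebra.subset_adjoin (by
      simp only [G, Finset.coe_biUnion, Finset.coe_image, Set.mem_iUnion, Set.mem_image]
      exact ⟨t, ht, i, hi, rfl⟩)
    exact ⟨i.1 ⊗ₜ ⟨i.2, hmem⟩, by simp [φ]⟩
  let M' : Submodule R A := Subalgebra.toSubmodule A'
  let q : S ⊗[R] A →ₗ[S] S ⊗[R] (A ⧸ M') := LinearMap.baseChange S M'.mkQ
  have key : ∀ w : S ⊗[R] A', q (φ w) = 0 := by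
    intro w
    induction w using TensorProduct.induction_on with
    | zero => simp
    | tmul s a =>
      have hz : M'.mkQ (a : A) = 0 := by
        rw [Submodule.mkQ_apply]; exact (Submodule.Quotient.mk_eq_zero M').mpr a.2
      simp only [φ, q, Algebra.TensorProduct.map_tmul, AlgHom.coe_id, id_eq, Subalgebra.coe_val,
        LinearMap.baseChange_tmul]
      rw [hz, TensorProduct.tmul_zero]
    | add x y hx hy => rw [map_add, map_add, hx, hy, add_zero]
  have hq0 : ∀ z, q z = 0 := by
    intro z
    have hz : z ∈ φ.range := hφ ▸ Algebra.mem_top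
    obtain ⟨w, hw⟩ := hz
    have hw' : φ w = z := hw
    rw [← hw']
    exact key w
  have hqsurj : Function.Surjective q := by
    intro z
    obtain ⟨w, hw⟩ := LinearMap.lTensor_surjective S (Submodule.mkQ_surjective M') z
    exact ⟨w, hw⟩
  have h0 : ∀ z : S ⊗[R] (A ⧸ M'), z = 0 := by
    intro z
    obtain ⟨w, rfl⟩ := hqsurj z
    exact hq0 w
  have hsub := univInj_subsingleton R S h (A ⧸ M') h0
  have htop : M' = ⊤ := Submodule.Quotient.subsingleton_iff.mp hsub
  exact Algebra.toSubmodule_eq_top.mp htop

end Groth.Agent.Lib.Helper2
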