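import Groth.Agent.Lib.Helper2.UnivInj
import Mathlib.LinearAlgebra.Finsupp.LinearCombination
import Mathlib.RingTheory.Flat.EquationalCriterion

set_option autoImplicit false
universe u

namespace Groth.Agent.Lib.Helper2

open TensorProduct

/-- Equational form of purity: a finite homogeneous linear system over `R` together with the
normalisation `y i₀ = 1`, solvable in `S` by a family with `c i₀ = 1`, is solvable in `R`. -/
theorem univInj_exists_solution (R S : Type u) [CommRing R] [CommRing S] [Algebra R S]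
    (h : Pi1.UnivInjective R S) {ι κ : Type u} [Fintype ι] [DecidableEq ι] [Fintype κ] [DecidableEq κ]
    (c : ι → S) (i₀ : ι) (hc : c i₀ = 1) (z : κ → ι → R) (hz : ∀ k, ∑ i, z k i • c i = 0) :
    ∃ y : ι → R, y i₀ = 1 ∧ ∀ k, ∑ i, z k i * y i = 0 := by
  classical
  let col : ι → (κ → R) := fun i k => z k i
  let N : Submodule R (κ → R) := Submodule.span R (Set.range (fun i : {i : ι // i ≠ i₀} => col i.1))
  have hcol : ∀ i, col i = ∑ k, z k i • (Pi.single k (1 : R) : κ → R) := by
    intro i
    ext k'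
    simp [col, Finset.sum_apply, Pi.single_apply]
  have h0 : (1 : S) ⊗ₜ[R] (N.mkQ (col i₀)) = 0 := by
    have hω : ∑ k, (∑ i, z k i • c i) ⊗ₜ[R] (N.mkQ (Pi.single k (1 : R) : κ → R)) = 0 := by
      simp [hz]
    have hω' : ∑ k, (∑ i, z k i • c i) ⊗ₜ[R] (N.mkQ (Pi.single k (1 : R) : κ → R)) =
        ∑ i, c i ⊗ₜ[R] N.mkQ (col i) := by
      simp_rw [TensorProduct.sum_tmul]
      rw [Finset.sum_comm]
      refine Finset.sum_congr rfl fun i _ => ?_
      rw [hcol i, map_sum, TensorProduct.tmul_sum]
      refine Finset.sum_congr rfl fun k _ => ?_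
      rw [map_smul, TensorProduct.smul_tmul]
    rw [hω'] at hω
    rw [Finset.sum_eq_single i₀] at hω
    · rwa [hc] at hω
    · intro i _ hi
      have : N.mkQ (col i) = 0 := by
        rw [Submodule.mkQ_apply]
        exact (Submodule.Quotient.mk_eq_zero N).mpr (Submodule.subset_span ⟨⟨i, hi⟩, rfl⟩)
      rw [this, TensorProduct.tmul_zero]
    · intro hi; exact absurd (Finset.mem_univ _) hi
  have h1 : N.mkQ (col i₀) = 0 := univInj_mk_injective R S h _ (by simpa using h0)
  rw [Submodule.mkQ_apply] at h1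
  have h2 : col i₀ ∈ N := (Submodule.Quotient.mk_eq_zero N).mp h1
  obtain ⟨g, hg⟩ := (Submodule.mem_span_range_iff_exists_fun R).mp h2
  refine ⟨fun i => if hi : i = i₀ then 1 else - g ⟨i, hi⟩, by simp, fun k => ?_⟩
  have hgk := congrFun hg k
  simp only [Finset.sum_apply, Pi.smul_apply, smul_eq_mul, col] at hgk
  rw [← Finset.add_sum_erase Finset.univ _ (Finset.mem_univ i₀)]
  simp only [dite_true, mul_one]
  rw [← hgk]
  have : ∑ i ∈ Finset.univ.erase i₀, z k i * (if hi : i = i₀ then (1 : R) else - g ⟨i, hi⟩) =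
      - ∑ i : {i : ι // i ≠ i₀}, g i * z k i.1 := by
    rw [← Finset.sum_neg_distrib]
    rw [Finset.sum_subtype (Finset.univ.erase i₀) (p := fun i => i ≠ i₀) (by simp)
      (f := fun i => z k i * (if hi : i = i₀ then (1 : R) else - g ⟨i, hi⟩))]
    refine Finset.sum_congr rfl fun i _ => ?_
    rw [dif_neg i.2]
    ring
  rw [this]
  ring

/-- An element of `F ⊗ M` dying in `S ⊗ M` (for a surjection `π : F → S`) is a finite sum of
pure tensors whose left factors lie in the kernel of `π`. -/
theorem exists_rep_of_rTensor_eq_zero (R S : Type u) [CommRing R] [CommRing S] [Algebra R S]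
    (M : Type u) [AddCommGroup M] [Module R M] (F : Type u) [AddCommGroup F] [Module R F]
    (π : F →ₗ[R] S) (hπ : Function.Surjective π) (e : F ⊗[R] M)
    (he : LinearMap.rTensor M π e = 0) :
    ∃ rep : Finset ((LinearMap.ker π) × M), e = ∑ t ∈ rep, ((t.1 : F) ⊗ₜ[R] t.2) := by
  have h1 : Function.Exact (LinearMap.ker π).subtype π := LinearMap.exact_subtype_ker_map π
  have hex := rTensor_exact M h1 hπ
  obtain ⟨ξ, hξ⟩ := (hex e).mp he
  obtain ⟨rep, hrep⟩ := TensorProduct.exists_finset ξ
  refine ⟨rep, ?_⟩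
  rw [← hξ, hrep, map_sum]
  simp

/-- Key descent step: finitely many tensors `∑ i, c' i ⊗ μ j i` vanishing in `S ⊗ M`, together with
finitely many `R`-linear relations among elements of `S`, can be "evaluated" by a function
`b : S → R` with `b 1 = 1` respecting all of them. -/
theorem univInj_exists_functional (R S : Type u) [CommRing R] [CommRing S] [Algebra R S]
    (h : Pi1.UnivInjective R S) (M : Type u) [AddCommGroup M] [Module R M]
    {J ι' : Type*} [Fintype J] [Fintype ι'] (c' : ι' → S) (μ : J → ι' → M)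
    (hv : ∀ j, ∑ i, c' i ⊗ₜ[R] μ j i = (0 : S ⊗[R] M))
    (Z' : Finset (S →₀ R)) (hZ' : ∀ z ∈ Z', Finsupp.linearCombination R (id : S → S) z = 0) :
    ∃ b : S → R, b 1 = 1 ∧ (∀ j, ∑ i, b (c' i) • μ j i = 0) ∧
      ∀ z ∈ Z', Finsupp.linearCombination R b z = 0 := by
  classical
  have hπ : Function.Surjective (Finsupp.linearCombination R (id : S → S)) :=
    fun s => ⟨Finsupp.single s 1, by simp⟩
  let e : J → (S →₀ R) ⊗[R] M := fun j => ∑ i, Finsupp.single (c' i) (1 : R) ⊗ₜ[R] μ j i
  have he : ∀ j, LinearMap.rTensor M (Finsupp.linearCombination R (id : S → S)) (e j) = 0 := by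
    intro j
    simp only [e, map_sum, LinearMap.rTensor_tmul, Finsupp.linearCombination_single, one_smul, id]
    exact hv j
  choose rep hrep using fun j => exists_rep_of_rTensor_eq_zero R S M (S →₀ R)
    (Finsupp.linearCombination R (id : S → S)) hπ (e j) (he j)
  let Z : Finset (S →₀ R) :=
    Z' ∪ Finset.univ.biUnion (fun j => (rep j).image (fun t => (t.1 : S →₀ R)))
  have hZ : ∀ z ∈ Z, Finsupp.linearCombination R (id : S → S) z = 0 := by
    intro z hz
    rcases Finset.mem_union.mp hz with hz | hz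
    · exact hZ' z hz
    · obtain ⟨j, -, hz⟩ := Finset.mem_biUnion.mp hz
      obtain ⟨t, -, rfl⟩ := Finset.mem_image.mp hz
      exact t.1.2
  let A : Finset S := insert 1 (Z.biUnion (fun z => z.support))
  have hsupp : ∀ z ∈ Z, z.support ⊆ A := fun z hz =>
    (Finset.subset_biUnion_of_mem (fun z : S →₀ R => z.support) hz).trans (Finset.subset_insert _ _)
  obtain ⟨y, hy1, hy⟩ := univInj_exists_solution R S h (ι := ↥A) (κ := ↥Z) (fun s => s.1)
    ⟨1, Finset.mem_insert_self _ _⟩ rfl (fun k s => k.1 s.1) (by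
      intro k
      have h1 := hZ k.1 k.2
      simp only [Finsupp.linearCombination_apply, id] at h1
      rw [Finsupp.sum_of_support_subset _ (hsupp k.1 k.2) _ (by simp)] at h1
      rw [← h1, ← Finset.sum_coe_sort A])
  let b : S → R := fun s => if hs : s ∈ A then y ⟨s, hs⟩ else 0
  have hb : ∀ z ∈ Z, Finsupp.linearCombination R b z = 0 := by
    intro z hz
    rw [Finsupp.linearCombination_apply, Finsupp.sum_of_support_subset _ (hsupp z hz) _ (by simp),
      ← Finset.sum_coe_sort A]
    rw [← hy ⟨z, hz⟩]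
    refine Finset.sum_congr rfl fun s _ => ?_
    simp [b, s.2]
  refine ⟨b, ?_, fun j => ?_, fun z hz => hb z (Finset.mem_union_left _ hz)⟩
  · have h1 : (1 : S) ∈ A := Finset.mem_insert_self _ _
    simp only [b, dif_pos h1]
    exact hy1
  · have key : TensorProduct.lid R M
        (LinearMap.rTensor M (Finsupp.linearCombination R b) (e j)) = ∑ i, b (c' i) • μ j i := by
      simp [e]
    rw [← key, hrep j]
    simp only [map_sum, LinearMap.rTensor_tmul, TensorProduct.lid_tmul]
    refine Finset.sum_eq_zero fun t ht => ?_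
    have htZ : (t.1 : S →₀ R) ∈ Z := Finset.mem_union_right _
      (Finset.mem_biUnion.mpr ⟨j, Finset.mem_univ _, Finset.mem_image.mpr ⟨t, ht, rfl⟩⟩)
    rw [hb _ htZ, zero_smul]

end Groth.Agent.Lib.Helper2
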