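import Groth.Agent.Lib.Helper2.GrConv
import Groth.Agent.Lib.Helper87.APolyF
import Groth.Agent.Lib.Helper87.KzLimB
import Groth.Agent.S18865

/-!
# The a-invariant of a weighted polynomial ring over a field
-/

set_option autoImplicit false
set_option linter.unusedSectionVars false
set_option linter.style.haveILetI false
set_option linter.deprecated false
universe u
attribute [local instance] MvPolynomial.weightedGradedAlgebra

namespace Groth.Agent.Lib.Helper2.WtPoly

open MvPolynomial DirectSum GrLC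
open Groth.Agent.Lib.Helper2

section

variable (k : Type u) [Field k] (N : ℕ) (w : Fin N → ℤ) (hw : ∀ i, 0 < w i)

include hw

theorem weight_nonneg (d : Fin N →₀ ℕ) : 0 ≤ Finsupp.weight w d := by
  rw [Finsupp.weight_apply, Finsupp.sum]
  apply Finset.sum_nonneg
  intro i _
  exact nsmul_nonneg (hw i).le _

theorem weight_eq_zero (d : Fin N →₀ ℕ) (h : Finsupp.weight w d = 0) : d = 0 := by
  rw [Finsupp.weight_apply, Finsupp.sum] at h
  have h1 := (Finset.sum_eq_zero_iff_of_nonneg (fun i _ => nsmul_nonneg (hw i).le _)).1 h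
  ext i
  rw [Finsupp.zero_apply]
  by_contra hne
  have hi : i ∈ d.support := Finsupp.mem_support_iff.2 hne
  have h2 := h1 i hi
  rw [nsmul_eq_mul] at h2
  rcases mul_eq_zero.1 h2 with h3 | h3
  · exact hne (by exact_mod_cast h3)
  · exact (hw i).ne' h3

theorem eq_zero_of_mem_neg {n : ℤ} (hn : n < 0) {p : MvPolynomial (Fin N) k}
    (hp : p ∈ weightedHomogeneousSubmodule k w n) : p = 0 := by
  rw [mem_weightedHomogeneousSubmodule] at hp
  by_contra hne
  obtain ⟨d, hd⟩ := MvPolynomial.ne_zero_iff.1 hne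
  have h1 := hp hd
  have h2 := weight_nonneg N w hw d
  omega

theorem hpos (n : ℤ) (hn : n < 0) :
    GrConv.toAdd (weightedHomogeneousSubmodule k w) n = ⊥ := by
  rw [eq_bot_iff]
  intro x hx
  exact (AddSubgroup.mem_bot).2 (eq_zero_of_mem_neg k N w hw hn hx)

theorem eq_C_of_mem_zero {p : MvPolynomial (Fin N) k}
    (hp : p ∈ weightedHomogeneousSubmodule k w 0) : p = C (coeff 0 p) := by
  classical
  rw [mem_weightedHomogeneousSubmodule] at hp
  ext d
  rw [coeff_C]
  by_cases hd : 0 = d
  · subst hd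
    rw [if_pos rfl]
  · rw [if_neg hd]
    by_contra hne
    exact hd (weight_eq_zero N w hw d (hp hne)).symm

theorem isField_deg0 : IsField (GrLC.deg0 (GrConv.toAdd (weightedHomogeneousSubmodule k w))) := by
  refine { exists_pair_ne := ⟨0, 1, ?_⟩, mul_comm := mul_comm, mul_inv_cancel := ?_ }
  · intro h
    have h1 := congrArg Subtype.val h
    exact zero_ne_one h1
  · intro a ha
    have hmem : (a : MvPolynomial (Fin N) k) ∈ weightedHomogeneousSubmodule k w 0 := a.2
    have hC := eq_C_of_mem_zero k N w hw hmem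
    obtain ⟨c, hcdef⟩ : ∃ c : k, c = coeff 0 (a : MvPolynomial (Fin N) k) := ⟨_, rfl⟩
    rw [← hcdef] at hC
    have hc : c ≠ 0 := by
      intro h0
      apply ha
      apply Subtype.ext
      rw [hC, h0, map_zero]
      rfl
    have hmem' : (C c⁻¹ : MvPolynomial (Fin N) k) ∈
        GrLC.deg0 (GrConv.toAdd (weightedHomogeneousSubmodule k w)) :=
      (mem_weightedHomogeneousSubmodule k w 0 _).2 (isWeightedHomogeneous_C w _)
    refine ⟨⟨C c⁻¹, hmem'⟩, ?_⟩
    apply Subtype.ext
    show (a : MvPolynomial (Fin N) k) * C c⁻¹ = 1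
    rw [hC, ← C_mul, mul_inv_cancel₀ hc, C_1]

theorem mem_span_X_of_pos {n : ℤ} (hn : 0 < n) {p : MvPolynomial (Fin N) k}
    (hp : p ∈ weightedHomogeneousSubmodule k w n) :
    p ∈ Ideal.span (Set.range (X : Fin N → MvPolynomial (Fin N) k)) := by
  rw [← Set.image_univ, MvPolynomial.mem_ideal_span_X_image]
  intro d hd
  rw [mem_weightedHomogeneousSubmodule] at hp
  have h1 := hp (MvPolynomial.mem_support_iff.1 hd)
  by_contra hcon
  push_neg at hcon
  have hd0 : d = 0 := by
    ext i
    simpa using hcon i (Set.mem_univ i)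
  rw [hd0, map_zero] at h1
  omega

/-- The top graded local cohomology of the weighted polynomial ring ends in degree `-∑ w`. -/
theorem endDeg_eq (m : HomogeneousIdeal (weightedHomogeneousSubmodule k w))
    (hm : GrLC.IsStarLocal (weightedHomogeneousSubmodule k w) m)
    (hmsp : m.toIdeal = Ideal.span (⋃ n ∈ Set.Ioi (0 : ℤ),
      (weightedHomogeneousSubmodule k w n : Set (MvPolynomial (Fin N) k))))
    (I : GrLC.StarInjRes (weightedHomogeneousSubmodule k w) (weightedHomogeneousSubmodule k w)) :
    (∀ j, -(∑ i, w i) < j →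
      (GrConv.resToAdd (weightedHomogeneousSubmodule k w) I).Hgr
        (GrConv.toAddIdeal (weightedHomogeneousSubmodule k w) m) N j = ⊥) ∧
    (GrConv.resToAdd (weightedHomogeneousSubmodule k w) I).Hgr
        (GrConv.toAddIdeal (weightedHomogeneousSubmodule k w) m) N (-(∑ i, w i)) ≠ ⊥ := by
  classical
  haveI : IsRegularRing (MvPolynomial (Fin N) k) := inferInstance
  haveI : LocCoh.IsCohenMacaulayRing (MvPolynomial (Fin N) k) :=
    Groth.Agent.S18865.isCohenMacaulayRing_of_isRegularRing _
  have hpos' := hpos k N w hw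
  have h0 := isField_deg0 k N w hw
  have hm₀ := GrConv.isStarLocal_toAdd (weightedHomogeneousSubmodule k w) m hm
  have hmsp₀ : (GrConv.toAddIdeal (weightedHomogeneousSubmodule k w) m).toIdeal =
      Ideal.span (⋃ n ∈ Set.Ioi (0 : ℤ),
        (GrConv.toAdd (weightedHomogeneousSubmodule k w) n : Set (MvPolynomial (Fin N) k))) := hmsp
  have hr : ringKrullDim (MvPolynomial (Fin N) k) = N := by
    rw [MvPolynomial.ringKrullDim_of_isNoetherianRing, ringKrullDim_eq_zero_of_field, zero_add,
      Nat.card_fin]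
  have hXdeg : ∀ i, (X i : MvPolynomial (Fin N) k) ∈
      GrConv.toAdd (weightedHomogeneousSubmodule k w) (w i) := fun i =>
    (mem_weightedHomogeneousSubmodule k w _ _).2 (isWeightedHomogeneous_X k w i)
  have hXm : ∀ i, (X i : MvPolynomial (Fin N) k) ∈
      (GrConv.toAddIdeal (weightedHomogeneousSubmodule k w) m).toIdeal := by
    intro i
    rw [hmsp₀]
    apply Ideal.subset_span
    simp only [Set.mem_iUnion, Set.mem_Ioi]
    exact ⟨w i, hw i, hXdeg i⟩
  have hreg : RingTheory.Sequence.IsWeaklyRegular (MvPolynomial (Fin N) k)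
      (List.ofFn (X : Fin N → MvPolynomial (Fin N) k)) := by
    have h := Groth.Agent.Lib.Helper87.KzLimB.isWeaklyRegular_X_pow k N 1
    have hl : ((List.ofFn fun j : Fin N => (X j : MvPolynomial (Fin N) k)).map (· ^ 1)) =
        List.ofFn (X : Fin N → MvPolynomial (Fin N) k) := by
      simp
      rfl
    rwa [hl] at h
  have hle : ∀ n : ℤ, 0 < n → ∀ x ∈ GrConv.toAdd (weightedHomogeneousSubmodule k w) n,
      x ∈ Ideal.span (Set.range (X : Fin N → MvPolynomial (Fin N) k)) :=
    fun n hn x hx => mem_span_X_of_pos k N w hw hn hx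
  have htors : (GrConv.toAddIdeal (weightedHomogeneousSubmodule k w) m).toIdeal ^ 1 ≤
      Ideal.span (Set.range (X : Fin N → MvPolynomial (Fin N) k)) := by
    rw [pow_one, hmsp₀, Ideal.span_le]
    intro y hy
    simp only [Set.mem_iUnion, Set.mem_Ioi] at hy
    obtain ⟨n, hn, hy⟩ := hy
    exact hle n hn y hy
  have hmne : (GrConv.toAddIdeal (weightedHomogeneousSubmodule k w) m).toIdeal ≠ ⊤ := by
    intro h
    apply hm₀.1.1
    apply HomogeneousIdeal.toIdeal_injective
    rw [h, HomogeneousIdeal.toIdeal_top]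
  have hkey := (Groth.Agent.Lib.Helper87.APolyF.key (MvPolynomial (Fin N) k)
    (GrConv.toAdd (weightedHomogeneousSubmodule k w)) hpos' h0
    (GrConv.toAddIdeal (weightedHomogeneousSubmodule k w) m) hm₀ hmsp₀ N hr
    (GrConv.resToAdd (weightedHomogeneousSubmodule k w) I) X w hXdeg hXm hreg 1 htors 0).mpr
    ⟨hle, fun h => hmne ((Ideal.eq_top_iff_one _).2
      ((Ideal.span_le.2 (by rintro _ ⟨i, rfl⟩; exact hXm i))
        (h 1 SetLike.GradedOne.one_mem)))⟩
  have hend : GrLC.endDeg ((GrConv.resToAdd (weightedHomogeneousSubmodule k w) I).Hgr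
      (GrConv.toAddIdeal (weightedHomogeneousSubmodule k w) m) N) =
      (((-(∑ i, w i) : ℤ) : WithTop ℤ) : WithBot (WithTop ℤ)) := by
    generalize GrLC.endDeg ((GrConv.resToAdd (weightedHomogeneousSubmodule k w) I).Hgr
      (GrConv.toAddIdeal (weightedHomogeneousSubmodule k w) m) N) = ee at hkey ⊢
    induction ee using WithBot.recBotCoe with
    | bot =>
      rw [WithBot.bot_add] at hkey
      exact absurd hkey WithBot.bot_ne_coe
    | coe ee =>
      induction ee using WithTop.recTopCoe with
      | top =>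
        exfalso
        have h1 : ((⊤ : WithTop ℤ) : WithBot (WithTop ℤ)) +
            (((∑ i, w i : ℤ) : WithTop ℤ) : WithBot (WithTop ℤ))
            = (((⊤ : WithTop ℤ) + ((∑ i, w i : ℤ) : WithTop ℤ) : WithTop ℤ) :
              WithBot (WithTop ℤ)) := rfl
        rw [h1, WithTop.top_add] at hkey
        have h2 : (⊤ : WithTop ℤ) = ((0 : ℤ) : WithTop ℤ) := WithBot.coe_injective hkey
        exact WithTop.top_ne_coe h2
      | coe z =>
        have h1 : (((z : ℤ) : WithTop ℤ) : WithBot (WithTop ℤ)) +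
            (((∑ i, w i : ℤ) : WithTop ℤ) : WithBot (WithTop ℤ)) =
            (((z + ∑ i, w i : ℤ) : WithTop ℤ) : WithBot (WithTop ℤ)) := by
          push_cast
          rfl
        rw [h1] at hkey
        have h2 : z + ∑ i, w i = 0 := by exact_mod_cast hkey
        have h3 : z = -(∑ i, w i) := by omega
        rw [h3]
  exact (Groth.Agent.Lib.Helper87.APolyF.endDeg_eq_coe_iff _ _).1 hend

end

end Groth.Agent.Lib.Helper2.WtPoly
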